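import Cfsg.Agent.Lib.G23Two.GenData
import Cfsg.Agent.Lib.GLTwoThree.Local
import Cfsg.Agent.Lib.Char.LocalTI

/-!
Eleven integral virtual characters of the model supported on the special classes, obtained as combinations
of characters induced from linear characters of small subgroups.
-/

set_option autoImplicit false
set_option maxRecDepth 100000
set_option maxHeartbeats 1000000
set_option linter.style.haveILetI false

namespace Cfsg.Agent.G23Two

open Cfsg Cfsg.Agent.Char Cfsg.Agent.LocalTI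
open Cfsg.Agent.GLTwoThree (zeta zp zp_add sum_zp)
open scoped ComplexConjugate

/-- A subgroup with the exponents of its character. -/
def L (j : Fin 33) : List (P × Fin 8) :=
  (subData.getD j.val []).map fun e => (dec e.1, Fin.ofNat 8 e.2)

/-- The exponent of an element. -/
def expo (j : Fin 33) (p : P) : Fin 8 :=
  match (L j).find? fun e => e.1 == p with
  | some e => e.2
  | none => 0

/-- The coefficient. -/
def coefAt (k : Fin 11) (j : Fin 33) : ℤ := (coef11.getD k.val []).getD j.val 0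

/-- The values of the eleven virtual characters. -/
def bvTable : List (List ℤ) := [
    [0, -2, -2, 0, 0, 0, 0, -12, -4, 0, 0, 0, 0, 0, 0, -4, 0, 0, 0, 0],
    [0, 0, 0, 0, 0, 0, 0, 0, -2, 0, 2, 0, 2, -4, 0, -8, 8, 0, 0, -16],
    [0, -2, -2, 0, 0, 0, 0, 12, 4, 0, 0, 0, 0, 0, 0, 4, 0, 0, 0, 0],
    [0, 0, 0, 0, 0, 0, 2, 8, 0, 0, -2, 0, -2, -8, 0, 0, 4, 0, 0, 16],
    [0, 2, 2, 0, 0, 0, -4, -4, 0, 0, 0, 0, 0, 0, 0, -12, 0, 0, 0, 0],
    [0, -2, -2, 0, 0, 0, 2, -4, 2, 0, 4, 0, -2, 4, 0, -4, 4, 0, 0, 16],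
    [0, 2, -2, 0, 0, 0, -4, -4, 4, 0, 0, 0, 0, 0, 0, 4, 0, 0, 0, 0],
    [0, -2, 2, 0, 0, 0, 2, -4, 2, 0, -4, 0, 2, -4, 0, -4, -4, 0, 0, -16],
    [0, -2, 2, 0, 0, 0, 0, -12, 0, 0, 0, 0, 0, 0, 0, 12, 0, 0, 0, 0],
    [0, 0, 0, 0, 0, 0, 0, 0, 0, 0, 6, 0, -6, 0, 0, 0, 0, 0, 0, 0],
    [0, 0, 0, 0, 0, 0, -4, 8, 0, 0, 4, 0, 4, -8, 0, 0, -8, 0, 0, 16]]

/-- The value of a virtual character at a class. -/
def bv (k : Fin 11) (c : ℕ) : ℤ := (bvTable.getD k.val []).getD c 0

/-- The virtual characters. -/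
def vec (k : Fin 11) (x : Mod) : ℤ := bv k (clP x.1)

theorem L_spec : ∀ j : Fin 33, ∀ e ∈ L j, OK e.1 ∧ expo j e.1 = e.2 := by decide +kernel

theorem L_one : ∀ j : Fin 33, ((oneV, oneV), (0 : Fin 8)) ∈ L j := by decide +kernel

/-- The code of a pair. -/
def codeP (p : P) : ℕ :=
  p.1.1 + 3 * p.1.2.1 + 9 * p.1.2.2.1 + 27 * p.1.2.2.2 +
    81 * (p.2.1 + 3 * p.2.2.1 + 9 * p.2.2.2.1 + 27 * p.2.2.2.2)

theorem dec_codeP : ∀ p ∈ elems, dec (codeP p) = p := by decide +kernel

theorem subData_mul : ((List.range 33).all fun j =>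
    let S := subData.getD j []
    let T := S.map fun e => 8 * e.1 + e.2
    S.all fun a => S.all fun b =>
      T.any fun t => Nat.beq t (8 * codeP (nm (mulP (dec a.1) (dec b.1))) + (a.2 + b.2) % 8)) = true := by
  decide +kernel

theorem subData_lt : ((List.range 33).all fun j =>
    (subData.getD j []).all fun e => e.2 < 8) = true := by decide +kernel

theorem L_mul (j : Fin 33) (e : P × Fin 8) (he : e ∈ L j) (f : P × Fin 8) (hf : f ∈ L j) :
    (nm (mulP e.1 f.1), e.2 + f.2) ∈ L j := by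
  have hok := ok_nm (pre_mul (L_spec j e he).1.pre (L_spec j f hf).1.pre)
  obtain ⟨a, ha, rfl⟩ := List.mem_map.1 he
  obtain ⟨b, hb, rfl⟩ := List.mem_map.1 hf
  have h1 := List.all_eq_true.1 subData_mul j.val (List.mem_range.2 j.2)
  have h2 := List.all_eq_true.1 (List.all_eq_true.1 h1 a ha) b hb
  obtain ⟨t, ht, hte⟩ := List.any_eq_true.1 h2
  obtain ⟨c, hc, rfl⟩ := List.mem_map.1 ht
  have hlt := List.all_eq_true.1 (List.all_eq_true.1 subData_lt j.val (List.mem_range.2 j.2))
  have hl : ∀ x ∈ subData.getD j.val [], x.2 < 8 := fun x hx => by simpa using hlt x hx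
  have heq := Nat.eq_of_beq_eq_true hte
  have la := hl a ha
  have lb := hl b hb
  have lc := hl c hc
  obtain ⟨c1, c2⟩ : c.1 = codeP (nm (mulP (dec a.1) (dec b.1))) ∧ c.2 = (a.2 + b.2) % 8 := by omega
  refine List.mem_map.2 ⟨c, hc, Prod.ext ?_ (Fin.ext ?_)⟩
  · rw [c1]; exact dec_codeP _ (mem_elems.2 hok)
  · simp only [Fin.val_ofNat, Fin.val_add, c2]
    omega

theorem L_inv : ∀ j : Fin 33, ∀ e ∈ L j, (nm (invV e.1.1, invV e.1.2), -e.2) ∈ L j := by
  decide +kernel

theorem L_nodup : ∀ j : Fin 33, ((L j).map Prod.fst).Nodup := by decide +kernel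

/-- The classes of the elements of a subgroup. -/
def LC (j : Fin 33) : List (ℕ × Fin 8) :=
  (subClasses.getD j.val []).map fun e => (e.1, Fin.ofNat 8 e.2)

theorem LC_eq : ∀ j : Fin 33, (L j).map (fun e => (clP e.1, e.2)) = LC j := by decide +kernel

/-- The subgroups. -/
def dom (j : Fin 33) : Subgroup Mod where
  carrier := {x | ∃ i : Fin 8, (x.1, i) ∈ L j}
  one_mem' := ⟨0, L_one j⟩
  mul_mem' := fun {a b} ⟨i, hi⟩ ⟨k, hk⟩ => ⟨i + k, L_mul j _ hi _ hk⟩
  inv_mem' := fun {a} ⟨i, hi⟩ => ⟨-i, L_inv j _ hi⟩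

theorem expo_eq {j : Fin 33} {p : P} {i : Fin 8} (h : (p, i) ∈ L j) : expo j p = i :=
  (L_spec j _ h).2

theorem expo_mul {j : Fin 33} {a b : Mod} (ha : a ∈ dom j) (hb : b ∈ dom j) :
    expo j (a * b).1 = expo j a.1 + expo j b.1 := by
  obtain ⟨i, hi⟩ := ha
  obtain ⟨k, hk⟩ := hb
  rw [expo_eq hi, expo_eq hk]
  exact expo_eq (L_mul j _ hi _ hk)

/-- The linear characters. -/
noncomputable def lin (j : Fin 33) : dom j →* ℂˣ :=
  MonoidHom.toHomUnits
    { toFun := fun x => zp (expo j x.1.1)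
      map_one' := by
        show zp (expo j (1 : Mod).1) = 1
        rw [expo_eq (j := j) (i := 0) (p := (1 : Mod).1) (L_one j)]
        simp [zp]
      map_mul' := fun a b => by
        show zp (expo j (a.1 * b.1).1) = _
        rw [expo_mul a.2 b.2, zp_add] }

/-- The list of the elements of a subgroup. -/
def els (j : Fin 33) : List (Mod × Fin 8) :=
  (L j).pmap (fun e (h : OK e.1) => ((⟨e.1, h⟩ : Mod), e.2)) fun e he => (L_spec j e he).1

theorem mem_els {j : Fin 33} {x : Mod} {i : Fin 8} : (x, i) ∈ els j ↔ (x.1, i) ∈ L j := by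
  simp only [els, List.mem_pmap]
  constructor
  · rintro ⟨e, he, h⟩
    obtain ⟨h1, rfl⟩ := Prod.ext_iff.1 h
    subst h1
    exact he
  · intro h
    exact ⟨_, h, rfl⟩

theorem els_nodup (j : Fin 33) : ((els j).map Prod.fst).Nodup := by
  have h : ((els j).map Prod.fst).map (fun x : Mod => x.1) = (L j).map Prod.fst := by
    rw [els, List.map_pmap, List.map_pmap]
    exact List.pmap_eq_map ..
  exact List.Nodup.of_map _ (h ▸ L_nodup j)

theorem mem_dom_iff {j : Fin 33} {x : Mod} : x ∈ dom j ↔ x ∈ (els j).map Prod.fst := by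
  simp only [List.mem_map, Prod.exists, mem_els, exists_and_right, exists_eq_right]
  rfl

theorem sum_dom (j : Fin 33) (g : Mod → ℂ) :
    ∑ x, extendByZero (dom j) (fun x => (lin j x : ℂ)) x * g x =
      ((els j).map fun e => zp e.2 * g e.1).sum := by
  classical
  rw [← Finset.sum_subset (Finset.subset_univ ((els j).map Prod.fst).toFinset)]
  · rw [List.sum_toFinset _ (els_nodup j), List.map_map]
    refine congrArg List.sum (List.map_congr_left fun e he => ?_)
    have he' : (e.1.1, e.2) ∈ L j := mem_els.1 he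
    have hd : e.1 ∈ dom j := ⟨_, he'⟩
    show extendByZero (dom j) (fun x => (lin j x : ℂ)) e.1 * g e.1 = zp e.2 * g e.1
    rw [extendByZero_mem _ _ hd]
    show zp (expo j e.1.1) * _ = _
    rw [expo_eq he']
  · intro x _ hx
    rw [extendByZero_not_mem _ _ (fun h => hx (List.mem_toFinset.2 (mem_dom_iff.1 h))), zero_mul]

theorem card_dom (j : Fin 33) : Nat.card (dom j) = (L j).length := by
  classical
  rw [Nat.card_eq_fintype_card, Fintype.card_subtype,
    show (Finset.univ.filter fun x => x ∈ dom j) = ((els j).map Prod.fst).toFinset from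
      Finset.ext fun x => by simp only [Finset.mem_filter, Finset.mem_univ, true_and, List.mem_toFinset,
        mem_dom_iff],
    List.toFinset_card_of_nodup (els_nodup j), els, List.length_map, List.length_pmap]

theorem card_class (c : Fin 20) :
    (Finset.univ.filter fun y : Mod => cl y = c).card = sizes.getD c.val 0 := by
  classical
  have h1 := List.all_eq_true.1 size_check (sizes.getD c.val 0, c.val) (by
    have hc : c.val < sizes.length := c.2
    rw [List.mem_zipIdx_iff_getElem?]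
    simp [List.getD_eq_getElem?_getD, hc])
  rw [beq_iff_eq] at h1
  dsimp only at h1
  rw [← h1, ← List.toFinset_card_of_nodup (elems_nodup.filter _)]
  refine Finset.card_bij (fun y _ => y.1) (fun y hy => ?_) (fun a _ b _ h => Subtype.ext h) (fun p hp => ?_)
  · rw [Finset.mem_filter] at hy
    rw [List.mem_toFinset, List.mem_filter, beq_iff_eq]
    exact ⟨mem_elems.2 y.2, by rw [← cl_val, hy.2]⟩
  · rw [List.mem_toFinset, List.mem_filter, beq_iff_eq] at hp
    exact ⟨⟨p, mem_elems.1 hp.1⟩, Finset.mem_filter.2 ⟨Finset.mem_univ _, Fin.ext ((cl_val _).trans hp.2)⟩,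
      rfl⟩

theorem isConj_of_cl {a b : Mod} (h : cl a = cl b) : IsConj a b := by
  obtain ⟨k, hk⟩ := conj_rep a
  obtain ⟨l, hl⟩ := conj_rep b
  exact (isConj_iff.2 ⟨k, hk⟩).symm.trans (h ▸ isConj_iff.2 ⟨l, hl⟩)

open scoped Classical in
theorem class_sum (F : Mod → ℂ) (h : Mod) :
    (sizes.getD (cl h).val 0 : ℂ) * ∑ x, F (x⁻¹ * h * x) =
      576 * ∑ y, if cl y = cl h then F y else 0 := by
  set N : Mod → ℕ := fun y => (Finset.univ.filter fun x : Mod => x⁻¹ * h * x = y).card with hN
  have hzero : ∀ y, cl y ≠ cl h → N y = 0 := by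
    intro y hy
    refine Finset.card_eq_zero.2 (Finset.filter_eq_empty_iff.2 fun x _ e => hy ?_)
    rw [← e]
    simpa using cl_conj h x⁻¹
  have hconst : ∀ y, cl y = cl h → N y = N h := by
    intro y hy
    obtain ⟨k, hk⟩ := isConj_iff.1 (isConj_of_cl hy)
    refine Finset.card_bij (fun x _ => x * k⁻¹) (fun x hx => ?_) (fun a _ b _ e => mul_right_cancel e)
      (fun x hx => ⟨x * k, ?_, by group⟩)
    · rw [Finset.mem_filter] at hx ⊢
      refine ⟨Finset.mem_univ _, ?_⟩
      calc (x * k⁻¹)⁻¹ * h * (x * k⁻¹) = k * (x⁻¹ * h * x) * k⁻¹ := by group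
        _ = h := by rw [hx.2, hk]
    · rw [Finset.mem_filter] at hx ⊢
      refine ⟨Finset.mem_univ _, ?_⟩
      calc (x * k)⁻¹ * h * (x * k) = k⁻¹ * (x⁻¹ * h * x) * k := by group
        _ = k⁻¹ * (k * y * k⁻¹) * k := by rw [hx.2, hk]
        _ = y := by group
  have htot : ∑ y, N y = 576 := by
    rw [hN, ← Finset.card_eq_sum_card_fiberwise (fun x _ => Finset.mem_univ _), Finset.card_univ, card_Mod]
  have hsum : ∑ y, N y = sizes.getD (cl h).val 0 * N h := by
    rw [← card_class, Finset.card_filter, Finset.sum_mul]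
    refine Finset.sum_congr rfl fun y _ => ?_
    by_cases hy : cl y = cl h
    · rw [if_pos hy, one_mul, hconst y hy]
    · rw [if_neg hy, zero_mul, hzero y hy]
  have hf : ∑ x, F (x⁻¹ * h * x) = (N h : ℂ) * ∑ y, if cl y = cl h then F y else 0 := by
    rw [← Finset.sum_fiberwise Finset.univ (fun x : Mod => x⁻¹ * h * x), Finset.mul_sum]
    refine Finset.sum_congr rfl fun y _ => ?_
    rw [Finset.sum_congr rfl (fun x hx => by rw [(Finset.mem_filter.1 hx).2] : ∀ x ∈ _,
      F (x⁻¹ * h * x) = F y), Finset.sum_const, nsmul_eq_mul]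
    show (N y : ℂ) * F y = _
    by_cases hy : cl y = cl h
    · rw [if_pos hy, hconst y hy]
    · rw [if_neg hy, hzero y hy, Nat.cast_zero, zero_mul, mul_zero]
  rw [hf, ← mul_assoc, ← Nat.cast_mul, ← hsum, htot]
  norm_num

/-- The coefficient of a root of unity in an induced combination. -/
def tot (k : Fin 11) (c : ℕ) (i : Fin 8) : ℤ :=
  ((List.finRange 33).map fun j => coefAt k j * ((576 / (LC j).length : ℕ) : ℤ) *
    (((LC j).countP fun e => e.1 == c && e.2 == i : ℕ) : ℤ)).sum

theorem val_check : ∀ k : Fin 11, ∀ c : Fin 20,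
    tot k c 0 - tot k c 4 = bv k c * ((sizes.getD c.val 0 : ℕ) : ℤ) ∧
    tot k c 1 = tot k c 5 ∧ tot k c 2 = tot k c 6 ∧ tot k c 3 = tot k c 7 := by decide +kernel

theorem length_dvd : ∀ j : Fin 33, (LC j).length ∣ 576 ∧ (LC j).length ≠ 0 := by decide +kernel

theorem sum_indicator (l : List (ℕ × Fin 8)) (c : ℕ) :
    (l.map fun e => if e.1 = c then zp e.2 else 0).sum =
      ∑ i, ((l.countP fun e => e.1 == c && e.2 == i : ℕ) : ℂ) * zp i := by
  induction l with
  | nil => simp
  | cons e l ih =>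
    rw [List.map_cons, List.sum_cons, ih]
    simp only [List.countP_cons, Nat.cast_add, add_mul, Finset.sum_add_distrib, add_comm (if _ then _ else _)]
    congr 1
    by_cases h : e.1 = c
    · rw [if_pos h, Finset.sum_eq_single e.2]
      · simp [h]
      · intro i _ hi
        simp [Ne.symm hi]
      · simp
    · rw [if_neg h]
      simp [h]

theorem vec_eq (k : Fin 11) : (fun x => (vec k x : ℂ)) =
    ∑ j, (coefAt k j : ℂ) • indFun (dom j) (fun x => (lin j x : ℂ)) := by
  classical
  funext h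
  simp only [Finset.sum_apply, Pi.smul_apply, smul_eq_mul, indFun_apply]
  have hs : (sizes.getD (cl h).val 0 : ℂ) ≠ 0 := by
    refine Nat.cast_ne_zero.2 ?_
    have : ∀ c : Fin 20, sizes.getD c.val 0 ≠ 0 := by decide
    exact this _
  have key : ∀ j : Fin 33, (sizes.getD (cl h).val 0 : ℂ) * ((Nat.card (dom j) : ℂ)⁻¹ *
      ∑ x, extendByZero (dom j) (fun x => (lin j x : ℂ)) (x⁻¹ * h * x)) =
      ((576 / (LC j).length : ℕ) : ℂ) *
        ∑ i, (((LC j).countP fun e => e.1 == (cl h).val && e.2 == i : ℕ) : ℂ) * zp i := by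
    intro j
    have hlen : (L j).length = (LC j).length := by rw [← LC_eq, List.length_map]
    rw [mul_left_comm, class_sum, card_dom, hlen, Nat.cast_div (length_dvd j).1
      (Nat.cast_ne_zero.2 (length_dvd j).2)]
    have e : ∀ y : Mod, (if cl y = cl h then extendByZero (dom j) (fun x => (lin j x : ℂ)) y else 0) =
        extendByZero (dom j) (fun x => (lin j x : ℂ)) y * (if cl y = cl h then 1 else 0) := by
      intro y; split_ifs <;> simp
    rw [Finset.sum_congr rfl fun y _ => e y, sum_dom, ← sum_indicator, ← LC_eq, els,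
      List.map_pmap, List.map_map, List.pmap_eq_map_attach]
    rw [show ((L j).attach.map fun e => zp e.1.2 * (if cl (⟨e.1.1, _⟩ : Mod) = cl h then (1 : ℂ) else 0)) =
      (L j).attach.map (fun e => ((fun e : ℕ × Fin 8 => if e.1 = (cl h).val then zp e.2 else 0) ∘
        fun e : P × Fin 8 => (clP e.1, e.2)) e.1) from List.map_congr_left fun e _ => by
          have hv : (cl (⟨e.1.1, (L_spec j e.1 e.2).1⟩ : Mod)).val = clP e.1.1 := cl_val _
          simp only [Fin.ext_iff, hv, Function.comp]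
          by_cases hh : clP e.1.1 = (cl h).val <;> simp [hh], List.attach_map_val]
    push_cast
    ring
  refine mul_left_cancel₀ hs ?_
  rw [Finset.mul_sum]
  simp only [fun j => mul_left_comm (sizes.getD (cl h).val 0 : ℂ) (coefAt k j : ℂ), key]
  obtain ⟨h0, h1, h2, h3⟩ := val_check k (cl h)
  have htot : ∀ i, (tot k (cl h).val i : ℂ) = ∑ j, (coefAt k j : ℂ) * (((576 / (LC j).length : ℕ) : ℂ) *
      (((LC j).countP fun e => e.1 == (cl h).val && e.2 == i : ℕ) : ℂ)) := by
    intro i
    rw [tot, ← Fin.sum_univ_def, Int.cast_sum]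
    refine Finset.sum_congr rfl fun j _ => ?_
    rw [Int.cast_mul, Int.cast_mul, Int.cast_natCast, Int.cast_natCast]
    ring
  have := sum_zp fun i => tot k (cl h).val i
  rw [h0, h1, h2, h3] at this
  simp only [sub_self, Int.cast_zero, zero_mul, add_zero] at this
  simp only [htot] at this
  rw [vec, ← cl_val, mul_comm, ← Int.cast_natCast, ← Int.cast_mul]
  rw [← this]
  simp only [Finset.sum_mul, Finset.mul_sum]
  rw [Finset.sum_comm]
  refine Finset.sum_congr rfl fun i _ => Finset.sum_congr rfl fun l _ => ?_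
  ring

theorem vec_supp : ∀ k : Fin 11, ∀ c : Fin 20, bv k c ≠ 0 → (c : ℕ) ∈ special := by decide +kernel

/-- The virtual characters are supported on the special elements. -/
theorem vanish_vec (k : Fin 11) : Vanish Dset (vec k) where
  cls := fun g h => by simp only [vec, clP_conj]
  supp := fun h hh => by
    have h2 := vec_supp k (cl h) (by rwa [cl_val])
    rw [cl_val] at h2
    exact h2
  gen := by
    rw [vec_eq]
    refine isGeneralizedCharacter_sum _ fun j _ => ?_
    exact IsGeneralizedCharacter.int_smul (IsGeneralizedCharacter.indFun _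
      (IsGeneralizedCharacter.of_isCharacter (IsIrrCharacter.isCharacter (isIrrCharacter_linear (lin j))))) _

end Cfsg.Agent.G23Two
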