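import Cfsg.Agent.Lib.G23Two.ParaModel
import Cfsg.Agent.Lib.G23Two.Gen
import Cfsg.Agent.Lib.Char.Integral
import Mathlib.GroupTheory.SpecificGroups.Quaternion
import Mathlib.Analysis.SpecialFunctions.Complex.Circle

/-!
Congruences between the values of an irreducible character at `1`, at the central involution and at the
products of the element of order three of the first factor with the quaternion group of the second.
-/

set_option autoImplicit false
set_option maxRecDepth 100000
set_option maxHeartbeats 1000000
set_option linter.style.haveILetI false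

namespace Cfsg.Agent.G23Two

open Cfsg Cfsg.Agent.Char

universe u

namespace Residue

/-- The elementary abelian group of order eight. -/
abbrev E8 : Type := Multiplicative (ZMod 2 × ZMod 2 × ZMod 2)

/-- The group `3 × Q₈`. -/
abbrev CQ : Type := Multiplicative (ZMod 3) × QuaternionGroup 2

/-- The embedding of the elementary abelian group. -/
def fE (t : E8) : Mod :=
  zM ^ (Multiplicative.toAdd t).1.val *
    (wM' * wM) ^ (Multiplicative.toAdd t).2.1.val * (jM' * jM) ^ (Multiplicative.toAdd t).2.2.val

/-- The quaternion group of the second factor. -/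
def fQ : QuaternionGroup 2 → Mod
  | QuaternionGroup.a i => wM ^ i.val
  | QuaternionGroup.xa i => jM * wM ^ i.val

/-- The embedding of `3 × Q₈`. -/
def fC (t : CQ) : Mod := aM ^ (Multiplicative.toAdd t.1).val * fQ t.2

theorem fE_mul : ∀ s t : E8, fE (s * t) = fE s * fE t := by decide +kernel

theorem fC_mul : ∀ s t : CQ, fC (s * t) = fC s * fC t := by decide +kernel

/-- The representatives of the values on `3 × Q₈`. -/
def repC (t : CQ) : Mod :=
  if t.2 = 1 then (if t.1 = 1 then 1 else aM)
  else if t.2 = QuaternionGroup.a 2 then (if t.1 = 1 then zM else aM * zM)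
  else (if t.1 = 1 then wM else aM * wM)

theorem fC_class : ∀ t : CQ, clP (fC t).1 = clP (repC t).1 := by decide +kernel

/-- The representatives on the elementary abelian group. -/
theorem fE_class : ∀ t : ZMod 2 × ZMod 2, t ≠ (0, 0) →
    clP (fE (Multiplicative.ofAdd (1, t))).1 = clP (fE (Multiplicative.ofAdd (0, t))).1 := by
  decide +kernel

theorem fE_base : fE (Multiplicative.ofAdd ((0 : ZMod 2), (0 : ZMod 2), (0 : ZMod 2))) = 1 ∧
    fE (Multiplicative.ofAdd ((1 : ZMod 2), (0 : ZMod 2), (0 : ZMod 2))) = zM := by decide +kernel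

theorem inv_class : clP (aM⁻¹).1 = clP aM.1 := by decide +kernel

theorem univ_Q : (Finset.univ : Finset (QuaternionGroup 2)) =
    {QuaternionGroup.a 0, QuaternionGroup.a 1, QuaternionGroup.a 2, QuaternionGroup.a 3,
      QuaternionGroup.xa 0, QuaternionGroup.xa 1, QuaternionGroup.xa 2, QuaternionGroup.xa 3} := by
  decide +kernel

theorem univ_three : (Finset.univ : Finset (Multiplicative (ZMod 3))) =
    {Multiplicative.ofAdd 0, Multiplicative.ofAdd 1, Multiplicative.ofAdd 2} := by decide +kernel

theorem univ_two : (Finset.univ : Finset (ZMod 2)) = {0, 1} := by decide +kernel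

theorem conj_of_clP {x y : Mod} (h : clP x.1 = clP y.1) : IsConj x y :=
  isConj_of_cl (Fin.ext (by rw [cl_val, cl_val]; exact h))

/-- The primitive cube root of unity. -/
noncomputable def omega : ℂ := Complex.exp (2 * Real.pi * Complex.I / 3)

theorem omega_pow : omega ^ 3 = 1 := by
  rw [omega, ← Complex.exp_nat_mul, ← Complex.exp_two_pi_mul_I]
  congr 1
  push_cast
  ring

theorem omega_ne : omega ≠ 1 := by
  rw [omega, Ne, Complex.exp_eq_one_iff]
  rintro ⟨n, hn⟩
  have hne : (2 * Real.pi * Complex.I : ℂ) ≠ 0 := by simp [Real.pi_ne_zero]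
  have h3 : ((3 * n : ℤ) : ℂ) = 1 := by
    push_cast
    apply mul_right_cancel₀ hne
    linear_combination (-3 : ℂ) * hn
  have h4 : (3 * n : ℤ) = 1 := by exact_mod_cast h3
  omega

/-- The linear character of `3 × Q₈` faithful on the first factor. -/
noncomputable def lam : CQ →* ℂˣ where
  toFun t := (Units.mk0 omega (Complex.exp_ne_zero _)) ^ (Multiplicative.toAdd t.1).val
  map_one' := by simp
  map_mul' s t := by
    have h3 : (Units.mk0 omega (Complex.exp_ne_zero _)) ^ 3 = 1 := Units.ext (by rw [Units.val_pow_eq_pow_val]; exact omega_pow)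
    rw [← pow_add, Prod.fst_mul, toAdd_mul, ZMod.val_add, ← pow_eq_pow_mod _ h3]

/-- The linear character of the elementary abelian group negative at the central involution. -/
noncomputable def mu : E8 →* ℂˣ where
  toFun t := (-1) ^ (Multiplicative.toAdd t).1.val
  map_one' := by simp
  map_mul' s t := by
    rw [← pow_add, toAdd_mul, Prod.fst_add, ZMod.val_add, ← pow_eq_pow_mod _ (neg_one_sq)]

end Residue

open Residue

/-- The congruences. -/
theorem residue {G : Type u} [Group G] [Fintype G] (phi : Mod →* G) (hinj : Function.Injective phi)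
    (chi : IrrCharacter G) (d v p q : ℤ) (hd : (chi : G → ℂ) 1 = d) (hv : (chi : G → ℂ) (phi zM) = v)
    (hp : (chi : G → ℂ) (phi (aM * zM)) = p) (hq : (chi : G → ℂ) (phi (aM * wM)) = q) :
    8 ∣ d - v ∧ ∃ x : ℤ, (chi : G → ℂ) (phi aM) = x ∧ 3 ∣ x - d ∧ 8 ∣ x + p + 6 * q := by
  have _ := hinj
  obtain ⟨χ, hirr⟩ := chi
  change χ 1 = d at hd
  change χ (phi zM) = v at hv
  change χ (phi (aM * zM)) = p at hp
  change χ (phi (aM * wM)) = q at hq
  have hχ : Cfsg.IsCharacter G χ := IsIrrCharacter.isCharacter hirr
  have hcls : ∀ {x y : Mod}, clP x.1 = clP y.1 → χ (phi x) = χ (phi y) := by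
    intro x y h
    obtain ⟨c, rfl⟩ := isConj_iff.1 (conj_of_clP h)
    rw [map_mul, map_mul, map_inv]
    exact (IsCharacter.isClassFunction hχ _ _).symm
  constructor
  · -- the elementary abelian group
    let f : E8 →* G := phi.comp (MonoidHom.mk' fE fE_mul)
    obtain ⟨n, hn⟩ := IsCharacter.exists_classInner_nat (IsCharacter.comp hχ f)
      (IsIrrCharacter.isCharacter (isIrrCharacter_linear mu))
    have hsum : ∑ t : E8, χ (f t) * starRingEnd ℂ ((mu t : ℂˣ) : ℂ) = d - v := by
      rw [← Multiplicative.ofAdd.sum_comp, Fintype.sum_prod_type, univ_two,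
        Finset.sum_pair (by decide)]
      have e0 : ∀ t : ZMod 2 × ZMod 2, ((mu (Multiplicative.ofAdd ((0 : ZMod 2), t)) : ℂˣ) : ℂ) = 1 := fun t => by
        simp [mu]
      have e1 : ∀ t : ZMod 2 × ZMod 2, ((mu (Multiplicative.ofAdd ((1 : ZMod 2), t)) : ℂˣ) : ℂ) = -1 := fun t => by
        show (((-1 : ℂˣ) ^ (1 : ZMod 2).val : ℂˣ) : ℂ) = -1
        rw [show (1 : ZMod 2).val = 1 from rfl, pow_one]
        simp
      simp only [e0, e1, map_one, map_neg, mul_one, mul_neg, Finset.sum_neg_distrib, ← sub_eq_add_neg]
      rw [← Finset.sum_sub_distrib, Finset.sum_eq_single (0, 0)]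
      · show χ (phi (fE _)) - χ (phi (fE _)) = _
        rw [fE_base.1, fE_base.2, map_one, hd, hv]
      · intro t _ ht
        show χ (phi (fE _)) - χ (phi (fE _)) = 0
        rw [hcls (fE_class t ht), sub_self]
      · simp
    rw [Cfsg.classInner, hsum, Nat.card_eq_fintype_card, show Fintype.card E8 = 8 from rfl] at hn
    refine ⟨n, ?_⟩
    have h2 : ((d - v : ℤ) : ℂ) = ((8 * n : ℤ) : ℂ) := by
      push_cast
      rw [← hn]
      push_cast
      ring
    exact_mod_cast h2
  · -- the cyclic group of order three and `3 × Q₈`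
    let f : CQ →* G := phi.comp (MonoidHom.mk' fC fC_mul)
    set x := χ (phi aM) with hx
    set u := χ (phi wM) with hu
    have hval : ∀ t : CQ, χ (f t) = χ (phi (repC t)) := fun t => hcls (fC_class t)
    -- sums over the quaternion group
    have hfib : ∀ i : Multiplicative (ZMod 3), ∑ s : QuaternionGroup 2, χ (f (i, s)) =
        if i = 1 then (d : ℂ) + v + 6 * u else x + p + 6 * q := by
      intro i
      simp only [hval, univ_Q]
      rw [Finset.sum_insert (by decide), Finset.sum_insert (by decide), Finset.sum_insert (by decide),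
        Finset.sum_insert (by decide), Finset.sum_insert (by decide), Finset.sum_insert (by decide),
        Finset.sum_insert (by decide), Finset.sum_singleton]
      have r0 : repC (i, QuaternionGroup.a 0) = if i = 1 then 1 else aM := if_pos rfl
      have r2 : repC (i, QuaternionGroup.a 2) = if i = 1 then zM else aM * zM :=
        (if_neg (show ¬ QuaternionGroup.a (2 : ZMod (2 * 2)) = 1 by decide)).trans (if_pos rfl)
      have r : ∀ s : QuaternionGroup 2, s ≠ 1 → s ≠ QuaternionGroup.a 2 →
          repC (i, s) = if i = 1 then wM else aM * wM := fun s h1 h2 => (if_neg h1).trans (if_neg h2)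
      rw [r0, r2, r _ (by decide) (by decide), r _ (by decide) (by decide), r _ (by decide) (by decide),
        r _ (by decide) (by decide), r _ (by decide) (by decide), r _ (by decide) (by decide)]
      split_ifs
      · rw [map_one, hd, hv, ← hu]; ring
      · rw [← hx, hp, hq]; ring
    obtain ⟨n, hn⟩ := IsCharacter.exists_classInner_nat (IsCharacter.comp hχ f) isCharacter_one
    obtain ⟨m, hm⟩ := IsCharacter.exists_classInner_nat (IsCharacter.comp hχ f)
      (IsIrrCharacter.isCharacter (isIrrCharacter_linear lam))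
    have hcard : (Nat.card CQ : ℂ) = 24 := by
      rw [Nat.card_eq_fintype_card, show Fintype.card CQ = 24 from rfl]; norm_num
    have hne0 : (Multiplicative.ofAdd (1 : ZMod 3)) ≠ 1 := by decide
    have hne1 : (Multiplicative.ofAdd (2 : ZMod 3)) ≠ 1 := by decide
    have hn' : ((d : ℂ) + v + 6 * u) + 2 * (x + p + 6 * q) = 24 * n := by
      rw [Cfsg.classInner, hcard] at hn
      simp only [map_one, mul_one, Fintype.sum_prod_type, hfib, univ_three] at hn
      rw [Finset.sum_insert (by decide), Finset.sum_insert (by decide), Finset.sum_singleton,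
        if_pos (show Multiplicative.ofAdd (0 : ZMod 3) = 1 from rfl), if_neg hne0, if_neg hne1] at hn
      rw [← hn]; ring
    have hm' : ((d : ℂ) + v + 6 * u) - (x + p + 6 * q) = 24 * m := by
      rw [Cfsg.classInner, hcard] at hm
      simp only [Fintype.sum_prod_type] at hm
      have el : ∀ (i : Multiplicative (ZMod 3)) (s : QuaternionGroup 2),
          ((lam (i, s) : ℂˣ) : ℂ) = omega ^ (Multiplicative.toAdd i).val := fun i s => by
        show (((Units.mk0 omega (Complex.exp_ne_zero _)) ^ (Multiplicative.toAdd i).val : ℂˣ) : ℂ) = _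
        rw [Units.val_pow_eq_pow_val]
        rfl
      simp only [el, ← Finset.sum_mul, hfib, univ_three] at hm
      rw [Finset.sum_insert (by decide), Finset.sum_insert (by decide), Finset.sum_singleton,
        if_pos (show Multiplicative.ofAdd (0 : ZMod 3) = 1 from rfl), if_neg hne0, if_neg hne1] at hm
      simp only [toAdd_ofAdd, show (0 : ZMod 3).val = 0 from rfl, show (1 : ZMod 3).val = 1 from rfl,
        show (2 : ZMod 3).val = 2 from rfl, pow_zero, pow_one, map_one, mul_one, map_pow] at hm
      have hw : 1 + starRingEnd ℂ omega + starRingEnd ℂ omega ^ 2 = 0 := by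
        have h1 : (omega - 1) * (1 + omega + omega ^ 2) = 0 := by linear_combination omega_pow
        have h2 := (mul_eq_zero.1 h1).resolve_left (sub_ne_zero.2 omega_ne)
        have h3 := congrArg (starRingEnd ℂ) h2
        simpa using h3
      rw [← hm]
      linear_combination (-(x + p + 6 * q)) * hw
    -- the subgroup of order three
    let f₃ : Multiplicative (ZMod 3) →* G := f.comp (MonoidHom.inl _ _)
    obtain ⟨r, hr⟩ := IsCharacter.exists_classInner_nat (IsCharacter.comp hχ f₃) isCharacter_one
    have hr' : (d : ℂ) + 2 * x = 3 * r := by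
      rw [Cfsg.classInner, show (Nat.card (Multiplicative (ZMod 3)) : ℂ) = 3 by
        rw [Nat.card_eq_fintype_card, show Fintype.card (Multiplicative (ZMod 3)) = 3 from rfl]; norm_num]
        at hr
      simp only [map_one, mul_one, univ_three] at hr
      rw [Finset.sum_insert (by decide), Finset.sum_insert (by decide), Finset.sum_singleton] at hr
      have g0 : χ (f₃ (Multiplicative.ofAdd 0)) = d := by rw [← hd]; exact congrArg χ (map_one f₃)
      have g1 : χ (f₃ (Multiplicative.ofAdd 1)) = x := (hval _).trans (by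
        rw [show repC (MonoidHom.inl _ _ (Multiplicative.ofAdd (1 : ZMod 3))) = aM from
          (if_pos rfl).trans (if_neg hne0)])
      have g2 : χ (f₃ (Multiplicative.ofAdd 2)) = x := (hval _).trans (by
        rw [show repC (MonoidHom.inl _ _ (Multiplicative.ofAdd (2 : ZMod 3))) = aM from
          (if_pos rfl).trans (if_neg hne1)])
      rw [g0, g1, g2] at hr
      rw [← hr]; ring
    obtain ⟨y, hy⟩ := exists_int_of_isIntegral (q := ((3 * r - d : ℤ) : ℚ) / 2) (by
      have e : ((((3 * r - d : ℤ) : ℚ) / 2 : ℚ) : ℂ) = x := by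
        push_cast
        linear_combination (-1 / 2 : ℂ) * hr'
      rw [e]
      exact IsCharacter.isIntegral hχ _)
    have hy' : (3 * r - d : ℤ) = 2 * y := by
      have : ((3 * r - d : ℤ) : ℚ) = ((2 * y : ℤ) : ℚ) := by push_cast at hy ⊢; linarith
      exact_mod_cast this
    have hxy : x = (y : ℂ) := by
      have h2 : ((3 * r - d : ℤ) : ℂ) = ((2 * y : ℤ) : ℂ) := congrArg _ hy'
      push_cast at h2
      linear_combination (1 / 2 : ℂ) * hr' + (1 / 2 : ℂ) * h2
    refine ⟨y, hxy, ?_, ?_⟩
    · refine ⟨y - (r : ℤ), ?_⟩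
      linarith
    · refine ⟨(n : ℤ) - m, ?_⟩
      have h : ((y + p + 6 * q : ℤ) : ℂ) = ((8 * ((n : ℤ) - m) : ℤ) : ℂ) := by
        push_cast
        rw [← hxy]
        linear_combination (1 / 3 : ℂ) * hn' - (1 / 3 : ℂ) * hm'
      exact_mod_cast h

end Cfsg.Agent.G23Two
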