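import Cfsg.Agent.Lib.G23Two.Engine
import Cfsg.Agent.Lib.G23Two.Residue

/-!
The centraliser of an element of order three of a factor has order above 648: otherwise the values of the
irreducible characters at it would form an assignment excluded by the searches.
-/

set_option autoImplicit false
set_option maxRecDepth 100000
set_option maxHeartbeats 1000000
set_option linter.style.haveILetI false
set_option linter.unusedSectionVars false

namespace Cfsg.Agent.G23Two

open Cfsg Cfsg.Agent.Char Cfsg.Agent.LocalTI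
open scoped ComplexConjugate

universe u

/-- The degree attached to a key. -/
def seedVal (y : ℤ) (k : List ℤ × ℤ) : ℤ :=
  if k.1 == [0, 1, 0, 0] then (if k.2 == 1 then 1 else -729)
  else if k.1 == [0, 0, 1, 0] then 728
  else if k.1 == [1, 0, 0, 0] then -728
  else if k.1 == [0, 0, 1, -1] then -y
  else if k.1 == [1, 1, 0, -1] then y
  else 728 - y

theorem seedOf_eq (y : ℤ) (r : List ℤ) : seedOf y r = projSign r * seedVal y (projKey r) := rfl

theorem template_vals : ∀ y ∈ ([182, 702, 26, 546] : List ℤ), ∀ st ∈ ([(36, 4), (4, 36)] : List (ℤ × ℤ)),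
    (template st.1 st.2).map (seedVal y) = [-729, 728, -728, -y, 728 - y, 728 - y, y] := by decide +kernel

/-- The divisors up to the square root. -/
def divList : List ℕ :=
  ((divsOf 64).flatMap fun a => (divsOf 729).flatMap fun b => (divsOf 7).flatMap fun c =>
    (divsOf 13).map fun e => a * b * c * e).filter fun d => Nat.ble (d * d) 4245696

theorem mem_divList {d : ℕ} (h : d ∣ 64 * 729 * 7 * 13) (h2 : d * d ≤ 4245696) : d ∈ divList := by
  obtain ⟨abc, e, habc, he, rfl⟩ := Nat.dvd_mul.1 h
  obtain ⟨ab, c, hab, hc, rfl⟩ := Nat.dvd_mul.1 habc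
  obtain ⟨a, b, ha, hb, rfl⟩ := Nat.dvd_mul.1 hab
  have m : ∀ n k : ℕ, 0 < n → k ∣ n → k ∈ divsOf n := fun n k hn hk =>
    List.mem_filter.2 ⟨List.mem_range.2 (Nat.lt_succ_of_le (Nat.le_of_dvd hn hk)),
      beq_iff_eq.2 (Nat.mod_eq_zero_of_dvd hk)⟩
  refine List.mem_filter.2 ⟨?_, by simpa using h2⟩
  simp only [List.mem_flatMap, List.mem_map]
  exact ⟨a, m _ _ (by norm_num) ha, b, m _ _ (by norm_num) hb, c, m _ _ (by norm_num) hc, e,
    m _ _ (by norm_num) he, rfl⟩

theorem cand_check : ((List.range 25).all fun i => divList.all fun d => ([(d : ℤ), -(d : ℤ)]).all fun e =>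
    !((e - ((i : ℤ) - 12)) % 8 == 0 && ((i : ℤ) - 12) * 7371 % e == 0) ||
      (candList ((i : ℤ) - 12)).contains e) = true := by decide +kernel

theorem mem_candList {v e : ℤ} (hv : v.natAbs ≤ 12) (hd : e.natAbs ∈ divList) (h8 : 8 ∣ e - v)
    (hI : e ∣ v * 7371) : e ∈ candList v := by
  have h := List.all_eq_true.1 cand_check (v + 12).toNat (List.mem_range.2 (by omega))
  rw [show (((v + 12).toNat : ℕ) : ℤ) - 12 = v by omega] at h
  have h2 := List.all_eq_true.1 (List.all_eq_true.1 h _ hd) e (by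
    rcases Int.natAbs_eq e with h | h
    · exact List.mem_cons.2 (Or.inl h)
    · exact List.mem_cons_of_mem _ (List.mem_cons.2 (Or.inl h)))
  rw [Int.emod_eq_zero_of_dvd h8, Int.emod_eq_zero_of_dvd hI] at h2
  simpa [List.contains_iff_mem] using h2

theorem res_classes : clP (aM * zM).1 = 13 ∧ clP (aM * wM).1 = 8 := by decide +kernel

variable {G : Type u} [Group G] [Fintype G] {φ : Mod →* G}

theorem length_rowOf (p : IrrCharacter G × ℤ) : (rowOf (F φ) 11 p).length ≤ 11 := by simp [rowOf]

theorem dotM_row (m : List ℤ) (p : IrrCharacter G × ℤ) :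
    dotM m (rowOf (F φ) 11 p) = p.2 * ∑ j : Fin 11, m.getD j.val 0 * F φ j p.1 := by
  rw [dotM_eq m _ 11 (length_rowOf p), Finset.mul_sum]
  exact Finset.sum_congr rfl fun j _ => by rw [rowOf, getD_map_range _ j.isLt]; ring

theorem rowVal_int (i : Fin 11) (χ : IrrCharacter G) :
    (χ : G → ℂ) (φ (rep (spClass i))) = (rowVal i (rowOf (F φ) 11 (χ, 1)) : ℂ) := by
  rw [rowVal_spec, Int.cast_one, one_mul]

theorem rowVal_sign (i : Fin 11) (p : IrrCharacter G × ℤ) :
    rowVal i (rowOf (F φ) 11 p) = p.2 * rowVal i (rowOf (F φ) 11 (p.1, 1)) := by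
  have h : (rowVal i (rowOf (F φ) 11 p) : ℂ) =
      ((p.2 * rowVal i (rowOf (F φ) 11 (p.1, 1)) : ℤ) : ℂ) := by
    rw [show p = (p.1, p.2) from rfl, rowVal_spec, Int.cast_mul, ← rowVal_int]
  exact_mod_cast h

theorem rowVal_zero {χ : IrrCharacter G} (h : ∀ j < 11, F φ j χ = 0) (i : Fin 11) :
    rowVal i (rowOf (F φ) 11 (χ, 1)) = 0 := by
  refine Finset.sum_eq_zero fun j _ => ?_
  rw [rowOf, getD_map_range _ j.isLt, h j.val j.isLt, mul_zero, mul_zero]

/-- The quotient of the order by a degree. -/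
noncomputable def coDeg (χ : IrrCharacter G) : ℤ := (Nat.card G : ℤ) / (charDegree (χ : G → ℂ) : ℤ)

theorem coDeg_cast (χ : IrrCharacter G) :
    (coDeg χ : ℚ) = (Nat.card G : ℚ) / (charDegree (χ : G → ℂ) : ℚ) := by
  rw [coDeg, Int.cast_div (Int.natCast_dvd_natCast.2 (CharX.irr_deg_dvd_card χ))
    (by exact_mod_cast (CharX.irr_deg_pos χ).ne')]
  push_cast
  rfl

theorem Hyp.pair_int (H : Hyp φ) (k : Fin 11) :
    ∑ χ : IrrCharacter G, F φ k χ * (zval φ χ * zval φ χ) * coDeg χ = 576 * pairTot k := by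
  have h := H.pair_coord k
  rw [Finset.mul_sum] at h
  have e : ((∑ χ : IrrCharacter G, F φ k χ * (zval φ χ * zval φ χ) * coDeg χ : ℤ) : ℚ) =
      ((576 * pairTot k : ℤ) : ℚ) := by
    push_cast
    rw [← h]
    exact Finset.sum_congr rfl fun χ _ => by rw [coDeg_cast]; ring
  exact_mod_cast e

theorem Hyp.central_dvd (H : Hyp φ) (hN : (Nat.card G : ℤ) = 4245696) (χ : IrrCharacter G) :
    (charDegree (χ : G → ℂ) : ℤ) ∣ zval φ χ * 7371 := by
  have hidx : (Subgroup.centralizer ({φ zM} : Set G)).index = 7371 := by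
    have h := (Subgroup.centralizer ({φ zM} : Set G)).card_mul_index
    rw [H.card_centralizer] at h
    omega
  have h := IsIrrCharacter.isIntegral_centralChar χ.2 (φ zM)
  rw [hidx, ← zval_spec, CharX.irr_deg] at h
  obtain ⟨n, hn⟩ := exists_int_of_isIntegral
    (q := (7371 * (zval φ χ : ℚ)) / (charDegree (χ : G → ℂ) : ℚ)) (by
      convert h using 1
      push_cast
      ring)
  have hd : (charDegree (χ : G → ℂ) : ℚ) ≠ 0 := Nat.cast_ne_zero.2 (CharX.irr_deg_pos χ).ne'
  rw [div_eq_iff hd] at hn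
  refine ⟨n, ?_⟩
  have : ((zval φ χ * 7371 : ℤ) : ℚ) = (((charDegree (χ : G → ℂ) : ℤ) * n : ℤ) : ℚ) := by
    push_cast; linarith
  exact_mod_cast this

/-- The integral values at the element of order three. -/
theorem Hyp.exists_value (H : Hyp φ) (χ : IrrCharacter G) :
    8 ∣ (charDegree (χ : G → ℂ) : ℤ) - zval φ χ ∧ ∃ x : ℤ, (χ : G → ℂ) (φ aM) = x ∧
      3 ∣ x - (charDegree (χ : G → ℂ) : ℤ) ∧
      8 ∣ x + rowVal 7 (rowOf (F φ) 11 (χ, 1)) + 6 * rowVal 4 (rowOf (F φ) 11 (χ, 1)) := by
  have e : ∀ (a : Mod) (i : Fin 11), clP a.1 = (spClass i).val →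
      (χ : G → ℂ) (φ a) = (rowVal i (rowOf (F φ) 11 (χ, 1)) : ℂ) := by
    intro a i ha
    rw [← rowVal_int]
    exact (isClassFunction_iff.1 (IsCharacter.isClassFunction (IsIrrCharacter.isCharacter χ.2))) _ _
      (MonoidHom.map_isConj φ (isConj_of_cl (Fin.ext (by rw [cl_val, cl_rep, ha]))))
  refine residue φ H.inj χ _ _ _ _ ?_ (zval_spec χ).symm (e _ 7 res_classes.1) (e _ 4 res_classes.2)
  rw [CharX.irr_deg]
  push_cast
  rfl

theorem Hyp.cent_gt (H : Hyp φ) : 648 < Nat.card (Subgroup.centralizer ({φ aM} : Set G)) := by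
  classical
  by_contra hle
  push Not at hle
  obtain ⟨S, hS, L, hL, hnd, hsgn, hout⟩ := H.exists_config
  set o : IrrCharacter G := ⟨fun _ => 1, isIrrCharacter_one⟩ with ho
  obtain ⟨hN, s, t, y, l, hst, hperm, hkey, hdeg⟩ :=
    H.order_and_degrees o (fun _ => rfl) L hS hL hnd hsgn hout
  obtain ⟨pl, hpl⟩ := exists_plan hS
  rw [deadCfg, Bool.and_eq_true, planOK, Bool.and_eq_true, Bool.and_eq_true, decide_eq_true_eq] at hpl
  obtain ⟨⟨⟨hP, -⟩, hv12⟩, hdead⟩ := hpl
  set M : List (IrrCharacter G × ℤ) := (o, 1) :: L with hM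
  set row : IrrCharacter G × ℤ → List ℤ := fun p => rowOf (F φ) 11 p with hrow
  have hMs : ∀ p ∈ M, p.2 = 1 ∨ p.2 = -1 := by
    intro p hp
    rcases List.mem_cons.1 hp with rfl | h
    exacts [Or.inl rfl, hsgn p h]
  set g : ℕ → IrrCharacter G × ℤ := fun i => M.getD i (o, 1) with hg
  set Mp : List (IrrCharacter G × ℤ) := (pl.map Prod.fst).map g with hMp
  have hMperm : Mp.Perm M := by
    refine (hP.map g).trans (List.Perm.of_eq ?_)
    rw [← hL, List.length_map]
    refine List.ext_getElem (by simp) fun i h1 h2 => ?_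
    simp [hg, List.getD_eq_getElem?_getD, h2]
  have hMpM : ∀ p ∈ Mp, p ∈ M := fun p hp => hMperm.mem_iff.1 hp
  have hsumM : ∀ (w : IrrCharacter G × ℤ → ℤ) (f : IrrCharacter G → ℤ), (∀ p ∈ Mp, w p = f p.1) →
      (∀ χ, (∀ j < 11, F φ j χ = 0) → f χ = 0) → (Mp.map w).sum = ∑ χ, f χ := by
    intro w f hw hf
    rw [List.map_congr_left hw, (hMperm.map fun p => f p.1).sum_eq,
      sum_cover M hnd f fun χ hχ => hf χ (hout χ hχ)]
  have hrows : planRows S pl = pl.map fun st => (row (g st.1), st.2) := by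
    refine List.map_congr_left fun st hst' => ?_
    have hlt : st.1 < S.length :=
      List.mem_range.1 (hP.mem_iff.1 (List.mem_map.2 ⟨st, hst', rfl⟩))
    have hlt' : st.1 < M.length := by rwa [← hL, List.length_map] at hlt
    have e1 : S.getD st.1 [] = S[st.1]'hlt := by simp [List.getD_eq_getElem?_getD, hlt]
    have e2 : g st.1 = M[st.1]'hlt' := by simp [hg, List.getD_eq_getElem?_getD, hlt']
    rw [e1, e2]
    simp only [← hL, List.getElem_map, hrow]
  -- the degrees
  have hy : y ∈ yList S := by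
    have htail : S.tail = L.map row := by rw [← hL]; rfl
    rw [yList, htail]
    rcases hst with ⟨rfl, rfl, h⟩ | ⟨rfl, rfl, h⟩
    · rw [if_pos]
      · rcases h with rfl | rfl <;> simp
      · rw [List.any_eq_true]
        obtain ⟨p, hp, hpk⟩ := List.mem_map.1 (show (([0, 0, 1, -1] : List ℤ), (36 : ℤ)) ∈
          l.map (fun p => projKey (rowOf (F φ) 11 p)) by rw [hkey]; simp [template])
        exact ⟨row p, List.mem_map.2 ⟨p, List.mem_of_mem_filter (hperm.mem_iff.1 hp), rfl⟩,
          beq_iff_eq.2 hpk⟩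
    · rw [if_neg]
      · rcases h with rfl | rfl <;> simp
      · rw [List.any_eq_true]
        rintro ⟨r, hr, hrk⟩
        obtain ⟨p, hp, rfl⟩ := List.mem_map.1 hr
        rw [beq_iff_eq] at hrk
        have hp' : p ∈ L.filter fun p => proj (rowOf (F φ) 11 p) != [0, 0, 0, 0] := by
          refine List.mem_filter.2 ⟨hp, bne_iff_ne.2 fun h0 => ?_⟩
          have h1 := congrArg Prod.fst hrk
          simp [projKey, hrow, h0] at h1
        have hm : projKey (row p) ∈ template 4 36 :=
          hkey ▸ List.mem_map.2 ⟨p, hperm.mem_iff.2 hp', rfl⟩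
        rw [hrk] at hm
        exact absurd hm (by decide)
  have hd0 : ∀ p ∈ M, sdeg p ≠ 0 := by
    intro p hp
    have := CharX.irr_deg_pos p.1
    rcases hMs p hp with e | e <;> rw [sdeg, e] <;> omega
  have ho1 : charDegree (o : G → ℂ) = 1 := by
    have h := CharX.irr_deg o
    simp only [ho] at h ⊢
    exact_mod_cast h.symm
  have hop : proj (row (o, 1)) = [0, 1, 0, 0] ∧ rowVal 10 (row (o, 1)) = 1 := by
    obtain ⟨-, -, -, -, -, -, h1, h2⟩ := H.exists_eight o L hS hL hnd hsgn hout
    exact ⟨h1, h2⟩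
  have hseed : ∀ p ∈ M, proj (row p) ≠ [0, 0, 0, 0] → sdeg p = seedOf y (row p) := by
    intro p hp hne
    rcases List.mem_cons.1 hp with rfl | hpL
    · rw [sdeg, ho1, seedOf_eq]
      simp [seedVal, projKey, projSign, firstNeg, hop.1, hop.2]
    · have hl : p ∈ l := hperm.mem_iff.2 (List.mem_filter.2 ⟨hpL, bne_iff_ne.2 hne⟩)
      have hy4 : y ∈ ([182, 702, 26, 546] : List ℤ) := by
        rcases hst with ⟨-, -, rfl | rfl⟩ | ⟨-, -, rfl | rfl⟩ <;> simp
      have hst2 : (s, t) ∈ ([(36, 4), (4, 36)] : List (ℤ × ℤ)) := by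
        rcases hst with ⟨rfl, rfl, -⟩ | ⟨rfl, rfl, -⟩ <;> simp
      have hmaps : l.map (fun p => seedVal y (projKey (rowOf (F φ) 11 p))) = l.map (ndeg φ) := by
        rw [hdeg, ← template_vals y hy4 (s, t) hst2, ← hkey, List.map_map]
        rfl
      have h := List.map_inj_left.1 hmaps p hl
      rw [seedOf_eq, hrow]
      simp only
      rw [h, ndeg, ← mul_assoc]
      rcases projSign_cases (rowOf (F φ) 11 p) with e | e <;> rw [e] <;> ring
  have hcand : ∀ p ∈ M, sdeg p ∈ degCands y (row p) := by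
    intro p hp
    by_cases hne : proj (row p) = [0, 0, 0, 0]
    · rw [degCands, if_neg (by simp [hne])]
      have hv : (rowVal 10 (row p)).natAbs ≤ 12 := by
        have h1 : row p ∈ S := hL ▸ List.mem_map.2 ⟨p, hp, rfl⟩
        simpa using List.all_eq_true.1 hv12 _ h1
      have hz : rowVal 10 (row p) = p.2 * zval φ p.1 := rowVal_ten p
      have habs : (sdeg p).natAbs = charDegree (p.1 : G → ℂ) := by
        rcases hMs p hp with e | e <;> rw [sdeg, e] <;> simp
      refine mem_candList hv ?_ ?_ ?_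
      · rw [habs]
        refine mem_divList ?_ ?_
        · have h := CharX.irr_deg_dvd_card p.1
          have h' : Nat.card G = 64 * 729 * 7 * 13 := by exact_mod_cast hN
          rwa [h'] at h
        · have h := CharX.sum_deg_sq (G := G)
          have h1 : charDegree (p.1 : G → ℂ) ^ 2 ≤ ∑ χ : IrrCharacter G, charDegree (χ : G → ℂ) ^ 2 :=
            Finset.single_le_sum (f := fun χ : IrrCharacter G => charDegree (χ : G → ℂ) ^ 2)
              (fun _ _ => Nat.zero_le _) (Finset.mem_univ p.1)
          rw [h, pow_two] at h1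
          exact h1.trans_eq (by exact_mod_cast hN)
      · rw [hz, sdeg, ← mul_sub]
        exact dvd_mul_of_dvd_right (H.exists_value p.1).1 _
      · rw [hz, sdeg, mul_assoc]
        exact mul_dvd_mul_left _ (H.central_dvd hN p.1)
    · rw [degCands, if_pos (by simpa using hne), List.mem_singleton]
      exact hseed p hp hne
  set pl1 : List ((List ℤ × List ℤ) × ℤ) :=
    pl.map fun st => ((row (g st.1), st.2), sdeg (g st.1)) with hpl1
  have hds : assign pl1 = Mp.map fun p => (row p, sdeg p) := by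
    simp [assign, hpl1, hMp, List.map_map, Function.comp_def]
  have hlinD : ∀ m, linSum id m (assign pl1) = 0 := by
    intro m
    rw [hds, linSum, List.map_map]
    have e : ∀ p ∈ Mp, ((fun q : List ℤ × ℤ => dotM m (id q.1) * q.2) ∘ fun p => (row p, sdeg p)) p =
        (fun χ : IrrCharacter G => (∑ j : Fin 11, m.getD j.val 0 * F φ j χ) *
          (charDegree (χ : G → ℂ) : ℤ)) p.1 := by
      intro p hp
      show dotM m (row p) * sdeg p = _
      rw [show row p = rowOf (F φ) 11 p from rfl, dotM_row, sdeg]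
      rcases hMs p (hMpM p hp) with e | e <;> rw [e] <;> ring
    rw [hsumM _ (fun χ : IrrCharacter G => (∑ j : Fin 11, m.getD j.val 0 * F φ j χ) * (charDegree (χ : G → ℂ) : ℤ)) e fun χ hχ => ?_]
    · simp only [Finset.sum_mul]
      rw [Finset.sum_comm]
      refine Finset.sum_eq_zero fun j _ => ?_
      simp only [mul_assoc, ← Finset.mul_sum, H.F_degree, mul_zero]
    · rw [Finset.sum_eq_zero fun j _ => by rw [hχ j.val j.isLt, mul_zero], zero_mul]
  have heqD : ∀ m pre post, assign pl1 = pre ++ post → (∀ q ∈ post, dotM m (id q.1) = 0) →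
      degEqn m pre = true := by
    intro m pre post hsplit hpost
    set w : List ℤ × ℤ → ℤ := fun p =>
      dotM m p.1 * (rowVal 10 p.1 * rowVal 10 p.1) * (4245696 / p.2) with hw
    have hpre : (pre.map w).sum = ((assign pl1).map w).sum := by
      rw [hsplit, List.map_append, List.sum_append]
      have h0 : (post.map w).sum = 0 := by
        refine List.sum_eq_zero fun x hx => ?_
        obtain ⟨q, hq, rfl⟩ := List.mem_map.1 hx
        have := hpost q hq
        simp only [id_eq] at this
        simp [hw, this]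
      rw [h0, add_zero]
    rw [degEqn, beq_iff_eq]
    show (pre.map w).sum = _
    rw [hpre, hds, List.map_map]
    have e : ∀ p ∈ Mp, (w ∘ fun p => (row p, sdeg p)) p =
        (fun χ : IrrCharacter G => (∑ j : Fin 11, m.getD j.val 0 * F φ j χ) *
          (zval φ χ * zval φ χ) * coDeg χ) p.1 := by
      intro p hp
      show dotM m (row p) * (rowVal 10 (row p) * rowVal 10 (row p)) * (4245696 / sdeg p) = _
      rw [show row p = rowOf (F φ) 11 p from rfl, dotM_row, rowVal_ten, sdeg]
      simp only [coDeg, hN]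
      rcases hMs p (hMpM p hp) with e | e <;> rw [e]
      · simp only [one_mul]
      · simp only [neg_one_mul, Int.ediv_neg]
        ring
    rw [hsumM _ (fun χ : IrrCharacter G => (∑ j : Fin 11, m.getD j.val 0 * F φ j χ) * (zval φ χ * zval φ χ) * coDeg χ) e fun χ hχ => ?_]
    · rw [dotM_eq m totList 11 (by simp [totList])]
      simp only [Finset.sum_mul]
      rw [Finset.sum_comm, Finset.mul_sum]
      refine Finset.sum_congr rfl fun j _ => ?_
      rw [show totList.getD j.val 0 = pairTot j from (pairTot_eq j).symm, ← mul_assoc,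
        mul_comm (576 : ℤ), mul_assoc, ← H.pair_int, Finset.mul_sum]
      exact Finset.sum_congr rfl fun χ _ => by ring
    · rw [Finset.sum_eq_zero fun j _ => by rw [hχ j.val j.isLt, mul_zero], zero_mul, zero_mul]
  have hbD : ∀ pre post, assign pl1 = pre ++ post → degBound pre = true := by
    intro pre post hsplit
    rw [degBound, decide_eq_true_eq]
    have h1 : ((pre ++ post).map fun p => p.2 * p.2).sum ≤ 4245696 := by
      rw [← hsplit, hds, List.map_map]
      have e : ∀ p ∈ Mp, ((fun q : List ℤ × ℤ => q.2 * q.2) ∘ fun p => (row p, sdeg p)) p =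
          (fun χ : IrrCharacter G => (charDegree (χ : G → ℂ) : ℤ) ^ 2) p.1 := by
        intro p hp
        show sdeg p * sdeg p = _
        rw [sdeg]
        rcases hMs p (hMpM p hp) with e | e <;> rw [e] <;> ring
      rw [List.map_congr_left e, (hMperm.map fun p => ((charDegree (p.1 : G → ℂ) : ℤ)) ^ 2).sum_eq,
        show (fun p : IrrCharacter G × ℤ => ((charDegree (p.1 : G → ℂ) : ℤ)) ^ 2) =
          (fun χ : IrrCharacter G => ((charDegree (χ : G → ℂ) : ℤ)) ^ 2) ∘ Prod.fst from rfl,
        ← List.map_map, ← List.sum_toFinset _ hnd]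
      refine le_trans (Finset.sum_le_sum_of_subset_of_nonneg (Finset.subset_univ _)
        fun _ _ _ => by positivity) (le_of_eq ?_)
      rw [← hN]
      exact_mod_cast CharX.sum_deg_sq (G := G)
    rw [List.map_append, List.sum_append] at h1
    have h2 : 0 ≤ (post.map fun p => p.2 * p.2).sum := by
      refine List.sum_nonneg fun x hx => ?_
      obtain ⟨q, -, rfl⟩ := List.mem_map.1 hx
      exact mul_self_nonneg _
    linarith
  have hfst : pl1.map Prod.fst = planRows S pl := by
    rw [hrows, hpl1, List.map_map]; rfl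
  have hsol : assign pl1 ∈ degSols y (planRows S pl) := by
    rw [← hfst]
    refine run_complete id (degCands y) degEqn degBound _ hlinD heqD hbD pl1 [] rfl fun q hq => ?_
    obtain ⟨st, hst', rfl⟩ := List.mem_map.1 hq
    exact hcand _ (hMpM _ (List.mem_map.2 ⟨st.1, List.mem_map.2 ⟨st, hst', rfl⟩, rfl⟩))
  have hres := List.all_eq_true.1 (List.all_eq_true.1 hdead y hy) _ hsol
  -- the values
  choose X hX using fun χ => (H.exists_value χ).2
  set pl2 : List (((List ℤ × ℤ) × List ℤ) × ℤ) :=
    pl.map fun st => (((row (g st.1), sdeg (g st.1)), st.2), (g st.1).2 * X (g st.1).1) with hpl2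
  have hxs : assign pl2 = Mp.map fun p => ((row p, sdeg p), p.2 * X p.1) := by
    simp [assign, hpl2, hMp, List.map_map, Function.comp_def]
  have hlinX : ∀ m, linSum Prod.fst m (assign pl2) = 0 := by
    intro m
    rw [hxs, linSum, List.map_map]
    have e : ∀ p ∈ Mp, ((fun q : (List ℤ × ℤ) × ℤ => dotM m q.1.1 * q.2) ∘
        fun p => ((row p, sdeg p), p.2 * X p.1)) p =
        (fun χ : IrrCharacter G => (∑ j : Fin 11, m.getD j.val 0 * F φ j χ) * X χ) p.1 := by
      intro p hp
      show dotM m (row p) * (p.2 * X p.1) = _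
      rw [show row p = rowOf (F φ) 11 p from rfl, dotM_row]
      rcases hMs p (hMpM p hp) with e | e <;> rw [e] <;> ring
    rw [hsumM _ (fun χ : IrrCharacter G => (∑ j : Fin 11, m.getD j.val 0 * F φ j χ) * X χ) e fun χ hχ => ?_]
    · simp only [Finset.sum_mul]
      rw [Finset.sum_comm]
      refine Finset.sum_eq_zero fun j _ => ?_
      simp only [mul_assoc, ← Finset.mul_sum]
      have hv := vanish (ι := φ) (vanish_vec j) (y := φ aM) (fun h hh hc => by
        obtain ⟨c, hc'⟩ := isConj_iff.1 hc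
        obtain ⟨n, hn⟩ := special_dec h hh
        have h3 : h ^ 3 = 1 := H.inj (by
          rw [map_pow, map_one, ← hc', conj_pow, ← map_pow, model_basic.2.2.1, map_one, mul_one,
            mul_inv_cancel])
        refine model_basic.2.1 ?_
        calc zM = zM ^ 3 := by rw [pow_succ, pow_two, model_basic.1, one_mul]
          _ = 1 := by rw [← hn, ← pow_mul, mul_comm, pow_mul, h3, one_pow])
      have h0 : ((∑ χ : IrrCharacter G, F φ j χ * X χ : ℤ) : ℂ) = 0 := by
        push_cast
        rw [← hv]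
        exact Finset.sum_congr rfl fun χ _ => by rw [F_eq, (hX χ).1]
      rw [show ∑ χ : IrrCharacter G, F φ j χ * X χ = 0 from by exact_mod_cast h0, mul_zero]
    · rw [Finset.sum_eq_zero fun j _ => by rw [hχ j.val j.isLt, mul_zero], zero_mul]
  have hnorm : ∑ χ : IrrCharacter G, X χ * X χ ≤ 648 := by
    have h := column_orth_of_isConj (g := φ aM) (h := φ aM) (IsConj.refl _)
    simp only [(hX _).1, map_intCast] at h
    have h' : (∑ χ : IrrCharacter G, X χ * X χ : ℤ) =
        (Nat.card (Subgroup.centralizer ({φ aM} : Set G)) : ℤ) := by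
      have h2 : ((∑ χ : IrrCharacter G, X χ * X χ : ℤ) : ℂ) =
          ((Nat.card (Subgroup.centralizer ({φ aM} : Set G)) : ℤ) : ℂ) := by
        push_cast; exact h
      exact_mod_cast h2
    rw [h']
    exact_mod_cast hle
  have hbX : ∀ pre post, assign pl2 = pre ++ post → resBound pre = true := by
    intro pre post hsplit
    rw [resBound, decide_eq_true_eq]
    have h1 : ((pre ++ post).map fun p => p.2 * p.2).sum ≤ 648 := by
      rw [← hsplit, hxs, List.map_map]
      have e : ∀ p ∈ Mp, ((fun q : (List ℤ × ℤ) × ℤ => q.2 * q.2) ∘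
          fun p => ((row p, sdeg p), p.2 * X p.1)) p = (fun χ : IrrCharacter G => X χ * X χ) p.1 := by
        intro p hp
        show p.2 * X p.1 * (p.2 * X p.1) = _
        rcases hMs p (hMpM p hp) with e | e <;> rw [e] <;> ring
      rw [List.map_congr_left e, (hMperm.map fun p => X p.1 * X p.1).sum_eq,
        show (fun p : IrrCharacter G × ℤ => X p.1 * X p.1) =
          (fun χ : IrrCharacter G => X χ * X χ) ∘ Prod.fst from rfl,
        ← List.map_map, ← List.sum_toFinset _ hnd]
      exact le_trans (Finset.sum_le_sum_of_subset_of_nonneg (Finset.subset_univ _)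
        fun _ _ _ => mul_self_nonneg _) hnorm
    rw [List.map_append, List.sum_append] at h1
    have h2 : 0 ≤ (post.map fun p => p.2 * p.2).sum := by
      refine List.sum_nonneg fun x hx => ?_
      obtain ⟨q, -, rfl⟩ := List.mem_map.1 hx
      exact mul_self_nonneg _
    linarith
  have hXcand : ∀ p ∈ M, p.2 * X p.1 ∈ resCands (row p, sdeg p) := by
    intro p hp
    rw [resCands]
    split_ifs with hhead
    · -- the principal character
      rw [Bool.and_eq_true, beq_iff_eq, beq_iff_eq] at hhead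
      rcases List.mem_cons.1 hp with rfl | hpL
      · have h := (hX o).1
        simp only [ho] at h
        have : X o = 1 := by exact_mod_cast h.symm
        simp [this, ho] at this ⊢
        exact this
      · exfalso
        have hne : proj (row p) ≠ [0, 0, 0, 0] := by rw [hhead.1]; decide
        have hl : p ∈ l := hperm.mem_iff.2 (List.mem_filter.2 ⟨hpL, bne_iff_ne.2 hne⟩)
        have hm : projKey (row p) ∈ template s t := hkey ▸ List.mem_map.2 ⟨p, hl, rfl⟩
        have hk : projKey (row p) = ([0, 1, 0, 0], 1) := by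
          simp [projKey, projSign, firstNeg, hhead.1, hhead.2]
        rw [hk] at hm
        rcases hst with ⟨rfl, rfl, -⟩ | ⟨rfl, rfl, -⟩ <;> exact absurd hm (by decide)
    · obtain ⟨h3, h8⟩ := (hX p.1).2
      have hsq : X p.1 * X p.1 ≤ 648 := le_trans
        (Finset.single_le_sum (f := fun χ : IrrCharacter G => X χ * X χ) (fun _ _ => mul_self_nonneg _)
          (Finset.mem_univ p.1)) hnorm
      have habs : -25 ≤ p.2 * X p.1 ∧ p.2 * X p.1 ≤ 25 := by
        rcases hMs p hp with e | e <;> rw [e] <;> constructor <;> nlinarith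
      rw [List.mem_filter, List.mem_map]
      refine ⟨⟨(p.2 * X p.1 + 25).toNat, List.mem_range.2 (by omega), by omega⟩, ?_⟩
      rw [Bool.and_eq_true, beq_iff_eq, beq_iff_eq]
      simp only [hrow, rowVal_sign 7 p, rowVal_sign 4 p, sdeg]
      constructor <;> refine Int.emod_eq_zero_of_dvd ?_
      · rw [show p.2 * X p.1 + p.2 * rowVal 7 (rowOf (F φ) 11 (p.1, 1)) +
          6 * (p.2 * rowVal 4 (rowOf (F φ) 11 (p.1, 1))) = p.2 * (X p.1 +
            rowVal 7 (rowOf (F φ) 11 (p.1, 1)) + 6 * rowVal 4 (rowOf (F φ) 11 (p.1, 1))) by ring]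
        exact dvd_mul_of_dvd_right h8 _
      · rw [← mul_sub]
        exact dvd_mul_of_dvd_right h3 _
  have hzip : (assign pl1).zip ((planRows S pl).map Prod.snd) = pl2.map Prod.fst := by
    rw [hrows, List.map_map, assign, hpl1, List.map_map, hpl2, List.map_map, List.zip_map']
    rfl
  have hsol2 : assign pl2 ∈ run Prod.fst resCands (fun _ _ => true) resBound
      ((assign pl1).zip ((planRows S pl).map Prod.snd)) [] := by
    rw [hzip]
    refine run_complete Prod.fst resCands _ resBound _ hlinX (fun _ _ _ _ _ => rfl) hbX pl2 [] rfl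
      fun q hq => ?_
    obtain ⟨st, hst', rfl⟩ := List.mem_map.1 hq
    exact hXcand _ (hMpM _ (List.mem_map.2 ⟨st.1, List.mem_map.2 ⟨st, hst', rfl⟩, rfl⟩))
  have hneg := List.all_eq_true.1 hres _ hsol2
  rw [negCoef, List.any_eq_true] at hneg
  obtain ⟨i, -, hi⟩ := hneg
  rw [decide_eq_true_eq, hxs, List.map_map] at hi
  have e : ∀ p ∈ Mp, ((fun q : (List ℤ × ℤ) × ℤ =>
      rowVal 10 q.1.1 * q.2 * rowVal i q.1.1 * (4245696 / q.1.2)) ∘
      fun p => ((row p, sdeg p), p.2 * X p.1)) p =
      (fun χ : IrrCharacter G => zval φ χ * X χ * rowVal i (rowOf (F φ) 11 (χ, 1)) * coDeg χ) p.1 := by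
    intro p hp
    show rowVal 10 (row p) * (p.2 * X p.1) * rowVal i (row p) * (4245696 / sdeg p) = _
    rw [show row p = rowOf (F φ) 11 p from rfl, rowVal_sign i p, rowVal_ten, sdeg]
    simp only [coDeg, hN]
    rcases hMs p (hMpM p hp) with e | e <;> rw [e]
    · simp only [one_mul]
    · simp only [neg_one_mul, Int.ediv_neg]
      ring
  rw [hsumM _ (fun χ : IrrCharacter G => zval φ χ * X χ * rowVal i (rowOf (F φ) 11 (χ, 1)) * coDeg χ) e fun χ hχ => by rw [rowVal_zero hχ i, mul_zero, zero_mul]] at hi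
  have hp := ClassCount.pair_count (φ zM) (φ aM) (φ (rep (spClass i)))
  simp only [rowVal_int i, map_intCast, ← zval_spec, (hX _).1, CharX.irr_deg] at hp
  rw [H.card_centralizer, Finset.mul_sum] at hp
  set cnt := Nat.card {a : G // IsConj (φ zM) a ∧ IsConj (φ aM) (a⁻¹ * φ (rep (spClass i)))} with hcnt
  set C := Nat.card (Subgroup.centralizer ({φ aM} : Set G)) with hC
  have hQ : ((cnt : ℚ) * 576 * C) =
      ((∑ χ : IrrCharacter G, zval φ χ * X χ * rowVal i (rowOf (F φ) 11 (χ, 1)) * coDeg χ : ℤ) : ℚ) := by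
    refine Rat.cast_injective (α := ℂ) ?_
    push_cast
    rw [Nat.cast_ofNat] at hp
    rw [hp]
    refine Finset.sum_congr rfl fun χ _ => ?_
    have hc : (coDeg χ : ℂ) = (Nat.card G : ℂ) / (charDegree (χ : G → ℂ) : ℂ) := by
      rw [← Rat.cast_intCast (α := ℂ) (coDeg χ), coDeg_cast]
      push_cast
      rfl
    rw [hc]
    ring
  have h0 : (0 : ℚ) ≤ (cnt : ℚ) * 576 * C := by positivity
  rw [hQ] at h0
  exact absurd (by exact_mod_cast h0 : (0 : ℤ) ≤ _) (not_le.2 hi)

/-- The centraliser of an element of order three of a factor is large. -/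
theorem cent_gt_648 {G : Type u} [Group G] [Finite G] (φ : Mod →* G) (hinj : Function.Injective φ)
    (hrange : φ.range = Subgroup.centralizer {φ zM}) (hk : IsConj (φ zM) (φ kM))
    (hq : IsConj (φ zM) (φ qM)) : 648 < Nat.card (Subgroup.centralizer ({φ aM} : Set G)) := by
  haveI := Fintype.ofFinite G
  exact Hyp.cent_gt (φ := φ) ⟨hinj, hrange, hk, hq⟩

end Cfsg.Agent.G23Two
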