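import Cfsg.Agent.Lib.G23Two.ParaModel
import Cfsg.Agent.Lib.BrauerSuzuki.Sylow

/-!
The centraliser of an element of order three of a factor has order `72`, `648` or `5832`: its odd core is
inverted by an involution modulo `⟨a⟩` and split by a four-group.
-/

set_option autoImplicit false
set_option maxRecDepth 100000
set_option linter.style.haveILetI false
set_option linter.unusedSectionVars false

namespace Cfsg.Agent.G23Two

open Subgroup

theorem centA_check : (allMod.filter fun x => decide (x * aM = aM * x)).length = 72 := by decide +kernel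

theorem LList_invol : ∀ x ∈ LList, x * x = 1 → x = 1 ∨ x = zM := by decide +kernel

theorem odd_dvd_576 : ∀ n ∈ Nat.divisors 576, n % 2 = 1 → n = 1 ∨ n = 3 ∨ n = 9 := by decide +kernel

theorem centA_card : Nat.card (centralizer ({aM} : Set Mod)) = 72 := by
  rw [← centA_check, ← List.toFinset_card_of_nodup (allMod_nodup.filter _),
    Nat.card_congr (Equiv.subtypeEquivRight (fun x => (show x ∈ centralizer ({aM} : Set Mod) ↔
      x ∈ (allMod.filter fun x => decide (x * aM = aM * x)).toFinset by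
        simp [mem_allMod, mem_centralizer_singleton_iff])))]
  exact Nat.card_eq_finsetCard _

/-- The three possible orders of the centraliser. -/
theorem card_cent_three {G : Type*} [Group G] [Finite G] (φ : Mod →* G) (hinj : Function.Injective φ)
    (hrange : φ.range = centralizer {φ zM}) (hk : IsConj (φ zM) (φ kM)) :
    Nat.card (centralizer {φ aM} : Subgroup G) = 72 ∨ Nat.card (centralizer {φ aM} : Subgroup G) = 648 ∨
      Nat.card (centralizer {φ aM} : Subgroup G) = 5832 := by
  classical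
  haveI : Fact (Nat.Prime 2) := ⟨Nat.prime_two⟩
  set z := φ zM with hz
  set a := φ aM with ha
  set k := φ kM with hk'
  set w := φ wM with hw
  set C : Subgroup G := centralizer {a} with hC
  set L : Subgroup G := LM.map φ with hL
  obtain ⟨hz2M, hzM, ha3M, haM, hk2M, hkaM, hzL, -, hwL, -, hwkM, -, -, -⟩ := model_basic
  have hz2 : z * z = 1 := by rw [hz, ← map_mul, hz2M, map_one]
  have hz1 : z ≠ 1 := fun h => hzM (hinj (h.trans (map_one φ).symm))
  have hzi : z⁻¹ = z := inv_eq_of_mul_eq_one_left hz2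
  have hk2 : k * k = 1 := by rw [hk', ← map_mul, hk2M, map_one]
  have hki : k⁻¹ = k := inv_eq_of_mul_eq_one_left hk2
  have hka : k * a * k⁻¹ = a⁻¹ := by simp only [hk', ha, ← map_inv, ← map_mul, hkaM]
  have hkz : Commute k z := by show k * z = z * k; rw [hk', hz, ← map_mul, ← map_mul, zM_comm]
  have hwk : w * k * w⁻¹ = k * z := by simp only [hw, hk', hz, ← map_inv, ← map_mul, hwkM]
  have ha3 : a ^ 3 = 1 := by rw [ha, ← map_pow, ha3M, map_one]
  have ha1 : a ≠ 1 := fun h => haM (hinj (h.trans (map_one φ).symm))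
  have hzC : z ∈ C := mem_centralizer_singleton_iff.2 (by rw [hz, ha, ← map_mul, ← map_mul, zM_comm])
  have hLC : L ≤ C := by
    rintro _ ⟨l, hl, rfl⟩
    exact mem_centralizer_singleton_iff.2 (by rw [ha, ← map_mul, ← map_mul, LList_comm l (mem_LList.2 hl)])
  -- the part centralising `z`
  have hCH : C ⊓ centralizer {z} = (centralizer ({aM} : Set Mod)).map φ := by
    ext g
    rw [mem_inf, mem_map]
    constructor
    · rintro ⟨h1, h2⟩
      obtain ⟨x, rfl⟩ := Para.exists_pre φ hrange (mem_centralizer_singleton_iff.1 h2)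
      refine ⟨x, mem_centralizer_singleton_iff.2 (hinj ?_), rfl⟩
      rw [map_mul, map_mul]; exact mem_centralizer_singleton_iff.1 h1
    · rintro ⟨x, hx, rfl⟩
      exact ⟨mem_centralizer_singleton_iff.2
          (by rw [ha, ← map_mul, ← map_mul, mem_centralizer_singleton_iff.1 hx]),
        mem_centralizer_singleton_iff.2 (by rw [hz, ← map_mul, ← map_mul, zM_comm])⟩
  have h72 : Nat.card (C ⊓ centralizer {z} : Subgroup G) = 72 := by
    rw [hCH, card_map_of_injective hinj, centA_card]
  -- the Sylow 2-subgroup has one involution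
  obtain ⟨T, hT⟩ := Sylow.exists_subgroup_card_pow_prime (G := L) 2 (n := 3)
    (by rw [hL, card_map_of_injective hinj, card_LM]; decide)
  have hinv : ∀ u ∈ L, u * u = 1 → u = 1 ∨ u = z := by
    rintro _ ⟨x, hx, rfl⟩ h
    rw [← map_mul, ← map_one φ] at h
    rcases LList_invol x (mem_LList.2 hx) (hinj h) with e | e
    · exact Or.inl (by rw [e, map_one])
    · exact Or.inr (by rw [e])
  set T' : Subgroup C := (T.map L.subtype).subgroupOf C with hT'
  have hTC : T.map L.subtype ≤ C := (map_subtype_le _).trans hLC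
  have hTc : Nat.card T' = 8 := by
    rw [hT', Nat.card_congr (subgroupOfEquivOfLe hTC).toEquiv,
      card_map_of_injective L.subtype_injective, hT]
    norm_num
  obtain ⟨S, hS⟩ := (IsPGroup.of_card (p := 2) (n := 3) (by rw [hTc]; norm_num) : IsPGroup 2 T').exists_le_sylow
  have hT2 : ∀ u : C, u ∈ T' → u * u = 1 → u = 1 ∨ (u : G) = z := by
    intro u hu h
    rcases hinv u (map_subtype_le _ (mem_subgroupOf.1 hu)) (congrArg Subtype.val h) with e | e
    · exact Or.inl (Subtype.ext e)
    · exact Or.inr e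
  have hST : (S : Subgroup C) = T' := by
    by_contra hne
    have hlt : T' < (S : Subgroup C) := lt_of_le_of_ne hS (Ne.symm hne)
    haveI : Group.IsNilpotent (S : Subgroup C) := S.2.isNilpotent
    have h1 : T'.subgroupOf S < normalizer ((T'.subgroupOf S : Subgroup _) : Set _) :=
      Group.normalizerCondition_of_isNilpotent _ (lt_top_iff_ne_top.2 fun e =>
        hlt.not_ge (subgroupOf_eq_top.1 e))
    obtain ⟨g, hgN, hgT⟩ := SetLike.exists_of_lt h1
    -- it centralises `z`
    have hzT : (⟨z, hzC⟩ : C) ∈ T' := by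
      obtain ⟨u, hu, hu1⟩ : ∃ u : T', orderOf u = 2 ∧ True := by
        obtain ⟨u, hu⟩ := exists_prime_orderOf_dvd_card' 2 (by rw [hTc]; norm_num : 2 ∣ Nat.card T')
        exact ⟨u, hu, trivial⟩
      have hu2 : (u : C) * u = 1 := by
        rw [← pow_two, ← SubmonoidClass.coe_pow, ← hu, pow_orderOf_eq_one]; rfl
      rcases hT2 _ u.2 hu2 with e | e
      · rw [show u = 1 from Subtype.ext e, orderOf_one] at hu
        norm_num at hu
      · rw [show (⟨z, hzC⟩ : C) = u from Subtype.ext e.symm]; exact u.2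
    have hgz : ((g : C) : G) * z = z * ((g : C) : G) := by
      have h2 := (mem_normalizer_iff.1 hgN ⟨⟨z, hzC⟩, hS hzT⟩).1 (mem_subgroupOf.2 hzT)
      rw [mem_subgroupOf] at h2
      have hsq : ((g : C) * ⟨z, hzC⟩ * (g : C)⁻¹) * ((g : C) * ⟨z, hzC⟩ * (g : C)⁻¹) = 1 := by
        rw [show (g : C) * ⟨z, hzC⟩ * (g : C)⁻¹ * ((g : C) * ⟨z, hzC⟩ * (g : C)⁻¹) =
          (g : C) * (⟨z, hzC⟩ * ⟨z, hzC⟩) * (g : C)⁻¹ by group,
          show (⟨z, hzC⟩ : C) * ⟨z, hzC⟩ = 1 from Subtype.ext hz2]
        group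
      rcases hT2 _ h2 hsq with e | e
      · exact absurd (congrArg Subtype.val (conj_eq_one_iff.1 e)) hz1
      · exact mul_inv_eq_iff_eq_mul.1 e
    let U : Subgroup C := (S : Subgroup C) ⊓ (centralizer {z}).subgroupOf C
    have hU : Nat.card U ∣ 72 := by
      rw [← h72, ← card_map_of_injective (K := U) C.subtype_injective]
      refine card_dvd_of_le ?_
      rintro _ ⟨u, hu, rfl⟩
      exact mem_inf.2 ⟨u.2, mem_subgroupOf.1 hu.2⟩
    have hTU : T' < U := by
      refine lt_of_le_of_ne (le_inf hS fun u hu => ?_) fun e => hgT (mem_subgroupOf.2 ?_)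
      · rw [mem_subgroupOf, mem_centralizer_singleton_iff]
        obtain ⟨l, hl, e⟩ := map_subtype_le _ (mem_subgroupOf.1 hu)
        rw [← e, hz, ← map_mul, ← map_mul, zM_comm]
      · rw [e]
        exact ⟨g.2, mem_subgroupOf.2 (mem_centralizer_singleton_iff.2 hgz)⟩
    obtain ⟨n, hn⟩ := IsPGroup.iff_card.1 (S.2.to_le (inf_le_left : U ≤ S))
    have h8 : 8 < Nat.card U := hTc ▸ lt_of_le_of_ne (card_le_of_le hTU.le)
      fun e => hTU.ne (eq_of_le_of_card_ge hTU.le e.ge)
    rw [hn] at hU h8
    have := Nat.le_of_dvd (by norm_num)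
      ((Nat.Coprime.pow_left n (by decide : Nat.Coprime 2 9)).dvd_of_dvd_mul_right
        (show 2 ^ n ∣ 8 * 9 by simpa using hU))
    omega
  have hR : BrauerSuzuki.RankOne C := BrauerSuzuki.rankOne_of_sylow S fun x y hx hy => by
    have key : ∀ x : (S : Subgroup C), orderOf x = 2 → ((x : C) : G) = z := fun x hx => by
      have h2 : (x : C) * x = 1 := by
        have h := pow_orderOf_eq_one x
        rw [hx, pow_two] at h
        exact congrArg Subtype.val h
      rcases hT2 _ (hST ▸ x.2) h2 with e | e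
      · rw [show x = 1 from Subtype.ext e, orderOf_one] at hx
        norm_num at hx
      · exact e
    exact Subtype.ext (Subtype.ext ((key x hx).trans (key y hy).symm))
  -- the odd core
  haveI hXn : (Cfsg.pPrimeCore 2 C).Normal := Cfsg.pPrimeCore_normal 2 C
  have hXodd : Odd (Nat.card (Cfsg.pPrimeCore 2 C)) := by
    rw [← Nat.not_even_iff_odd, even_iff_two_dvd]
    exact fun h => Nat.prime_two.coprime_iff_not_dvd.1 (PBasic.pPrimeCore_coprime 2 C).symm h
  set X : Subgroup G := (Cfsg.pPrimeCore 2 C).map C.subtype with hX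
  have hXC : X ≤ C := map_subtype_le _
  have hXcard : Nat.card X = Nat.card (Cfsg.pPrimeCore 2 C) := card_map_of_injective C.subtype_injective
  have hXodd' : Odd (Nat.card X) := hXcard ▸ hXodd
  have hconjC : ∀ g ∈ C, ∀ x ∈ X, g * x * g⁻¹ ∈ X := by
    rintro g hg _ ⟨x, hx, rfl⟩
    exact mem_map.2 ⟨⟨g, hg⟩ * x * (⟨g, hg⟩ : C)⁻¹, hXn.conj_mem x hx _, rfl⟩
  have hhalf : ∀ x ∈ X, ∃ m : ℕ, x ^ m * x ^ m = x := by
    intro x hx
    obtain ⟨j, hj⟩ := hXodd'
    refine ⟨j + 1, ?_⟩
    have h2 : x ^ Nat.card X = 1 := congrArg Subtype.val (pow_card_eq_one' (G := X) (x := ⟨x, hx⟩))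
    rw [← pow_add, show j + 1 + (j + 1) = Nat.card X + 1 by omega, pow_succ, h2, one_mul]
  have hnoinv : ∀ x ∈ X, x * x = 1 → x = 1 := by
    intro x hx h
    obtain ⟨m, hm⟩ := hhalf x hx
    rw [← hm, ← (Commute.refl x).mul_pow, h, one_pow]
  -- `z` modulo the odd core is central
  have hzX : ∀ g ∈ C, g * z * g⁻¹ * z ∈ X := by
    intro g hg
    have ho : orderOf (⟨z, hzC⟩ : C) = 2 :=
      orderOf_eq_prime (Subtype.ext (by rw [SubmonoidClass.coe_pow, pow_two]; exact hz2))
        fun e => hz1 (congrArg Subtype.val e)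
    have h := BrauerSuzuki.inZStar C hR ⟨z, hzC⟩ ho ⟨g, hg⟩
    refine mem_map.2 ⟨_, h, ?_⟩
    simp [hzi]
  have hA0 : zpowers a ≤ X := by
    have hac : a ∈ C := mem_centralizer_singleton_iff.2 rfl
    have hn : (zpowers (⟨a, hac⟩ : C)).Normal := ⟨fun y hy g => by
      have hc : g * y = y * g := by
        obtain ⟨n, rfl⟩ := mem_zpowers_iff.1 hy
        exact (Commute.zpow_right (show Commute g ⟨a, hac⟩ from
          Subtype.ext (mem_centralizer_singleton_iff.1 g.2)) n).eq
      rwa [hc, mul_inv_cancel_right]⟩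
    have hle : zpowers (⟨a, hac⟩ : C) ≤ Cfsg.pPrimeCore 2 C := PBasic.le_pPrimeCore hn (by
      rw [Nat.card_zpowers, ← Subgroup.orderOf_coe]
      haveI : Fact (Nat.Prime 3) := ⟨Nat.prime_three⟩
      rw [orderOf_eq_prime ha3 ha1]; decide)
    rw [zpowers_le]
    exact mem_map.2 ⟨⟨a, hac⟩, hle (mem_zpowers _), rfl⟩
  have hCHle : ∀ g ∈ C, g * z = z * g → ∃ l ∈ L, g * l⁻¹ ∈ zpowers a := by
    intro g hg hgz
    obtain ⟨x, rfl⟩ := Para.exists_pre φ hrange hgz
    have hx : x * aM = aM * x := hinj (by rw [map_mul, map_mul]; exact mem_centralizer_singleton_iff.1 hg)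
    rcases of_decide_eq_true (List.all_eq_true.1 cent_check x (mem_allMod x)) hx with h | h | h
    · exact ⟨φ x, mem_map_of_mem φ (mem_LList.1 h), by simp⟩
    · refine ⟨φ (aM * x), mem_map_of_mem φ (mem_LList.1 h), ?_⟩
      rw [ha, ← map_inv, ← map_mul, Para.map_zpowers_iff φ hinj, mul_inv_rev, mul_inv_cancel_left]
      exact Or.inr (Or.inr rfl)
    · refine ⟨φ (aM * aM * x), mem_map_of_mem φ (mem_LList.1 h), ?_⟩
      rw [ha, ← map_inv, ← map_mul, Para.map_zpowers_iff φ hinj, mul_inv_rev, mul_inv_cancel_left]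
      refine Or.inr (Or.inl (inv_eq_of_mul_eq_one_left ?_))
      rw [← mul_assoc, ← pow_two, ← pow_succ, ha3M]
  have hfix : ∀ x ∈ X, x * z = z * x → x ∈ zpowers a := by
    intro x hx hxz
    obtain ⟨l, hl, hc⟩ := hCHle x (hXC hx) hxz
    have hlX : l ∈ X := by
      have := mul_mem (inv_mem (hA0 hc)) hx
      rwa [mul_inv_rev, inv_inv, inv_mul_cancel_right] at this
    have hl1 : l = 1 := by
      by_contra hne
      obtain ⟨y, hy, rfl⟩ := hl
      have hzX' : z ∈ X := by
        rcases LList_word y (mem_LList.2 hy) (fun e => hne (by rw [e, map_one])) with ⟨-, y', hy', e⟩ | ⟨n, e⟩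
        · rw [hz, ← e, map_pow, map_mul, map_mul, map_mul, map_inv]
          exact pow_mem (mul_mem hlX (hconjC _ (hLC (mem_map_of_mem φ (mem_LList.1 hy'))) _ hlX)) 3
        · rw [hz, ← e, map_pow]; exact pow_mem hlX _
      exact hz1 (hnoinv z hzX' hz2)
    rwa [hl1, inv_one, mul_one] at hc
  -- the order of `C` from that of `X`
  have hcardC : Nat.card C = 24 * Nat.card X := by
    let f : X × L → C := fun p => ⟨(p.1 : G) * p.2, mul_mem (hXC p.1.2) (hLC p.2.2)⟩
    have hf : Function.Bijective f := by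
      constructor
      · intro p q h
        have h' : (p.1 : G) * p.2 = q.1 * q.2 := congrArg Subtype.val h
        have e : (q.1 : G)⁻¹ * p.1 = q.2 * (p.2 : G)⁻¹ := by
          rw [inv_mul_eq_iff_eq_mul, ← mul_assoc, ← h', mul_inv_cancel_right]
        have hqX : (q.1 : G)⁻¹ * p.1 ∈ X := mul_mem (inv_mem q.1.2) p.1.2
        have hqL : (q.1 : G)⁻¹ * p.1 ∈ L := e ▸ mul_mem q.2.2 (inv_mem p.2.2)
        have hqz : (q.1 : G)⁻¹ * p.1 * z = z * ((q.1 : G)⁻¹ * p.1) := by
          obtain ⟨x, -, hx⟩ := mem_map.1 hqL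
          rw [← hx, hz, ← map_mul, ← map_mul, zM_comm]
        have h1 : (q.1 : G)⁻¹ * p.1 = 1 := by
          obtain ⟨x, hx, hxe⟩ := mem_map.1 hqL
          have hm := hfix _ hqX hqz
          rw [← hxe] at hm ⊢
          rcases (Para.map_zpowers_iff φ hinj).1 hm with e | e | e
          · rw [e, map_one]
          · exact absurd (mem_LList.2 (e ▸ hx)) model_basic.2.2.2.2.2.2.2.1
          · exact absurd (mem_LList.2 (by simpa using inv_mem (show aM⁻¹ ∈ LM from e ▸ hx)))
              model_basic.2.2.2.2.2.2.2.1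
        rw [inv_mul_eq_one] at h1
        rw [h1, mul_left_cancel_iff] at h'
        exact Prod.ext (Subtype.ext h1.symm) (Subtype.ext h')
      · intro g
        have hi : z * ((g : G) * z * (g : G)⁻¹ * z) * z = ((g : G) * z * (g : G)⁻¹ * z)⁻¹ := by
          simp only [mul_inv_rev, inv_inv, hzi, mul_assoc, hz2, mul_one]
        obtain ⟨m, hm⟩ := hhalf _ (hzX g g.2)
        set s := ((g : G) * z * (g : G)⁻¹ * z) ^ m with hs
        have hsX : s ∈ X := pow_mem (hzX g g.2) m
        have h1 : z * s⁻¹ * z = s := by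
          have h := conj_pow (a := z) (b := (g : G) * z * (g : G)⁻¹ * z) (i := m)
          rw [hzi, hi, inv_pow] at h
          rw [hs, h, Para.conj2_conj2 hz2]
        have h2 : s * z * s⁻¹ = (g : G) * z * (g : G)⁻¹ := by
          calc s * z * s⁻¹ = s * (z * s⁻¹ * z) * z⁻¹ := by group
            _ = s * s * z := by rw [h1, hzi]
            _ = (g : G) * z * (g : G)⁻¹ := by rw [hm, mul_assoc, hz2, mul_one]
        obtain ⟨l, hl, hc⟩ := hCHle (s⁻¹ * g) (mul_mem (inv_mem (hXC hsX)) g.2) (by
          calc s⁻¹ * (g : G) * z = s⁻¹ * ((g : G) * z * (g : G)⁻¹) * g := by group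
            _ = z * (s⁻¹ * g) := by rw [← h2]; group)
        refine ⟨(⟨s * (s⁻¹ * g * l⁻¹), mul_mem hsX (hA0 hc)⟩, ⟨l, hl⟩), Subtype.ext ?_⟩
        show s * (s⁻¹ * g * l⁻¹) * l = g
        group
    have := Nat.card_congr (Equiv.ofBijective f hf)
    rw [Nat.card_prod, show Nat.card L = 24 by rw [hL, card_map_of_injective hinj, card_LM]] at this
    omega
  -- the four group `⟨z, k⟩`
  have hconjk : ∀ x ∈ X, k * x * k ∈ X := by
    intro x hx
    let e : C ≃* C :=
      { toFun := fun c => ⟨k * c * k, by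
          have hc := mem_centralizer_singleton_iff.1 c.2
          refine mem_centralizer_singleton_iff.2 ?_
          have h1 : k * (c : G) * k * (k * a * k) = k * a * k * (k * (c : G) * k) := by
            rw [← Para.conj2_mul hk2, ← Para.conj2_mul hk2, hc]
          rw [hki] at hka
          rw [hka] at h1
          exact Commute.inv_right_iff.1 h1⟩
        invFun := fun c => ⟨k * c * k, by
          have hc := mem_centralizer_singleton_iff.1 c.2
          refine mem_centralizer_singleton_iff.2 ?_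
          have h1 : k * (c : G) * k * (k * a * k) = k * a * k * (k * (c : G) * k) := by
            rw [← Para.conj2_mul hk2, ← Para.conj2_mul hk2, hc]
          rw [hki] at hka
          rw [hka] at h1
          exact Commute.inv_right_iff.1 h1⟩
        left_inv := fun c => Subtype.ext (Para.conj2_conj2 hk2 (c : G))
        right_inv := fun c => Subtype.ext (Para.conj2_conj2 hk2 (c : G))
        map_mul' := fun c d => Subtype.ext (Para.conj2_mul hk2 (c : G) d) }
    obtain ⟨y, hy, rfl⟩ := mem_map.1 hx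
    have := (PBasic.map_pPrimeCore_equiv (p := 2) e).le (mem_map_of_mem _ hy)
    exact mem_map.2 ⟨_, this, rfl⟩
  haveI hN0 : ((zpowers a).subgroupOf X).Normal := ⟨fun x hx g => by
    rw [mem_subgroupOf] at hx ⊢
    show (g : G) * (x : G) * (g : G)⁻¹ ∈ zpowers a
    obtain ⟨n, hn⟩ := mem_zpowers_iff.1 hx
    rw [← hn, (Commute.zpow_right (mem_centralizer_singleton_iff.1 (hXC g.2)) n).eq, mul_inv_cancel_right]
    exact zpow_mem (mem_zpowers _) _⟩
  set N0 := (zpowers a).subgroupOf X with hN0'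
  have mkHom : ∀ t : G, t * t = 1 → (∀ x ∈ X, t * x * t ∈ X) → (t * a * t ∈ zpowers a) →
      ∃ σ : X ⧸ N0 →* X ⧸ N0, Function.Involutive σ ∧
        ∀ (x : X) (h : t * (x : G) * t ∈ X), σ x = QuotientGroup.mk ⟨t * (x : G) * t, h⟩ := by
    intro t ht htX hta
    let s : X →* X :=
      { toFun := fun x => ⟨t * x * t, htX x x.2⟩
        map_one' := Subtype.ext (by simp [ht])
        map_mul' := fun x y => Subtype.ext (Para.conj2_mul ht (x : G) y) }
    have hs : N0 ≤ N0.comap s := fun x hx => by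
      rw [mem_comap, hN0', mem_subgroupOf] at *
      obtain ⟨n, hn⟩ := mem_zpowers_iff.1 hx
      show t * (x : G) * t ∈ zpowers a
      have hti : t⁻¹ = t := inv_eq_of_mul_eq_one_left ht
      have hp := conj_zpow (a := t) (b := a) (i := n)
      rw [hti] at hp
      rw [← hn, ← hp]
      exact zpow_mem hta n
    refine ⟨QuotientGroup.map N0 N0 s hs, fun q => ?_, fun x h => rfl⟩
    refine QuotientGroup.induction_on q fun x => ?_
    show ((s (s x) : X) : X ⧸ N0) = x
    exact congrArg _ (Subtype.ext (Para.conj2_conj2 ht (x : G)))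
  have hXz : ∀ x ∈ X, z * x * z ∈ X := fun x hx => by
    have := hconjC z hzC x hx
    rwa [hzi] at this
  have hza : z * a * z = a := by
    rw [mem_centralizer_singleton_iff.1 hzC, mul_assoc, hz2, mul_one]
  obtain ⟨σ, hσi, hσ⟩ := mkHom z hz2 hXz (by rw [hza]; exact mem_zpowers _)
  obtain ⟨τ, hτi, hτ⟩ := mkHom k hk2 hconjk (by
    rw [hki] at hka; rw [hka]; exact inv_mem (mem_zpowers _))
  have hA0fix : ∀ c ∈ zpowers a, c * k = k * c → c = 1 := by
    intro c hc hck
    rw [ha] at hc
    have hne2 : a ≠ a⁻¹ := fun e => ha1 (by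
      rw [pow_succ, pow_two] at ha3
      have h2 : a * a = 1 := by nth_rw 2 [e]; exact mul_inv_cancel _
      rwa [h2, one_mul] at ha3)
    obtain ⟨x, hx⟩ := Para.exists_pre φ hrange (g := c) (by
      obtain ⟨n, rfl⟩ := mem_zpowers_iff.1 hc
      exact (Commute.zpow_left (mem_centralizer_singleton_iff.1 hzC).symm n).eq)
    rw [← hx] at hc hck ⊢
    rcases (Para.map_zpowers_iff φ hinj).1 hc with e | e | e
    · rw [e, map_one]
    · rw [e] at hck
      exact absurd (by rw [← hka, ha, ← hck, mul_inv_cancel_right]) hne2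
    · rw [e, map_inv] at hck
      have hc' : a * k = k * a := (Commute.inv_left_iff.1 (show Commute a⁻¹ k from hck)).eq
      exact absurd (by rw [← hka, ← hc', mul_inv_cancel_right]) hne2
  have hlift : ∀ (t : G), t * t = 1 → (∀ x ∈ X, t * x * t ∈ X) →
      ∀ x ∈ X, ∀ c ∈ zpowers a, t * x * t = x * c → t * c * t = c⁻¹ := by
    intro t ht htX x hx c hc e
    have h := Para.conj2_conj2 ht x
    rw [e, Para.conj2_mul ht, e] at h
    rw [mul_assoc] at h
    exact eq_inv_of_mul_eq_one_right (mul_eq_left.1 h)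
  have hσfpf : MonoidHom.FixedPointFree σ := fun q => by
    refine QuotientGroup.induction_on q fun x h => ?_
    rw [hσ x (hXz x x.2), QuotientGroup.eq] at h
    have hcm : (z * (x : G) * z)⁻¹ * x ∈ zpowers a := mem_subgroupOf.1 h
    have hc := inv_mem hcm
    rw [mul_inv_rev, inv_inv] at hc
    set c := (x : G)⁻¹ * (z * x * z) with hc'
    have e : z * (x : G) * z = x * c := by rw [hc', mul_inv_cancel_left]
    have h1 := hlift z hz2 hXz x x.2 c hc e
    have h2 : z * c * z = c := by
      obtain ⟨n, hn⟩ := mem_zpowers_iff.1 hc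
      rw [← hn]
      have hp := conj_zpow (a := z) (b := a) (i := n)
      rw [hzi] at hp
      rw [← hp, hza]
    have hc1 : c = 1 := hnoinv c (hA0 hc) (by
      nth_rw 2 [h2.symm.trans h1]; exact mul_inv_cancel _)
    rw [hc1, mul_one] at e
    rw [QuotientGroup.eq_one_iff]
    exact mem_subgroupOf.2 (hfix x x.2 (Para.commute_of_conj2 hz2 e).eq)
  have hQc : ∀ p q : X ⧸ N0, p * q = q * p := fun p q => (hσfpf.commute_all_of_involutive hσi p q).eq
  have hQσ : ∀ q, σ q = q⁻¹ := fun q => congrFun (hσfpf.coe_eq_inv_of_involutive hσi) q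
  -- fixed points of `k` and `k z`
  set F := X ⊓ centralizer {k} with hF
  set F' := X ⊓ centralizer {k * z} with hF'
  have hmap : F' = F.map (MulAut.conj w).toMonoidHom := by
    have hwC : w ∈ C := hLC (mem_map_of_mem φ (mem_LList.1 hwL))
    ext x
    simp only [hF, hF', mem_inf, mem_map, mem_centralizer_singleton_iff]
    constructor
    · rintro ⟨hx, hc⟩
      refine ⟨w⁻¹ * x * w, ⟨?_, ?_⟩, by simp [mul_assoc]⟩
      · have := hconjC _ (inv_mem hwC) x hx
        rwa [inv_inv] at this
      · rw [← hwk] at hc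
        calc w⁻¹ * x * w * k = w⁻¹ * (x * (w * k * w⁻¹)) * w := by group
          _ = k * (w⁻¹ * x * w) := by rw [hc]; group
    · rintro ⟨u, ⟨hu, hc⟩, rfl⟩
      refine ⟨hconjC _ hwC u hu, ?_⟩
      simp only [MulEquiv.coe_toMonoidHom, MulAut.conj_apply, ← hwk]
      calc w * u * w⁻¹ * (w * k * w⁻¹) = w * (u * k) * w⁻¹ := by group
        _ = _ := by rw [hc]; group
  have hFcard : Nat.card F = 1 ∨ Nat.card F = 3 ∨ Nat.card F = 9 := by
    obtain ⟨g, hg⟩ := isConj_iff.1 hk
    have hle : F.map (MulAut.conj g⁻¹).toMonoidHom ≤ φ.range := by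
      rw [hrange]
      rintro _ ⟨x, hx, rfl⟩
      have c : x * k = k * x := mem_centralizer_singleton_iff.1 hx.2
      rw [← hg] at c
      rw [mem_centralizer_singleton_iff]
      simp only [MulEquiv.coe_toMonoidHom, MulAut.conj_apply, inv_inv]
      calc g⁻¹ * x * g * z = g⁻¹ * (x * (g * z * g⁻¹)) * g := by group
        _ = z * (g⁻¹ * x * g) := by rw [c]; group
    have hd := card_dvd_of_le hle
    rw [card_map_of_injective (MulAut.conj g⁻¹).injective,
      ← Nat.card_congr (MonoidHom.ofInjective hinj).toEquiv,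
      (Nat.card_eq_fintype_card (α := Mod)).trans card_Mod] at hd
    refine odd_dvd_576 _ (Nat.mem_divisors.2 ⟨hd, by norm_num⟩) ?_
    exact Nat.odd_iff.1 (hXodd'.of_dvd_nat (card_dvd_of_le inf_le_left))
  -- the quotient is the product of the two fixed groups
  have hcard : Nat.card (X ⧸ N0) = Nat.card F * Nat.card F' := by
    have hkzk : ∀ x : G, k * z * x * (k * z) = k * (z * x * z) * k := fun x => by
      nth_rw 2 [hkz.eq]; group
    have hkz2 : k * z * (k * z) = 1 := by
      rw [mul_assoc, ← mul_assoc z, ← hkz.eq, mul_assoc k, hz2, mul_one, hk2]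
    let f : F × F' → X ⧸ N0 := fun p => QuotientGroup.mk ⟨(p.1 : G) * p.2, mul_mem p.1.2.1 p.2.2.1⟩
    have hτF : ∀ (y : X), (y : G) * k = k * (y : G) → τ y = y := by
      intro y hy
      rw [hτ y (hconjk y y.2)]
      refine congrArg _ (Subtype.ext ?_)
      show k * (y : G) * k = y
      rw [← hy, mul_assoc, hk2, mul_one]
    have hτF' : ∀ (y : X), (y : G) * (k * z) = k * z * (y : G) → τ y = (y : X ⧸ N0)⁻¹ := by
      intro y hy
      have e : k * (y : G) * k = z * y * z := by
        have h1 : k * z * (y : G) * (k * z) = y := by rw [← hy, mul_assoc, hkz2, mul_one]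
        rw [hkzk] at h1
        have h2 := congrArg (fun u => k * u * k) h1
        simp only [Para.conj2_conj2 hk2] at h2
        exact h2.symm
      rw [hτ y (hconjk y y.2), ← hQσ, hσ y (hXz y y.2)]
      exact congrArg _ (Subtype.ext e)
    have h3 : ∀ q : X ⧸ N0, q ^ Nat.card (X ⧸ N0) = 1 := fun q => pow_card_eq_one'
    have hqodd : Odd (Nat.card (X ⧸ N0)) := by
      refine hXodd'.of_dvd_nat ?_
      rw [← index_eq_card]; exact index_dvd_card _
    have hsqrt : ∀ q : X ⧸ N0, ∃ r, r * r = q := by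
      intro q
      obtain ⟨j, hj⟩ := hqodd
      refine ⟨q ^ (j + 1), ?_⟩
      rw [← pow_add, show j + 1 + (j + 1) = Nat.card (X ⧸ N0) + 1 by omega, pow_succ, h3, one_mul]
    have hsq1 : ∀ q : X ⧸ N0, q * q = 1 → q = 1 := by
      intro q hq
      obtain ⟨r, rfl⟩ := hsqrt q
      obtain ⟨j, hj⟩ := hqodd
      have := h3 r
      rw [hj, pow_succ, pow_mul] at this
      have h4 : (r ^ 2) ^ 2 = 1 := by simpa [pow_two, mul_assoc] using hq
      rcases Nat.even_or_odd j with ⟨i, hi⟩ | ⟨i, hi⟩
      · rw [hi, ← two_mul, pow_mul, h4, one_pow, one_mul] at this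
        rw [this, one_mul]
      · rw [hi, pow_succ, pow_mul, h4, one_pow, one_mul] at this
        have h5 : r ^ 3 = 1 := by rw [pow_succ]; exact this
        have h6 : r ^ 4 = 1 := by rw [show (4 : ℕ) = 2 * 2 from rfl, pow_mul, h4]
        rw [pow_succ, h5, one_mul] at h6
        rw [h6, one_mul]
    have liftF : ∀ (t : G), t * t = 1 → (∀ x ∈ X, t * x * t ∈ X) →
        (∀ c ∈ zpowers a, t * c * t = c⁻¹) →
        ∀ (x : X) (h : t * (x : G) * t ∈ X), (QuotientGroup.mk ⟨t * (x : G) * t, h⟩ : X ⧸ N0) = x →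
          ∃ y : X, (y : G) * t = t * y ∧ (y : X ⧸ N0) = x := by
      intro t ht htX htc x h e
      rw [QuotientGroup.eq] at e
      have hcm : (t * (x : G) * t)⁻¹ * x ∈ zpowers a := mem_subgroupOf.1 e
      obtain ⟨m, hm⟩ := hhalf _ (hA0 hcm)
      set c := (t * (x : G) * t)⁻¹ * x with hc
      have hdm : c ^ m ∈ zpowers a := pow_mem hcm m
      refine ⟨⟨(x : G) * (c ^ m)⁻¹, mul_mem x.2 (inv_mem (hA0 hdm))⟩,
        (Para.commute_of_conj2 ht ?_).eq, ?_⟩
      · show t * ((x : G) * (c ^ m)⁻¹) * t = x * (c ^ m)⁻¹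
        rw [Para.conj2_mul ht, Para.conj2_inv ht, htc _ hdm, inv_inv]
        have e1 : t * (x : G) * t = x * c⁻¹ := by rw [hc]; group
        rw [e1, mul_assoc]
        refine congrArg _ ?_
        nth_rw 1 [← hm]
        rw [mul_inv_rev, mul_assoc, inv_mul_cancel, mul_one]
      · rw [QuotientGroup.eq]
        refine mem_subgroupOf.2 ?_
        show ((x : G) * (c ^ m)⁻¹)⁻¹ * x ∈ zpowers a
        rw [mul_inv_rev, inv_inv, inv_mul_cancel_right]
        exact hdm
    have hkc : ∀ c ∈ zpowers a, k * c * k = c⁻¹ := by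
      intro c hc
      obtain ⟨n, rfl⟩ := mem_zpowers_iff.1 hc
      have hp := conj_zpow (a := k) (b := a) (i := n)
      rw [hka, hki] at hp
      rw [← hp, inv_zpow]
    have hkzc : ∀ c ∈ zpowers a, k * z * c * (k * z) = c⁻¹ := by
      intro c hc
      rw [hkzk]
      have : z * c * z = c := by
        obtain ⟨n, rfl⟩ := mem_zpowers_iff.1 hc
        have hp := conj_zpow (a := z) (b := a) (i := n)
        rw [hzi] at hp
        rw [← hp, hza]
      rw [this, hkc c hc]
    have hf : Function.Bijective f := by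
      constructor
      · rintro ⟨p, p'⟩ ⟨q, q'⟩ h
        have e : (QuotientGroup.mk ⟨(p : G), p.2.1⟩ : X ⧸ N0) * QuotientGroup.mk ⟨(p' : G), p'.2.1⟩ =
            QuotientGroup.mk ⟨(q : G), q.2.1⟩ * QuotientGroup.mk ⟨(q' : G), q'.2.1⟩ := h
        have e2 := congrArg τ e
        rw [map_mul, map_mul, hτF ⟨(p : G), p.2.1⟩ (mem_centralizer_singleton_iff.1 p.2.2),
          hτF ⟨(q : G), q.2.1⟩ (mem_centralizer_singleton_iff.1 q.2.2),
          hτF' ⟨(p' : G), p'.2.1⟩ (mem_centralizer_singleton_iff.1 p'.2.2),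
          hτF' ⟨(q' : G), q'.2.1⟩ (mem_centralizer_singleton_iff.1 q'.2.2)] at e2
        generalize (QuotientGroup.mk ⟨(p : G), p.2.1⟩ : X ⧸ N0) = P at e e2
        generalize (QuotientGroup.mk ⟨(q : G), q.2.1⟩ : X ⧸ N0) = Q at e e2
        have hAB : ∀ A B : X ⧸ N0, A * B * (A * B⁻¹) = A * A := fun A B => by
          rw [mul_assoc, ← mul_assoc B, hQc B A, mul_assoc A B, mul_inv_cancel, mul_one]
        have e1 : P * P = Q * Q := by
          rw [← hAB P (QuotientGroup.mk ⟨(p' : G), p'.2.1⟩),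
            ← hAB Q (QuotientGroup.mk ⟨(q' : G), q'.2.1⟩), e, e2]
        have ePQ : P = Q := by
          refine (inv_mul_eq_one.1 (hsq1 (P⁻¹ * Q) ?_))
          rw [mul_assoc, ← mul_assoc Q, hQc Q P⁻¹, mul_assoc, ← e1, ← mul_assoc, ← mul_inv_rev,
            inv_mul_cancel]
        subst ePQ
        have e' := mul_left_cancel e
        rw [QuotientGroup.eq] at e'
        have hm : (p' : G)⁻¹ * q' ∈ zpowers a := mem_subgroupOf.1 e'
        have hd : (p' : G)⁻¹ * q' = 1 := by
          have hc : Commute ((p' : G)⁻¹ * q') (k * z) :=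
            (show Commute (p' : G) (k * z) from mem_centralizer_singleton_iff.1 p'.2.2).inv_left.mul_left
              (mem_centralizer_singleton_iff.1 q'.2.2)
          have hcz : Commute ((p' : G)⁻¹ * q') z := by
            obtain ⟨n, hn⟩ := mem_zpowers_iff.1 hm
            rw [← hn]; exact Commute.zpow_left (mem_centralizer_singleton_iff.1 hzC).symm n
          have hck : Commute ((p' : G)⁻¹ * q') k := by
            have := hc.mul_right hcz
            rwa [mul_assoc, hz2, mul_one] at this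
          exact hA0fix _ hm hck.eq
        rw [inv_mul_eq_one] at hd
        have hp : (p : G) = q := by
          have h2 : (QuotientGroup.mk ⟨(p : G) * p', mul_mem p.2.1 p'.2.1⟩ : X ⧸ N0) =
              QuotientGroup.mk ⟨(q : G) * q', mul_mem q.2.1 q'.2.1⟩ := h
          rw [QuotientGroup.eq] at h2
          have hm2 : ((p : G) * p')⁻¹ * (q * q') ∈ zpowers a := mem_subgroupOf.1 h2
          rw [← hd] at hm2
          have hm3 : (p : G)⁻¹ * q ∈ zpowers a := by
            have hn := hm2
            rw [mul_inv_rev, mul_assoc] at hn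
            obtain ⟨n, hn'⟩ := mem_zpowers_iff.1 hn
            have hc : Commute a (p' : G) :=
              (mem_centralizer_singleton_iff.1 (hXC p'.2.1)).symm
            have e3 : (p : G)⁻¹ * q = (p' : G) * a ^ n * (p' : G)⁻¹ := by rw [hn']; group
            rw [e3, ← (hc.zpow_left n).eq, mul_inv_cancel_right]
            exact zpow_mem (mem_zpowers _) n
          have := hA0fix _ hm3 ((show Commute (p : G) k from
            mem_centralizer_singleton_iff.1 p.2.2).inv_left.mul_left
              (mem_centralizer_singleton_iff.1 q.2.2)).eq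
          exact inv_mul_eq_one.1 this
        exact Prod.ext (Subtype.ext hp) (Subtype.ext hd)
      · intro q0
        obtain ⟨r, rfl⟩ := hsqrt q0
        have hfix1 : τ (r * τ r) = r * τ r := by rw [map_mul, hτi, hQc]
        have hfix2 : τ (r * (τ r)⁻¹) = (r * (τ r)⁻¹)⁻¹ := by
          rw [map_mul, map_inv, hτi, mul_inv_rev, inv_inv]
        obtain ⟨u, hu⟩ := QuotientGroup.mk_surjective (r * τ r)
        obtain ⟨v, hv⟩ := QuotientGroup.mk_surjective (r * (τ r)⁻¹)
        rw [← hu, hτ u (hconjk u u.2)] at hfix1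
        obtain ⟨y, hy, hye⟩ := liftF k hk2 hconjk hkc u _ hfix1
        have hXkz : ∀ x ∈ X, k * z * x * (k * z) ∈ X := fun x hx => by
          rw [hkzk]; exact hconjk _ (hXz x hx)
        have hfix3 : (QuotientGroup.mk ⟨k * z * (v : G) * (k * z), hXkz v v.2⟩ : X ⧸ N0) = v := by
          have h5 : τ (σ v) = v := by rw [hQσ, map_inv, hv, hfix2, inv_inv]
          rw [hσ v (hXz v v.2), hτ _ (hconjk _ (hXz v v.2))] at h5
          refine Eq.trans (congrArg _ (Subtype.ext ?_)) h5
          exact hkzk v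
        obtain ⟨y', hy', hye'⟩ := liftF (k * z) hkz2 hXkz hkzc v _ hfix3
        refine ⟨(⟨y, y.2, mem_centralizer_singleton_iff.2 hy⟩,
          ⟨y', y'.2, mem_centralizer_singleton_iff.2 hy'⟩), ?_⟩
        show (QuotientGroup.mk y : X ⧸ N0) * QuotientGroup.mk y' = r * r
        rw [hye, hye', hu, hv, mul_assoc r, ← mul_assoc (τ r), hQc (τ r) r, mul_assoc r, mul_inv_cancel,
          mul_one]
    rw [← Nat.card_prod]
    exact (Nat.card_congr (Equiv.ofBijective f hf)).symm
  have hXN : Nat.card X = 3 * Nat.card (X ⧸ N0) := by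
    have h1 := N0.card_mul_index
    rw [Nat.card_congr (subgroupOfEquivOfLe hA0).toEquiv, index_eq_card, Nat.card_zpowers] at h1
    haveI : Fact (Nat.Prime 3) := ⟨Nat.prime_three⟩
    rw [orderOf_eq_prime ha3 ha1] at h1
    exact h1.symm
  have hFF : Nat.card F' = Nat.card F := by
    rw [hmap]; exact card_map_of_injective (MulAut.conj w).injective
  rw [hcardC, hXN, hcard, hFF]
  rcases hFcard with e | e | e <;> rw [e] <;> norm_num

end Cfsg.Agent.G23Two
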