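import Cfsg.Agent.Lib.G23Two.Search
import Cfsg.Agent.Lib.G23Two.ConfigData

/-!
The possible configurations of the eleven virtual characters, stage by stage, and the ones excluded by
Bessel's inequality.
-/

set_option autoImplicit false
set_option maxRecDepth 100000
set_option maxHeartbeats 1000000

namespace Cfsg.Agent.G23Two

/-- A column, decoded. -/
def decRow (k n : ℕ) : List ℤ := (List.range k).map fun i => ((n / 5 ^ i % 5 : ℕ) : ℤ) - 2

/-- The encoded configurations. -/
def rawOf (k : ℕ) : List (List ℕ) :=
  [raw0, raw1, raw2, raw3, raw4, raw5, raw6, raw7, raw8, raw9, raw10, raw11].getD k []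

/-- A column, encoded. -/
def encRow : List ℤ → ℕ
  | [] => 0
  | a :: l => (a + 2).toNat + 5 * encRow l

/-- Equality of lists of naturals. -/
def natsEq : List ℕ → List ℕ → Bool
  | [], [] => true
  | a :: l, b :: m => Nat.beq a b && natsEq l m
  | _, _ => false

theorem natsEq_eq : ∀ l m : List ℕ, natsEq l m = true → l = m
  | [], [], _ => rfl
  | [], _ :: _, h => by simp [natsEq] at h
  | _ :: _, [], h => by simp [natsEq] at h
  | a :: l, b :: m, h => by
    rw [natsEq, Bool.and_eq_true] at h
    rw [Nat.eq_of_beq_eq_true h.1, natsEq_eq l m h.2]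

/-- The configurations of the first vectors. -/
def configs (k : ℕ) : List (List (List ℤ)) :=
  (rawOf k).map fun S => S.map (decRow k)

/-- The inner products of the virtual characters. -/
def gramTable : List (List ℤ) :=
  [[4, 1, -2, -1, 0, 1, -1, 0, 1, 0, -1], [1, 3, -1, 0, 1, 0, -1, 0, -1, 0, 0],
   [-2, -1, 4, 1, -2, 1, 1, 0, -1, 0, 1], [-1, 0, 1, 3, -1, 0, -1, 0, -1, 0, 0],
   [0, 1, -2, -1, 4, -1, 1, 0, -1, 0, 1], [1, 0, 1, 0, -1, 4, 0, -1, 0, 2, -1],
   [-1, -1, 1, -1, 1, 0, 4, -1, 0, 0, 1], [0, 0, 0, 0, 0, -1, -1, 4, 1, -2, -1],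
   [1, -1, -1, -1, -1, 0, 0, 1, 4, 0, -1], [0, 0, 0, 0, 0, 2, 0, -2, 0, 4, 0],
   [-1, 0, 1, 0, 1, -1, 1, -1, -1, 0, 6]]

/-- The inner product of two virtual characters. -/
def gram (i j : Fin 11) : ℤ := (gramTable.getD i.val []).getD j.val 0

/-- Sixty-four times the inverse of the table of inner products. -/
def dualTable : List (List ℤ) :=
  [[37, -8, 28, 8, 15, -18, -1, -2, 1, 8, -4], [-8, 32, 0, 0, -8, 0, 8, 0, 8, 0, 0],
   [28, 0, 80, 0, 52, -24, -28, -24, 28, 0, -16], [8, 0, 0, 32, 8, 0, 8, 0, 8, 0, 0],
   [15, -8, 52, 8, 61, -6, -27, -22, 27, -8, -12], [-18, 0, -24, 0, -6, 36, 2, 4, -2, -16, 8],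
   [-1, 8, -28, 8, -27, 2, 37, 18, -13, 8, 4], [-2, 0, -24, 0, -22, 4, 18, 36, -18, 16, 8],
   [1, 8, 28, 8, 27, -2, -13, -18, 37, -8, -4], [8, 0, 0, 0, -8, -16, 8, 16, -8, 32, 0],
   [-4, 0, -16, 0, -12, 8, 4, 8, -4, 0, 16]]

/-- The dual coordinates of a column. -/
def dualOf (r : List ℤ) (i : Fin 11) : ℤ :=
  ∑ j : Fin 11, (dualTable.getD i.val []).getD j.val 0 * r.getD j.val 0

/-- Bessel's inequality fails for the column. -/
def besselBad (r : List ℤ) : Bool :=
  let a := ∑ i : Fin 11, dualOf r i * r.getD i.val 0
  a != 0 && decide (∑ i : Fin 11, ∑ j : Fin 11, dualOf r i * dualOf r j * gram i j ≤ a * a)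

/-- The principal column. -/
def princCol (k : Fin 11) : ℤ := if k.val = 0 then -1 else 0

/-- The inner products of a vector with the earlier ones. -/
def needOf (k : Fin 11) : List ℤ := ((List.finRange 11).take k.val).map fun j => gram j k

/-- One configuration's extensions are listed. -/
def stepOK (k : Fin 11) (S : List (List ℤ)) : Bool :=
    (extend k.val S (princCol k) (needOf k) (gram k k).toNat).all fun T =>
      (T.all fun r => decRow (k.val + 1) (encRow r) == r) &&
        (rawOf (k.val + 1)).any fun U => natsEq (T.map encRow) U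

theorem step0 : ((configs 0).all (stepOK 0)) = true := by decide +kernel

theorem step1 : ((configs 1).all (stepOK 1)) = true := by decide +kernel

theorem step2 : ((configs 2).all (stepOK 2)) = true := by decide +kernel

theorem step3 : ((configs 3).all (stepOK 3)) = true := by decide +kernel

theorem step4 : ((configs 4).all (stepOK 4)) = true := by decide +kernel

theorem step5 : ((configs 5).all (stepOK 5)) = true := by decide +kernel

theorem step6 : ((configs 6).all (stepOK 6)) = true := by decide +kernel

theorem step7 : ((configs 7).all (stepOK 7)) = true := by decide +kernel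

theorem step8 : ((configs 8).all (stepOK 8)) = true := by decide +kernel

theorem step9 : ((configs 9).all (stepOK 9)) = true := by decide +kernel

theorem step10_0 : ((((configs 10).drop 0).take 18).all (stepOK 10)) = true := by decide +kernel

theorem step10_1 : ((((configs 10).drop 18).take 18).all (stepOK 10)) = true := by decide +kernel

theorem step10_2 : ((((configs 10).drop 36).take 16).all (stepOK 10)) = true := by decide +kernel

theorem configs10_split : (configs 10) = ((configs 10).drop 0).take 18 ++
    (((configs 10).drop 18).take 18 ++ ((configs 10).drop 36).take 16) := by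
  have h : (configs 10).length = 52 := by decide +kernel
  rw [List.drop_zero]
  conv_lhs => rw [← List.take_append_drop 18 (configs 10), ← List.take_append_drop 18 ((configs 10).drop 18)]
  rw [List.drop_drop]
  congr 2
  all_goals first | rfl | exact (List.take_of_length_le (by rw [List.length_drop, h])).symm

theorem configs_step (k : Fin 11) (S : List (List ℤ)) (hS : S ∈ configs k.val) (T : List (List ℤ))
    (hT : T ∈ extend k.val S (princCol k) (needOf k) (gram k k).toNat) : T ∈ configs (k.val + 1) := by
  have hk : stepOK k S = true := by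
    match k, hS with
    | ⟨0, _⟩, hS => exact List.all_eq_true.1 step0 S hS
    | ⟨1, _⟩, hS => exact List.all_eq_true.1 step1 S hS
    | ⟨2, _⟩, hS => exact List.all_eq_true.1 step2 S hS
    | ⟨3, _⟩, hS => exact List.all_eq_true.1 step3 S hS
    | ⟨4, _⟩, hS => exact List.all_eq_true.1 step4 S hS
    | ⟨5, _⟩, hS => exact List.all_eq_true.1 step5 S hS
    | ⟨6, _⟩, hS => exact List.all_eq_true.1 step6 S hS
    | ⟨7, _⟩, hS => exact List.all_eq_true.1 step7 S hS
    | ⟨8, _⟩, hS => exact List.all_eq_true.1 step8 S hS
    | ⟨9, _⟩, hS => exact List.all_eq_true.1 step9 S hS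
    | ⟨10, _⟩, hS =>
      rw [show (⟨10, _⟩ : Fin 11).val = 10 from rfl, configs10_split, List.mem_append, List.mem_append] at hS
      rcases hS with h | h | h
      exacts [List.all_eq_true.1 step10_0 S h, List.all_eq_true.1 step10_1 S h,
        List.all_eq_true.1 step10_2 S h]
    | ⟨n + 11, h⟩, _ => omega
  have h := List.all_eq_true.1 hk T hT
  rw [Bool.and_eq_true] at h
  obtain ⟨U, hU, hUT⟩ := List.any_eq_true.1 h.2
  refine List.mem_map.2 ⟨U, hU, ?_⟩
  rw [← natsEq_eq _ _ hUT, List.map_map]
  refine (List.map_congr_left fun r hr => ?_).trans T.map_id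
  exact beq_iff_eq.1 (List.all_eq_true.1 h.1 r hr)

/-- The configurations which survive Bessel's inequality. -/
def finals : List (List (List ℤ)) := (configs 11).filter fun S => !(S.tail.any besselBad)

theorem finals_length : finals.length = 62 := by decide +kernel

theorem gram_facts : ∀ k : Fin 11, ((gram k k).toNat : ℤ) = gram k k ∧ (gram k k).toNat ≤ 6 := by
  decide +kernel

theorem needOf_eq : ∀ k j : Fin 11, j.val < k.val → (needOf k).getD j.val 0 = gram j k := by
  decide +kernel

end Cfsg.Agent.G23Two
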