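/-!
For each configuration the order in which the degrees are tried, with the combinations of the eleven
coordinates forcing some of them, and the possible degrees for each value at the involution.
-/

set_option autoImplicit false
set_option maxRecDepth 100000

namespace Cfsg.Agent.G23Two

/-- Plan 0. -/
def plan0 : List (Nat × List Int) := [
  (0, []), (11, []), (12, []), (17, [0, 0, 0, -1, 0, 0, 0, 0, 0, 0, 0]), (15, []),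
  (19, [0, 1, -1, 1, -1, 0, 0, 0, 0, 0, 0]), (18, [2, -1, 1, 1, 1, 0, 0, 0, 0, 0, 0]),
  (16, [0, 1, 1, -1, 1, 0, 0, 0, 0, 0, 0]), (14, []), (13, [0, 1, 1, -1, -1, 0, 0, 0, 0, 0, 0]), (6, []),
  (4, [0, 1, 1, 1, 1, 0, 0, 0, 2, 0, 0]), (8, []), (7, [0, 1, -1, 1, -1, 0, 2, 0, 0, 0, 0]), (10, []),
  (3, [0, 1, -1, 1, -1, 0, 2, 2, 0, 2, 0]), (9, [-2, 1, -1, -1, -1, 2, 0, 0, 0, 0, 0]),
  (5, [-1, 1, -1, 0, -1, 1, 1, 1, 0, 0, 0]), (2, []), (1, [-1, 1, -1, -1, -1, 1, 1, 1, 0, 0, 1])]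

/-- Plan 1. -/
def plan1 : List (Nat × List Int) := [
  (0, []), (11, []), (12, []), (17, [0, 0, 0, -1, 0, 0, 0, 0, 0, 0, 0]), (15, []),
  (19, [0, 1, -1, 1, -1, 0, 0, 0, 0, 0, 0]), (18, [2, -1, 1, 1, 1, 0, 0, 0, 0, 0, 0]),
  (16, [0, 1, 1, -1, 1, 0, 0, 0, 0, 0, 0]), (14, []), (13, [0, 1, 1, -1, -1, 0, 0, 0, 0, 0, 0]), (6, []),
  (4, [0, 1, 1, 1, 1, 0, 0, 0, 2, 0, 0]), (8, []), (7, [0, 1, -1, 1, -1, 0, 2, 0, 0, 0, 0]), (10, []),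
  (3, [0, 1, -1, 1, -1, 0, 2, 2, 0, 2, 0]), (9, [-2, 1, -1, -1, -1, 2, 0, 0, 0, 0, 0]),
  (5, [-1, 1, -1, 0, -1, 1, 1, 1, 0, 0, 0]), (2, []), (1, [-1, 1, -2, 1, -2, 1, 1, 1, 0, 0, 1])]

/-- Plan 2. -/
def plan2 : List (Nat × List Int) := [
  (0, []), (9, []), (10, []), (15, [0, 0, 0, -1, 0, 0, 0, 0, 0, 0, 0]), (13, []),
  (17, [0, 1, -1, 1, -1, 0, 0, 0, 0, 0, 0]), (16, [2, -1, 1, 1, 1, 0, 0, 0, 0, 0, 0]),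
  (14, [0, 1, 1, -1, 1, 0, 0, 0, 0, 0, 0]), (11, []), (12, [0, 1, 1, -1, -1, 0, 0, 0, 0, 0, 0]),
  (7, [-2, -1, -1, -1, 1, 2, -2, 0, 0, 0, 0]), (8, [-2, 1, -3, 1, -1, 2, 2, 0, 0, 0, 0]), (6, []),
  (3, [0, 1, 1, 1, 1, 0, 0, 0, 2, 0, 0]), (5, []), (1, [0, 1, 1, -3, -1, 0, 0, 0, 0, 0, 2]),
  (2, [2, 1, 1, 1, -1, -2, 2, 4, 0, 4, 0]), (4, [-2, 1, -3, 1, -1, 2, 2, 4, 0, 0, 0])]

/-- Plan 3. -/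
def plan3 : List (Nat × List Int) := [
  (0, []), (9, []), (10, []), (15, [0, 0, 0, -1, 0, 0, 0, 0, 0, 0, 0]), (13, []),
  (17, [0, 1, -1, 1, -1, 0, 0, 0, 0, 0, 0]), (16, [2, -1, 1, 1, 1, 0, 0, 0, 0, 0, 0]),
  (14, [0, 1, 1, -1, 1, 0, 0, 0, 0, 0, 0]), (11, []), (12, [0, 1, 1, -1, -1, 0, 0, 0, 0, 0, 0]),
  (7, [-2, -1, -1, -1, 1, 2, -2, 0, 0, 0, 0]), (8, [-2, 1, -3, 1, -1, 2, 2, 0, 0, 0, 0]), (6, []),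
  (3, [0, 1, 1, 1, 1, 0, 0, 0, 2, 0, 0]), (5, []), (1, [0, 1, -1, 1, -3, 0, 0, 0, 0, 0, 2]),
  (2, [2, 1, 1, 1, -1, -2, 2, 4, 0, 4, 0]), (4, [-2, 1, -3, 1, -1, 2, 2, 4, 0, 0, 0])]

/-- Plan 4. -/
def plan4 : List (Nat × List Int) := [
  (0, []), (9, []), (10, []), (15, [0, 0, 0, -1, 0, 0, 0, 0, 0, 0, 0]), (13, []),
  (17, [0, 1, -1, 1, -1, 0, 0, 0, 0, 0, 0]), (16, [2, -1, 1, 1, 1, 0, 0, 0, 0, 0, 0]),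
  (14, [0, 1, 1, -1, 1, 0, 0, 0, 0, 0, 0]), (6, []), (5, [0, 1, -1, 1, -1, 0, 2, 0, 0, 0, 0]), (12, []),
  (3, [0, 1, 3, -1, 1, 0, -2, -2, 2, 0, 0]), (4, [0, 0, -1, 1, 0, 0, 1, 1, 0, 0, 0]),
  (11, [0, 1, 1, -1, -1, 0, 0, 0, 0, 0, 0]), (8, []), (1, [-1, 0, 0, -2, 0, 1, -1, 0, 0, 0, 1]),
  (2, [0, 1, 1, -1, -1, 0, 0, 0, 0, 2, 0]), (7, [-2, 1, -1, -1, -1, 2, 0, 0, 0, 0, 0])]

/-- Plan 5. -/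
def plan5 : List (Nat × List Int) := [
  (0, []), (9, []), (10, []), (15, [0, 0, 0, -1, 0, 0, 0, 0, 0, 0, 0]), (13, []),
  (17, [0, 1, -1, 1, -1, 0, 0, 0, 0, 0, 0]), (16, [2, -1, 1, 1, 1, 0, 0, 0, 0, 0, 0]),
  (14, [0, 1, 1, -1, 1, 0, 0, 0, 0, 0, 0]), (6, []), (5, [0, 1, -1, 1, -1, 0, 2, 0, 0, 0, 0]), (12, []),
  (3, [0, 1, 3, -1, 1, 0, -2, -2, 2, 0, 0]), (4, [0, 0, -1, 1, 0, 0, 1, 1, 0, 0, 0]),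
  (11, [0, 1, 1, -1, -1, 0, 0, 0, 0, 0, 0]), (8, []), (1, [-1, 0, -1, 0, -1, 1, -1, 0, 0, 0, 1]),
  (2, [0, 1, 1, -1, -1, 0, 0, 0, 0, 2, 0]), (7, [-2, 1, -1, -1, -1, 2, 0, 0, 0, 0, 0])]

/-- Plan 6. -/
def plan6 : List (Nat × List Int) := [
  (0, []), (9, []), (10, []), (15, [0, 0, 0, -1, 0, 0, 0, 0, 0, 0, 0]), (13, []),
  (17, [0, 1, -1, 1, -1, 0, 0, 0, 0, 0, 0]), (16, [2, -1, 1, 1, 1, 0, 0, 0, 0, 0, 0]),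
  (14, [0, 1, 1, -1, 1, 0, 0, 0, 0, 0, 0]), (4, []), (3, [0, 1, 1, 1, 1, 0, 0, 0, 2, 0, 0]), (12, []),
  (5, [0, 1, 1, -1, -1, 0, 0, -2, 0, 0, 0]), (6, [0, 0, -1, 1, 0, 0, 1, 1, 0, 0, 0]),
  (11, [0, 1, 1, -1, -1, 0, 0, 0, 0, 0, 0]), (8, []), (1, [-1, 0, -1, -2, -1, 1, 0, 0, -1, 0, 1]),
  (2, [0, 1, 1, -1, -1, 0, 0, 0, 0, 2, 0]), (7, [-2, 1, -1, -1, -1, 2, 0, 0, 0, 0, 0])]

/-- Plan 7. -/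
def plan7 : List (Nat × List Int) := [
  (0, []), (9, []), (10, []), (15, [0, 0, 0, -1, 0, 0, 0, 0, 0, 0, 0]), (13, []),
  (17, [0, 1, -1, 1, -1, 0, 0, 0, 0, 0, 0]), (16, [2, -1, 1, 1, 1, 0, 0, 0, 0, 0, 0]),
  (14, [0, 1, 1, -1, 1, 0, 0, 0, 0, 0, 0]), (4, []), (3, [0, 1, 1, 1, 1, 0, 0, 0, 2, 0, 0]), (12, []),
  (5, [0, 1, 1, -1, -1, 0, 0, -2, 0, 0, 0]), (6, [0, 0, -1, 1, 0, 0, 1, 1, 0, 0, 0]),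
  (11, [0, 1, 1, -1, -1, 0, 0, 0, 0, 0, 0]), (8, []), (1, [-1, 0, -2, 0, -2, 1, 0, 0, -1, 0, 1]),
  (2, [0, 1, 1, -1, -1, 0, 0, 0, 0, 2, 0]), (7, [-2, 1, -1, -1, -1, 2, 0, 0, 0, 0, 0])]

/-- Plan 8. -/
def plan8 : List (Nat × List Int) := [
  (0, []), (9, []), (10, []), (15, [0, 0, 0, -1, 0, 0, 0, 0, 0, 0, 0]), (13, []),
  (17, [0, 1, -1, 1, -1, 0, 0, 0, 0, 0, 0]), (16, [2, -1, 1, 1, 1, 0, 0, 0, 0, 0, 0]),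
  (14, [0, 1, 1, -1, 1, 0, 0, 0, 0, 0, 0]), (11, []), (12, [0, 1, 1, -1, -1, 0, 0, 0, 0, 0, 0]),
  (7, [-2, -1, -3, -1, -1, 2, 0, 0, -2, 0, 0]), (8, [-2, 1, -1, 1, 1, 2, 0, 0, 2, 0, 0]), (6, []),
  (5, [0, 1, -1, 1, -1, 0, 2, 0, 0, 0, 0]), (4, []), (1, [0, 1, 1, -3, -1, 0, 0, 0, 0, 0, 2]),
  (2, [2, 1, -1, 1, -3, -2, 4, 4, -2, 4, 0]), (3, [-2, 1, -5, 1, -3, 2, 4, 4, -2, 0, 0])]

/-- Plan 9. -/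
def plan9 : List (Nat × List Int) := [
  (0, []), (9, []), (10, []), (15, [0, 0, 0, -1, 0, 0, 0, 0, 0, 0, 0]), (13, []),
  (17, [0, 1, -1, 1, -1, 0, 0, 0, 0, 0, 0]), (16, [2, -1, 1, 1, 1, 0, 0, 0, 0, 0, 0]),
  (14, [0, 1, 1, -1, 1, 0, 0, 0, 0, 0, 0]), (11, []), (12, [0, 1, 1, -1, -1, 0, 0, 0, 0, 0, 0]),
  (7, [-2, -1, -3, -1, -1, 2, 0, 0, -2, 0, 0]), (8, [-2, 1, -1, 1, 1, 2, 0, 0, 2, 0, 0]), (6, []),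
  (5, [0, 1, -1, 1, -1, 0, 2, 0, 0, 0, 0]), (4, []), (1, [0, 1, -1, 1, -3, 0, 0, 0, 0, 0, 2]),
  (2, [2, 1, -1, 1, -3, -2, 4, 4, -2, 4, 0]), (3, [-2, 1, -5, 1, -3, 2, 4, 4, -2, 0, 0])]

/-- Plan 10. -/
def plan10 : List (Nat × List Int) := [
  (0, []), (9, []), (10, []), (15, [0, 0, 0, -1, 0, 0, 0, 0, 0, 0, 0]), (13, []),
  (17, [0, 1, -1, 1, -1, 0, 0, 0, 0, 0, 0]), (16, [2, -1, 1, 1, 1, 0, 0, 0, 0, 0, 0]),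
  (14, [0, 1, 1, -1, 1, 0, 0, 0, 0, 0, 0]), (6, []), (5, [0, 1, -1, 1, -1, 0, 2, 0, 0, 0, 0]), (12, []),
  (2, [0, -1, 1, 1, 3, 0, -2, -2, 2, -2, 0]), (4, [0, 1, 0, 0, -1, 0, 1, 1, 0, 1, 0]),
  (11, [0, 1, 1, -1, -1, 0, 0, 0, 0, 0, 0]), (3, []), (1, [-2, -1, -1, -3, 1, 2, -2, 0, 0, -2, 2]),
  (7, [0, 1, 1, -1, -1, 0, 0, 0, 0, 2, 0]), (8, [-1, 0, -1, 0, 0, 1, 0, 0, 0, -1, 0])]

/-- Plan 11. -/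
def plan11 : List (Nat × List Int) := [
  (0, []), (9, []), (10, []), (15, [0, 0, 0, -1, 0, 0, 0, 0, 0, 0, 0]), (13, []),
  (17, [0, 1, -1, 1, -1, 0, 0, 0, 0, 0, 0]), (16, [2, -1, 1, 1, 1, 0, 0, 0, 0, 0, 0]),
  (14, [0, 1, 1, -1, 1, 0, 0, 0, 0, 0, 0]), (6, []), (5, [0, 1, -1, 1, -1, 0, 2, 0, 0, 0, 0]), (12, []),
  (2, [0, -1, 1, 1, 3, 0, -2, -2, 2, -2, 0]), (4, [0, 1, 0, 0, -1, 0, 1, 1, 0, 1, 0]),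
  (11, [0, 1, 1, -1, -1, 0, 0, 0, 0, 0, 0]), (3, []), (1, [-2, -1, -3, 1, -1, 2, -2, 0, 0, -2, 2]),
  (7, [0, 1, 1, -1, -1, 0, 0, 0, 0, 2, 0]), (8, [-1, 0, -1, 0, 0, 1, 0, 0, 0, -1, 0])]

/-- Plan 12. -/
def plan12 : List (Nat × List Int) := [
  (0, []), (9, []), (10, []), (15, [0, 0, 0, -1, 0, 0, 0, 0, 0, 0, 0]), (13, []),
  (17, [0, 1, -1, 1, -1, 0, 0, 0, 0, 0, 0]), (16, [2, -1, 1, 1, 1, 0, 0, 0, 0, 0, 0]),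
  (14, [0, 1, 1, -1, 1, 0, 0, 0, 0, 0, 0]), (11, []), (12, [0, 1, 1, -1, -1, 0, 0, 0, 0, 0, 0]),
  (5, [2, 1, 1, 1, -1, -2, 2, 0, 0, 2, 0]), (6, [-2, 1, -3, 1, -1, 2, 2, 0, 0, -2, 0]), (4, []),
  (2, [0, 1, 1, 1, 1, 0, 0, 0, 2, 0, 0]), (8, []), (1, [-2, 3, -1, -5, -3, 2, 2, 4, 0, 2, 4]),
  (7, [-1, 0, -1, 0, 0, 1, 0, 0, 0, 0, 0]), (3, [-2, 1, -3, 1, -1, 2, 2, 4, 0, 2, 0])]

/-- Plan 13. -/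
def plan13 : List (Nat × List Int) := [
  (0, []), (9, []), (10, []), (15, [0, 0, 0, -1, 0, 0, 0, 0, 0, 0, 0]), (13, []),
  (17, [0, 1, -1, 1, -1, 0, 0, 0, 0, 0, 0]), (16, [2, -1, 1, 1, 1, 0, 0, 0, 0, 0, 0]),
  (14, [0, 1, 1, -1, 1, 0, 0, 0, 0, 0, 0]), (11, []), (12, [0, 1, 1, -1, -1, 0, 0, 0, 0, 0, 0]),
  (5, [2, 1, 1, 1, -1, -2, 2, 0, 0, 2, 0]), (6, [-2, 1, -3, 1, -1, 2, 2, 0, 0, -2, 0]), (4, []),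
  (2, [0, 1, 1, 1, 1, 0, 0, 0, 2, 0, 0]), (8, []), (1, [-2, 3, -5, 3, -7, 2, 2, 4, 0, 2, 4]),
  (7, [-1, 0, -1, 0, 0, 1, 0, 0, 0, 0, 0]), (3, [-2, 1, -3, 1, -1, 2, 2, 4, 0, 2, 0])]

/-- Plan 14. -/
def plan14 : List (Nat × List Int) := [
  (0, []), (9, []), (10, []), (15, [0, 0, 0, -1, 0, 0, 0, 0, 0, 0, 0]), (13, []),
  (17, [0, 1, -1, 1, -1, 0, 0, 0, 0, 0, 0]), (16, [2, -1, 1, 1, 1, 0, 0, 0, 0, 0, 0]),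
  (14, [0, 1, 1, -1, 1, 0, 0, 0, 0, 0, 0]), (4, []), (2, [0, 1, 1, 1, 1, 0, 0, 0, 2, 0, 0]), (12, []),
  (5, [0, -1, -1, 1, 1, 0, 0, -2, 0, -2, 0]), (6, [0, 1, 0, 0, -1, 0, 1, 1, 0, 1, 0]),
  (11, [0, 1, 1, -1, -1, 0, 0, 0, 0, 0, 0]), (3, []), (1, [-2, -1, -3, -3, -1, 2, 0, 0, -2, -2, 2]),
  (7, [0, 1, 1, -1, -1, 0, 0, 0, 0, 2, 0]), (8, [-1, 0, -1, 0, 0, 1, 0, 0, 0, -1, 0])]

/-- Plan 15. -/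
def plan15 : List (Nat × List Int) := [
  (0, []), (9, []), (10, []), (15, [0, 0, 0, -1, 0, 0, 0, 0, 0, 0, 0]), (13, []),
  (17, [0, 1, -1, 1, -1, 0, 0, 0, 0, 0, 0]), (16, [2, -1, 1, 1, 1, 0, 0, 0, 0, 0, 0]),
  (14, [0, 1, 1, -1, 1, 0, 0, 0, 0, 0, 0]), (4, []), (2, [0, 1, 1, 1, 1, 0, 0, 0, 2, 0, 0]), (12, []),
  (5, [0, -1, -1, 1, 1, 0, 0, -2, 0, -2, 0]), (6, [0, 1, 0, 0, -1, 0, 1, 1, 0, 1, 0]),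
  (11, [0, 1, 1, -1, -1, 0, 0, 0, 0, 0, 0]), (3, []), (1, [-2, -1, -5, 1, -3, 2, 0, 0, -2, -2, 2]),
  (7, [0, 1, 1, -1, -1, 0, 0, 0, 0, 2, 0]), (8, [-1, 0, -1, 0, 0, 1, 0, 0, 0, -1, 0])]

/-- Plan 16. -/
def plan16 : List (Nat × List Int) := [
  (0, []), (8, []), (9, []), (14, [0, 0, 0, -1, 0, 0, 0, 0, 0, 0, 0]), (12, []),
  (16, [0, 1, -1, 1, -1, 0, 0, 0, 0, 0, 0]), (15, [2, -1, 1, 1, 1, 0, 0, 0, 0, 0, 0]),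
  (13, [0, 1, 1, -1, 1, 0, 0, 0, 0, 0, 0]), (10, []), (11, [0, 1, 1, -1, -1, 0, 0, 0, 0, 0, 0]),
  (2, [2, 1, 3, 1, 1, -2, 0, 0, 2, 2, 0]), (5, [-2, 1, -1, 1, 1, 2, 0, 0, 2, -2, 0]),
  (6, [-2, -1, -1, -1, 1, 2, -2, 0, 0, 0, 0]), (7, [-2, 1, -3, 1, -1, 2, 2, 0, 0, 0, 0]), (3, []),
  (1, [0, 1, 1, -3, -1, 0, 0, 0, 0, 0, 2]), (4, [0, 0, -1, 0, -1, 0, 1, 2, -1, 1, 0])]

/-- Plan 17. -/
def plan17 : List (Nat × List Int) := [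
  (0, []), (8, []), (9, []), (14, [0, 0, 0, -1, 0, 0, 0, 0, 0, 0, 0]), (12, []),
  (16, [0, 1, -1, 1, -1, 0, 0, 0, 0, 0, 0]), (15, [2, -1, 1, 1, 1, 0, 0, 0, 0, 0, 0]),
  (13, [0, 1, 1, -1, 1, 0, 0, 0, 0, 0, 0]), (10, []), (11, [0, 1, 1, -1, -1, 0, 0, 0, 0, 0, 0]),
  (2, [2, 1, 3, 1, 1, -2, 0, 0, 2, 2, 0]), (5, [-2, 1, -1, 1, 1, 2, 0, 0, 2, -2, 0]),
  (6, [-2, -1, -1, -1, 1, 2, -2, 0, 0, 0, 0]), (7, [-2, 1, -3, 1, -1, 2, 2, 0, 0, 0, 0]), (3, []),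
  (1, [0, 1, -1, 1, -3, 0, 0, 0, 0, 0, 2]), (4, [0, 0, -1, 0, -1, 0, 1, 2, -1, 1, 0])]

/-- Plan 18. -/
def plan18 : List (Nat × List Int) := [
  (0, []), (9, []), (10, []), (15, [0, 0, 0, -1, 0, 0, 0, 0, 0, 0, 0]), (13, []),
  (17, [0, 1, -1, 1, -1, 0, 0, 0, 0, 0, 0]), (16, [2, -1, 1, 1, 1, 0, 0, 0, 0, 0, 0]),
  (14, [0, 1, 1, -1, 1, 0, 0, 0, 0, 0, 0]), (11, []), (12, [0, 1, 1, -1, -1, 0, 0, 0, 0, 0, 0]),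
  (2, [2, 1, 3, 1, 1, -2, 0, 0, 2, 2, 0]), (4, [-2, 1, -1, 1, 1, 2, 0, 0, 2, -2, 0]), (6, []),
  (5, [0, 1, -1, 1, -1, 0, 2, 0, 0, 0, 0]), (8, []), (1, [-2, 3, -3, -5, -5, 2, 4, 4, -2, 2, 4]),
  (7, [-1, 0, -1, 0, 0, 1, 0, 0, 0, 0, 0]), (3, [-2, 1, -5, 1, -3, 2, 4, 4, -2, 2, 0])]

/-- Plan 19. -/
def plan19 : List (Nat × List Int) := [
  (0, []), (9, []), (10, []), (15, [0, 0, 0, -1, 0, 0, 0, 0, 0, 0, 0]), (13, []),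
  (17, [0, 1, -1, 1, -1, 0, 0, 0, 0, 0, 0]), (16, [2, -1, 1, 1, 1, 0, 0, 0, 0, 0, 0]),
  (14, [0, 1, 1, -1, 1, 0, 0, 0, 0, 0, 0]), (11, []), (12, [0, 1, 1, -1, -1, 0, 0, 0, 0, 0, 0]),
  (2, [2, 1, 3, 1, 1, -2, 0, 0, 2, 2, 0]), (4, [-2, 1, -1, 1, 1, 2, 0, 0, 2, -2, 0]), (6, []),
  (5, [0, 1, -1, 1, -1, 0, 2, 0, 0, 0, 0]), (8, []), (1, [-2, 3, -7, 3, -9, 2, 4, 4, -2, 2, 4]),
  (7, [-1, 0, -1, 0, 0, 1, 0, 0, 0, 0, 0]), (3, [-2, 1, -5, 1, -3, 2, 4, 4, -2, 2, 0])]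

/-- Plan 20. -/
def plan20 : List (Nat × List Int) := [
  (0, []), (8, []), (9, []), (14, [0, 0, 0, -1, 0, 0, 0, 0, 0, 0, 0]), (12, []),
  (16, [0, 1, -1, 1, -1, 0, 0, 0, 0, 0, 0]), (15, [2, -1, 1, 1, 1, 0, 0, 0, 0, 0, 0]),
  (13, [0, 1, 1, -1, 1, 0, 0, 0, 0, 0, 0]), (10, []), (11, [0, 1, 1, -1, -1, 0, 0, 0, 0, 0, 0]),
  (4, [2, 1, 1, 1, -1, -2, 2, 0, 0, 2, 0]), (5, [-2, 1, -3, 1, -1, 2, 2, 0, 0, -2, 0]),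
  (6, [-2, -1, -3, -1, -1, 2, 0, 0, -2, 0, 0]), (7, [-2, 1, -1, 1, 1, 2, 0, 0, 2, 0, 0]), (2, []),
  (1, [0, 1, 1, -3, -1, 0, 0, 0, 0, 0, 2]), (3, [0, 0, -1, 0, -1, 0, 1, 2, -1, 1, 0])]

/-- Plan 21. -/
def plan21 : List (Nat × List Int) := [
  (0, []), (8, []), (9, []), (14, [0, 0, 0, -1, 0, 0, 0, 0, 0, 0, 0]), (12, []),
  (16, [0, 1, -1, 1, -1, 0, 0, 0, 0, 0, 0]), (15, [2, -1, 1, 1, 1, 0, 0, 0, 0, 0, 0]),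
  (13, [0, 1, 1, -1, 1, 0, 0, 0, 0, 0, 0]), (10, []), (11, [0, 1, 1, -1, -1, 0, 0, 0, 0, 0, 0]),
  (4, [2, 1, 1, 1, -1, -2, 2, 0, 0, 2, 0]), (5, [-2, 1, -3, 1, -1, 2, 2, 0, 0, -2, 0]),
  (6, [-2, -1, -3, -1, -1, 2, 0, 0, -2, 0, 0]), (7, [-2, 1, -1, 1, 1, 2, 0, 0, 2, 0, 0]), (2, []),
  (1, [0, 1, -1, 1, -3, 0, 0, 0, 0, 0, 2]), (3, [0, 0, -1, 0, -1, 0, 1, 2, -1, 1, 0])]

/-- Plan 22. -/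
def plan22 : List (Nat × List Int) := [
  (0, []), (8, []), (9, []), (14, [0, 0, 0, -1, 0, 0, 0, 0, 0, 0, 0]), (12, []),
  (16, [0, 1, -1, 1, -1, 0, 0, 0, 0, 0, 0]), (15, [2, -1, 1, 1, 1, 0, 0, 0, 0, 0, 0]),
  (13, [0, 1, 1, -1, 1, 0, 0, 0, 0, 0, 0]), (10, []), (1, [2, -1, 1, 3, 1, -2, 0, 0, 0, 2, -2]),
  (3, [-2, -1, -3, 3, 1, 2, 0, 0, 0, -2, -2]), (11, [0, 1, 1, -1, -1, 0, 0, 0, 0, 0, 0]),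
  (6, [-2, -1, -1, -1, 1, 2, -2, 0, 0, 0, 0]), (7, [-2, 1, -3, 1, -1, 2, 2, 0, 0, 0, 0]), (5, []),
  (4, [0, 1, 0, -1, -1, 0, 1, 2, 0, 1, 1]), (2, [0, 1, 1, 1, 1, 0, 0, 0, 2, 0, 0])]

/-- Plan 23. -/
def plan23 : List (Nat × List Int) := [
  (0, []), (8, []), (9, []), (14, [0, 0, 0, -1, 0, 0, 0, 0, 0, 0, 0]), (12, []),
  (16, [0, 1, -1, 1, -1, 0, 0, 0, 0, 0, 0]), (15, [2, -1, 1, 1, 1, 0, 0, 0, 0, 0, 0]),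
  (13, [0, 1, 1, -1, 1, 0, 0, 0, 0, 0, 0]), (10, []), (1, [2, -1, 3, -1, 3, -2, 0, 0, 0, 2, -2]),
  (3, [-2, -1, -1, -1, 3, 2, 0, 0, 0, -2, -2]), (11, [0, 1, 1, -1, -1, 0, 0, 0, 0, 0, 0]),
  (6, [-2, -1, -1, -1, 1, 2, -2, 0, 0, 0, 0]), (7, [-2, 1, -3, 1, -1, 2, 2, 0, 0, 0, 0]), (5, []),
  (4, [0, 1, -1, 1, -2, 0, 1, 2, 0, 1, 1]), (2, [0, 1, 1, 1, 1, 0, 0, 0, 2, 0, 0])]

/-- Plan 24. -/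
def plan24 : List (Nat × List Int) := [
  (0, []), (9, []), (10, []), (15, [0, 0, 0, -1, 0, 0, 0, 0, 0, 0, 0]), (13, []),
  (17, [0, 1, -1, 1, -1, 0, 0, 0, 0, 0, 0]), (16, [2, -1, 1, 1, 1, 0, 0, 0, 0, 0, 0]),
  (14, [0, 1, 1, -1, 1, 0, 0, 0, 0, 0, 0]), (11, []), (1, [2, -1, 1, 3, 1, -2, 0, 0, 0, 2, -2]),
  (3, [-2, -1, -3, 3, 1, 2, 0, 0, 0, -2, -2]), (12, [0, 1, 1, -1, -1, 0, 0, 0, 0, 0, 0]), (4, []),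
  (2, [0, 1, 1, 1, 1, 0, 0, 0, 2, 0, 0]), (6, []), (7, [-2, -3, -1, 1, 3, 2, -4, -4, 0, -2, -2]),
  (8, [-2, 3, -3, -1, -3, 2, 4, 4, 0, 2, 2]), (5, [0, 1, -1, 1, -1, 0, 2, 0, 0, 0, 0])]

/-- Plan 25. -/
def plan25 : List (Nat × List Int) := [
  (0, []), (9, []), (10, []), (15, [0, 0, 0, -1, 0, 0, 0, 0, 0, 0, 0]), (13, []),
  (17, [0, 1, -1, 1, -1, 0, 0, 0, 0, 0, 0]), (16, [2, -1, 1, 1, 1, 0, 0, 0, 0, 0, 0]),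
  (14, [0, 1, 1, -1, 1, 0, 0, 0, 0, 0, 0]), (11, []), (1, [2, -1, 3, -1, 3, -2, 0, 0, 0, 2, -2]),
  (3, [-2, -1, -1, -1, 3, 2, 0, 0, 0, -2, -2]), (12, [0, 1, 1, -1, -1, 0, 0, 0, 0, 0, 0]), (4, []),
  (2, [0, 1, 1, 1, 1, 0, 0, 0, 2, 0, 0]), (6, []), (7, [-2, -3, 1, -3, 5, 2, -4, -4, 0, -2, -2]),
  (8, [-2, 3, -5, 3, -5, 2, 4, 4, 0, 2, 2]), (5, [0, 1, -1, 1, -1, 0, 2, 0, 0, 0, 0])]

/-- Plan 26. -/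
def plan26 : List (Nat × List Int) := [
  (0, []), (8, []), (9, []), (14, [0, 0, 0, -1, 0, 0, 0, 0, 0, 0, 0]), (12, []),
  (16, [0, 1, -1, 1, -1, 0, 0, 0, 0, 0, 0]), (15, [2, -1, 1, 1, 1, 0, 0, 0, 0, 0, 0]),
  (13, [0, 1, 1, -1, 1, 0, 0, 0, 0, 0, 0]), (10, []), (1, [2, -1, 1, 3, 1, -2, 0, 0, 0, 2, -2]),
  (2, [-2, -1, -3, 3, 1, 2, 0, 0, 0, -2, -2]), (11, [0, 1, 1, -1, -1, 0, 0, 0, 0, 0, 0]),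
  (6, [-2, -1, -3, -1, -1, 2, 0, 0, -2, 0, 0]), (7, [-2, 1, -1, 1, 1, 2, 0, 0, 2, 0, 0]), (5, []),
  (3, [0, 1, -1, -1, -2, 0, 2, 2, -1, 1, 1]), (4, [0, 1, -1, 1, -1, 0, 2, 0, 0, 0, 0])]

/-- Plan 27. -/
def plan27 : List (Nat × List Int) := [
  (0, []), (8, []), (9, []), (14, [0, 0, 0, -1, 0, 0, 0, 0, 0, 0, 0]), (12, []),
  (16, [0, 1, -1, 1, -1, 0, 0, 0, 0, 0, 0]), (15, [2, -1, 1, 1, 1, 0, 0, 0, 0, 0, 0]),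
  (13, [0, 1, 1, -1, 1, 0, 0, 0, 0, 0, 0]), (10, []), (1, [2, -1, 3, -1, 3, -2, 0, 0, 0, 2, -2]),
  (2, [-2, -1, -1, -1, 3, 2, 0, 0, 0, -2, -2]), (11, [0, 1, 1, -1, -1, 0, 0, 0, 0, 0, 0]),
  (6, [-2, -1, -3, -1, -1, 2, 0, 0, -2, 0, 0]), (7, [-2, 1, -1, 1, 1, 2, 0, 0, 2, 0, 0]), (5, []),
  (3, [0, 1, -2, 1, -3, 0, 2, 2, -1, 1, 1]), (4, [0, 1, -1, 1, -1, 0, 2, 0, 0, 0, 0])]

/-- Plan 28. -/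
def plan28 : List (Nat × List Int) := [
  (0, []), (9, []), (10, []), (15, [0, 0, 0, -1, 0, 0, 0, 0, 0, 0, 0]), (13, []),
  (17, [0, 1, -1, 1, -1, 0, 0, 0, 0, 0, 0]), (16, [2, -1, 1, 1, 1, 0, 0, 0, 0, 0, 0]),
  (14, [0, 1, 1, -1, 1, 0, 0, 0, 0, 0, 0]), (6, []), (5, [0, 1, -1, 1, -1, 0, 2, 0, 0, 0, 0]), (12, []),
  (11, [0, 1, 1, -1, -1, 0, 0, 0, 0, 0, 0]), (4, []), (7, [0, 0, 0, 1, 0, 0, 0, -1, 0, 0, -1]),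
  (1, [2, 0, 0, 3, 0, -2, 2, 1, 0, 2, -1]), (3, [0, 1, -1, 2, -1, 0, 2, 1, 0, 0, -1]),
  (8, [-2, 1, -1, -2, -1, 2, 0, 1, 0, 0, 1]), (2, [0, 1, 1, 1, 1, 0, 0, 0, 2, 0, 0])]

/-- Plan 29. -/
def plan29 : List (Nat × List Int) := [
  (0, []), (9, []), (10, []), (15, [0, 0, 0, -1, 0, 0, 0, 0, 0, 0, 0]), (13, []),
  (17, [0, 1, -1, 1, -1, 0, 0, 0, 0, 0, 0]), (16, [2, -1, 1, 1, 1, 0, 0, 0, 0, 0, 0]),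
  (14, [0, 1, 1, -1, 1, 0, 0, 0, 0, 0, 0]), (6, []), (5, [0, 1, -1, 1, -1, 0, 2, 0, 0, 0, 0]), (12, []),
  (11, [0, 1, 1, -1, -1, 0, 0, 0, 0, 0, 0]), (4, []), (7, [0, 0, 1, -1, 1, 0, 0, -1, 0, 0, -1]),
  (1, [2, 0, 1, 1, 1, -2, 2, 1, 0, 2, -1]), (3, [0, 1, 0, 0, 0, 0, 2, 1, 0, 0, -1]),
  (8, [-2, 1, -2, 0, -2, 2, 0, 1, 0, 0, 1]), (2, [0, 1, 1, 1, 1, 0, 0, 0, 2, 0, 0])]

/-- Plan 30. -/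
def plan30 : List (Nat × List Int) := [
  (0, []), (9, []), (10, []), (15, [0, 0, 0, -1, 0, 0, 0, 0, 0, 0, 0]), (13, []),
  (17, [0, 1, -1, 1, -1, 0, 0, 0, 0, 0, 0]), (16, [2, -1, 1, 1, 1, 0, 0, 0, 0, 0, 0]),
  (14, [0, 1, 1, -1, 1, 0, 0, 0, 0, 0, 0]), (11, []), (7, [-2, 1, -1, -3, -1, 2, 0, 0, 0, 0, 2]),
  (8, [-2, -1, -3, 3, 1, 2, 0, 0, 0, 0, -2]), (12, [0, 1, 1, -1, -1, 0, 0, 0, 0, 0, 0]), (4, []),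
  (2, [0, 1, 1, 1, 1, 0, 0, 0, 2, 0, 0]), (6, []), (1, [2, 3, 1, -1, -3, -2, 4, 4, 0, 4, 2]),
  (3, [-2, 3, -3, -1, -3, 2, 4, 4, 0, 0, 2]), (5, [0, 1, -1, 1, -1, 0, 2, 0, 0, 0, 0])]

/-- Plan 31. -/
def plan31 : List (Nat × List Int) := [
  (0, []), (9, []), (10, []), (15, [0, 0, 0, -1, 0, 0, 0, 0, 0, 0, 0]), (13, []),
  (17, [0, 1, -1, 1, -1, 0, 0, 0, 0, 0, 0]), (16, [2, -1, 1, 1, 1, 0, 0, 0, 0, 0, 0]),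
  (14, [0, 1, 1, -1, 1, 0, 0, 0, 0, 0, 0]), (11, []), (7, [-2, 1, -3, 1, -3, 2, 0, 0, 0, 0, 2]),
  (8, [-2, -1, -1, -1, 3, 2, 0, 0, 0, 0, -2]), (12, [0, 1, 1, -1, -1, 0, 0, 0, 0, 0, 0]), (4, []),
  (2, [0, 1, 1, 1, 1, 0, 0, 0, 2, 0, 0]), (6, []), (1, [2, 3, -1, 3, -5, -2, 4, 4, 0, 4, 2]),
  (3, [-2, 3, -5, 3, -5, 2, 4, 4, 0, 0, 2]), (5, [0, 1, -1, 1, -1, 0, 2, 0, 0, 0, 0])]

/-- Plan 32. -/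
def plan32 : List (Nat × List Int) := [
  (0, []), (9, []), (10, []), (15, [0, 0, 0, -1, 0, 0, 0, 0, 0, 0, 0]), (13, []),
  (17, [0, 1, -1, 1, -1, 0, 0, 0, 0, 0, 0]), (16, [2, -1, 1, 1, 1, 0, 0, 0, 0, 0, 0]),
  (14, [0, 1, 1, -1, 1, 0, 0, 0, 0, 0, 0]), (11, []), (12, [0, 1, 1, -1, -1, 0, 0, 0, 0, 0, 0]),
  (5, [0, 1, 0, -1, -1, 0, 1, 0, 0, 0, 1]), (6, [0, 0, -1, 2, 0, 0, 1, 0, 0, 0, -1]), (4, []),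
  (2, [0, 1, 1, 1, 1, 0, 0, 0, 2, 0, 0]), (8, []), (1, [0, 1, 0, -1, -1, 0, 1, 2, 0, 2, 1]),
  (7, [-1, 0, -1, 0, 0, 1, 0, 0, 0, 0, 0]), (3, [-2, 1, -2, -1, -1, 2, 1, 2, 0, 0, 1])]

/-- Plan 33. -/
def plan33 : List (Nat × List Int) := [
  (0, []), (9, []), (10, []), (15, [0, 0, 0, -1, 0, 0, 0, 0, 0, 0, 0]), (13, []),
  (17, [0, 1, -1, 1, -1, 0, 0, 0, 0, 0, 0]), (16, [2, -1, 1, 1, 1, 0, 0, 0, 0, 0, 0]),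
  (14, [0, 1, 1, -1, 1, 0, 0, 0, 0, 0, 0]), (11, []), (12, [0, 1, 1, -1, -1, 0, 0, 0, 0, 0, 0]),
  (5, [0, 1, -1, 1, -2, 0, 1, 0, 0, 0, 1]), (6, [0, 0, 0, 0, 1, 0, 1, 0, 0, 0, -1]), (4, []),
  (2, [0, 1, 1, 1, 1, 0, 0, 0, 2, 0, 0]), (8, []), (1, [0, 1, -1, 1, -2, 0, 1, 2, 0, 2, 1]),
  (7, [-1, 0, -1, 0, 0, 1, 0, 0, 0, 0, 0]), (3, [-2, 1, -3, 1, -2, 2, 1, 2, 0, 0, 1])]

/-- Plan 34. -/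
def plan34 : List (Nat × List Int) := [
  (0, []), (9, []), (10, []), (15, [0, 0, 0, -1, 0, 0, 0, 0, 0, 0, 0]), (13, []),
  (17, [0, 1, -1, 1, -1, 0, 0, 0, 0, 0, 0]), (16, [2, -1, 1, 1, 1, 0, 0, 0, 0, 0, 0]),
  (14, [0, 1, 1, -1, 1, 0, 0, 0, 0, 0, 0]), (4, []), (2, [0, 1, 1, 1, 1, 0, 0, 0, 2, 0, 0]), (12, []),
  (11, [0, 1, 1, -1, -1, 0, 0, 0, 0, 0, 0]), (6, []), (7, [0, 0, 1, 1, 1, 0, -1, -1, 1, 0, -1]),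
  (1, [2, 0, 1, 3, 1, -2, 1, 1, 1, 2, -1]), (3, [0, 1, 0, 2, 0, 0, 1, 1, 1, 0, -1]),
  (8, [-2, 1, -2, -2, -2, 2, 1, 1, -1, 0, 1]), (5, [0, 1, -1, 1, -1, 0, 2, 0, 0, 0, 0])]

/-- Plan 35. -/
def plan35 : List (Nat × List Int) := [
  (0, []), (9, []), (10, []), (15, [0, 0, 0, -1, 0, 0, 0, 0, 0, 0, 0]), (13, []),
  (17, [0, 1, -1, 1, -1, 0, 0, 0, 0, 0, 0]), (16, [2, -1, 1, 1, 1, 0, 0, 0, 0, 0, 0]),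
  (14, [0, 1, 1, -1, 1, 0, 0, 0, 0, 0, 0]), (4, []), (2, [0, 1, 1, 1, 1, 0, 0, 0, 2, 0, 0]), (12, []),
  (11, [0, 1, 1, -1, -1, 0, 0, 0, 0, 0, 0]), (6, []), (7, [0, 0, 2, -1, 2, 0, -1, -1, 1, 0, -1]),
  (1, [2, 0, 2, 1, 2, -2, 1, 1, 1, 2, -1]), (3, [0, 1, 1, 0, 1, 0, 1, 1, 1, 0, -1]),
  (8, [-2, 1, -3, 0, -3, 2, 1, 1, -1, 0, 1]), (5, [0, 1, -1, 1, -1, 0, 2, 0, 0, 0, 0])]

/-- Plan 36. -/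
def plan36 : List (Nat × List Int) := [
  (0, []), (8, []), (9, []), (14, [0, 0, 0, -1, 0, 0, 0, 0, 0, 0, 0]), (12, []),
  (16, [0, 1, -1, 1, -1, 0, 0, 0, 0, 0, 0]), (15, [2, -1, 1, 1, 1, 0, 0, 0, 0, 0, 0]),
  (13, [0, 1, 1, -1, 1, 0, 0, 0, 0, 0, 0]), (10, []), (11, [0, 1, 1, -1, -1, 0, 0, 0, 0, 0, 0]),
  (2, [0, 1, 1, -1, 0, 0, 0, 0, 1, 0, 1]), (5, [0, 0, 0, 2, 1, 0, 0, 0, 1, 0, -1]),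
  (6, [-2, -1, -1, -1, 1, 2, -2, 0, 0, 0, 0]), (7, [-2, 1, -3, 1, -1, 2, 2, 0, 0, 0, 0]), (3, []),
  (1, [1, 0, 1, 0, 0, -1, 0, 0, 0, 1, 0]), (4, [-2, 1, -3, -3, -3, 2, 2, 4, -2, 0, 2])]

/-- Plan 37. -/
def plan37 : List (Nat × List Int) := [
  (0, []), (8, []), (9, []), (14, [0, 0, 0, -1, 0, 0, 0, 0, 0, 0, 0]), (12, []),
  (16, [0, 1, -1, 1, -1, 0, 0, 0, 0, 0, 0]), (15, [2, -1, 1, 1, 1, 0, 0, 0, 0, 0, 0]),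
  (13, [0, 1, 1, -1, 1, 0, 0, 0, 0, 0, 0]), (10, []), (11, [0, 1, 1, -1, -1, 0, 0, 0, 0, 0, 0]),
  (2, [0, 1, 0, 1, -1, 0, 0, 0, 1, 0, 1]), (5, [0, 0, 1, 0, 2, 0, 0, 0, 1, 0, -1]),
  (6, [-2, -1, -1, -1, 1, 2, -2, 0, 0, 0, 0]), (7, [-2, 1, -3, 1, -1, 2, 2, 0, 0, 0, 0]), (3, []),
  (1, [1, 0, 1, 0, 0, -1, 0, 0, 0, 1, 0]), (4, [-2, 1, -5, 1, -5, 2, 2, 4, -2, 0, 2])]

/-- Plan 38. -/
def plan38 : List (Nat × List Int) := [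
  (0, []), (9, []), (10, []), (15, [0, 0, 0, -1, 0, 0, 0, 0, 0, 0, 0]), (13, []),
  (17, [0, 1, -1, 1, -1, 0, 0, 0, 0, 0, 0]), (16, [2, -1, 1, 1, 1, 0, 0, 0, 0, 0, 0]),
  (14, [0, 1, 1, -1, 1, 0, 0, 0, 0, 0, 0]), (11, []), (12, [0, 1, 1, -1, -1, 0, 0, 0, 0, 0, 0]),
  (2, [0, 1, 1, -1, 0, 0, 0, 0, 1, 0, 1]), (4, [0, 0, 0, 2, 1, 0, 0, 0, 1, 0, -1]), (6, []),
  (5, [0, 1, -1, 1, -1, 0, 2, 0, 0, 0, 0]), (8, []), (1, [0, 1, -1, -1, -2, 0, 2, 2, -1, 2, 1]),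
  (7, [-1, 0, -1, 0, 0, 1, 0, 0, 0, 0, 0]), (3, [-2, 1, -3, -1, -2, 2, 2, 2, -1, 0, 1])]

/-- Plan 39. -/
def plan39 : List (Nat × List Int) := [
  (0, []), (9, []), (10, []), (15, [0, 0, 0, -1, 0, 0, 0, 0, 0, 0, 0]), (13, []),
  (17, [0, 1, -1, 1, -1, 0, 0, 0, 0, 0, 0]), (16, [2, -1, 1, 1, 1, 0, 0, 0, 0, 0, 0]),
  (14, [0, 1, 1, -1, 1, 0, 0, 0, 0, 0, 0]), (11, []), (12, [0, 1, 1, -1, -1, 0, 0, 0, 0, 0, 0]),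
  (2, [0, 1, 0, 1, -1, 0, 0, 0, 1, 0, 1]), (4, [0, 0, 1, 0, 2, 0, 0, 0, 1, 0, -1]), (6, []),
  (5, [0, 1, -1, 1, -1, 0, 2, 0, 0, 0, 0]), (8, []), (1, [0, 1, -2, 1, -3, 0, 2, 2, -1, 2, 1]),
  (7, [-1, 0, -1, 0, 0, 1, 0, 0, 0, 0, 0]), (3, [-2, 1, -4, 1, -3, 2, 2, 2, -1, 0, 1])]

/-- Plan 40. -/
def plan40 : List (Nat × List Int) := [
  (0, []), (8, []), (9, []), (14, [0, 0, 0, -1, 0, 0, 0, 0, 0, 0, 0]), (12, []),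
  (16, [0, 1, -1, 1, -1, 0, 0, 0, 0, 0, 0]), (15, [2, -1, 1, 1, 1, 0, 0, 0, 0, 0, 0]),
  (13, [0, 1, 1, -1, 1, 0, 0, 0, 0, 0, 0]), (10, []), (11, [0, 1, 1, -1, -1, 0, 0, 0, 0, 0, 0]),
  (4, [0, 1, 0, -1, -1, 0, 1, 0, 0, 0, 1]), (5, [0, 0, -1, 2, 0, 0, 1, 0, 0, 0, -1]),
  (6, [-2, -1, -3, -1, -1, 2, 0, 0, -2, 0, 0]), (7, [-2, 1, -1, 1, 1, 2, 0, 0, 2, 0, 0]), (2, []),
  (1, [1, 0, 1, 0, 0, -1, 0, 0, 0, 1, 0]), (3, [-2, 1, -3, -3, -3, 2, 2, 4, -2, 0, 2])]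

/-- Plan 41. -/
def plan41 : List (Nat × List Int) := [
  (0, []), (8, []), (9, []), (14, [0, 0, 0, -1, 0, 0, 0, 0, 0, 0, 0]), (12, []),
  (16, [0, 1, -1, 1, -1, 0, 0, 0, 0, 0, 0]), (15, [2, -1, 1, 1, 1, 0, 0, 0, 0, 0, 0]),
  (13, [0, 1, 1, -1, 1, 0, 0, 0, 0, 0, 0]), (10, []), (11, [0, 1, 1, -1, -1, 0, 0, 0, 0, 0, 0]),
  (4, [0, 1, -1, 1, -2, 0, 1, 0, 0, 0, 1]), (5, [0, 0, 0, 0, 1, 0, 1, 0, 0, 0, -1]),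
  (6, [-2, -1, -3, -1, -1, 2, 0, 0, -2, 0, 0]), (7, [-2, 1, -1, 1, 1, 2, 0, 0, 2, 0, 0]), (2, []),
  (1, [1, 0, 1, 0, 0, -1, 0, 0, 0, 1, 0]), (3, [-2, 1, -5, 1, -5, 2, 2, 4, -2, 0, 2])]

/-- Plan 42. -/
def plan42 : List (Nat × List Int) := [
  (0, []), (9, []), (10, []), (15, [0, 0, 0, -1, 0, 0, 0, 0, 0, 0, 0]), (13, []),
  (17, [0, 1, -1, 1, -1, 0, 0, 0, 0, 0, 0]), (16, [2, -1, 1, 1, 1, 0, 0, 0, 0, 0, 0]),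
  (14, [0, 1, 1, -1, 1, 0, 0, 0, 0, 0, 0]), (6, []), (5, [0, 1, -1, 1, -1, 0, 2, 0, 0, 0, 0]), (12, []),
  (11, [0, 1, 1, -1, -1, 0, 0, 0, 0, 0, 0]), (4, []), (1, [0, 0, 0, -1, 0, 0, 0, 1, 0, 1, 1]),
  (7, [-2, 0, 0, -3, 0, 2, -2, -1, 0, -1, 1]), (3, [-2, 1, -1, -2, -1, 2, 0, 1, 0, -1, 1]),
  (8, [0, 1, -1, 2, -1, 0, 2, 1, 0, 1, -1]), (2, [0, 1, 1, 1, 1, 0, 0, 0, 2, 0, 0])]

/-- Plan 43. -/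
def plan43 : List (Nat × List Int) := [
  (0, []), (9, []), (10, []), (15, [0, 0, 0, -1, 0, 0, 0, 0, 0, 0, 0]), (13, []),
  (17, [0, 1, -1, 1, -1, 0, 0, 0, 0, 0, 0]), (16, [2, -1, 1, 1, 1, 0, 0, 0, 0, 0, 0]),
  (14, [0, 1, 1, -1, 1, 0, 0, 0, 0, 0, 0]), (6, []), (5, [0, 1, -1, 1, -1, 0, 2, 0, 0, 0, 0]), (12, []),
  (11, [0, 1, 1, -1, -1, 0, 0, 0, 0, 0, 0]), (4, []), (1, [0, 0, -1, 1, -1, 0, 0, 1, 0, 1, 1]),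
  (7, [-2, 0, -1, -1, -1, 2, -2, -1, 0, -1, 1]), (3, [-2, 1, -2, 0, -2, 2, 0, 1, 0, -1, 1]),
  (8, [0, 1, 0, 0, 0, 0, 2, 1, 0, 1, -1]), (2, [0, 1, 1, 1, 1, 0, 0, 0, 2, 0, 0])]

/-- Plan 44. -/
def plan44 : List (Nat × List Int) := [
  (0, []), (8, []), (9, []), (14, [0, 0, 0, -1, 0, 0, 0, 0, 0, 0, 0]), (12, []),
  (16, [0, 1, -1, 1, -1, 0, 0, 0, 0, 0, 0]), (15, [2, -1, 1, 1, 1, 0, 0, 0, 0, 0, 0]),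
  (13, [0, 1, 1, -1, 1, 0, 0, 0, 0, 0, 0]), (5, []), (6, [-2, 0, -1, -2, 0, 2, -1, 0, 0, -1, 1]),
  (4, [0, 1, -1, 1, -1, 0, 2, 0, 0, 0, 0]), (11, []), (1, [0, 0, 1, -2, 0, 0, -1, 0, 0, 1, 1]),
  (7, [0, 1, 0, 1, -1, 0, 1, 0, 0, 1, -1]), (2, [0, 1, 3, -1, 1, 0, -2, -2, 2, 0, 0]),
  (3, [0, 0, -1, 1, 0, 0, 1, 1, 0, 0, 0]), (10, [0, 1, 1, -1, -1, 0, 0, 0, 0, 0, 0])]

/-- Plan 45. -/
def plan45 : List (Nat × List Int) := [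
  (0, []), (8, []), (9, []), (14, [0, 0, 0, -1, 0, 0, 0, 0, 0, 0, 0]), (12, []),
  (16, [0, 1, -1, 1, -1, 0, 0, 0, 0, 0, 0]), (15, [2, -1, 1, 1, 1, 0, 0, 0, 0, 0, 0]),
  (13, [0, 1, 1, -1, 1, 0, 0, 0, 0, 0, 0]), (5, []), (6, [-2, 0, -2, 0, -1, 2, -1, 0, 0, -1, 1]),
  (4, [0, 1, -1, 1, -1, 0, 2, 0, 0, 0, 0]), (11, []), (1, [0, 0, 0, 0, -1, 0, -1, 0, 0, 1, 1]),
  (7, [0, 1, 1, -1, 0, 0, 1, 0, 0, 1, -1]), (2, [0, 1, 3, -1, 1, 0, -2, -2, 2, 0, 0]),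
  (3, [0, 0, -1, 1, 0, 0, 1, 1, 0, 0, 0]), (10, [0, 1, 1, -1, -1, 0, 0, 0, 0, 0, 0])]

/-- Plan 46. -/
def plan46 : List (Nat × List Int) := [
  (0, []), (9, []), (10, []), (15, [0, 0, 0, -1, 0, 0, 0, 0, 0, 0, 0]), (13, []),
  (17, [0, 1, -1, 1, -1, 0, 0, 0, 0, 0, 0]), (16, [2, -1, 1, 1, 1, 0, 0, 0, 0, 0, 0]),
  (14, [0, 1, 1, -1, 1, 0, 0, 0, 0, 0, 0]), (4, []), (2, [0, 1, 1, 1, 1, 0, 0, 0, 2, 0, 0]), (12, []),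
  (11, [0, 1, 1, -1, -1, 0, 0, 0, 0, 0, 0]), (6, []), (1, [0, 0, -1, -1, -1, 0, 1, 1, -1, 1, 1]),
  (7, [-2, 0, -1, -3, -1, 2, -1, -1, -1, -1, 1]), (3, [-2, 1, -2, -2, -2, 2, 1, 1, -1, -1, 1]),
  (8, [0, 1, 0, 2, 0, 0, 1, 1, 1, 1, -1]), (5, [0, 1, -1, 1, -1, 0, 2, 0, 0, 0, 0])]

/-- Plan 47. -/
def plan47 : List (Nat × List Int) := [
  (0, []), (9, []), (10, []), (15, [0, 0, 0, -1, 0, 0, 0, 0, 0, 0, 0]), (13, []),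
  (17, [0, 1, -1, 1, -1, 0, 0, 0, 0, 0, 0]), (16, [2, -1, 1, 1, 1, 0, 0, 0, 0, 0, 0]),
  (14, [0, 1, 1, -1, 1, 0, 0, 0, 0, 0, 0]), (4, []), (2, [0, 1, 1, 1, 1, 0, 0, 0, 2, 0, 0]), (12, []),
  (11, [0, 1, 1, -1, -1, 0, 0, 0, 0, 0, 0]), (6, []), (1, [0, 0, -2, 1, -2, 0, 1, 1, -1, 1, 1]),
  (7, [-2, 0, -2, -1, -2, 2, -1, -1, -1, -1, 1]), (3, [-2, 1, -3, 0, -3, 2, 1, 1, -1, -1, 1]),
  (8, [0, 1, 1, 0, 1, 0, 1, 1, 1, 1, -1]), (5, [0, 1, -1, 1, -1, 0, 2, 0, 0, 0, 0])]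

/-- Plan 48. -/
def plan48 : List (Nat × List Int) := [
  (0, []), (8, []), (9, []), (14, [0, 0, 0, -1, 0, 0, 0, 0, 0, 0, 0]), (12, []),
  (16, [0, 1, -1, 1, -1, 0, 0, 0, 0, 0, 0]), (15, [2, -1, 1, 1, 1, 0, 0, 0, 0, 0, 0]),
  (13, [0, 1, 1, -1, 1, 0, 0, 0, 0, 0, 0]), (3, []), (6, [-2, 0, -2, -2, -1, 2, 0, 0, -1, -1, 1]),
  (2, [0, 1, 1, 1, 1, 0, 0, 0, 2, 0, 0]), (11, []), (1, [0, 0, 0, -2, -1, 0, 0, 0, -1, 1, 1]),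
  (7, [0, 1, 1, 1, 0, 0, 0, 0, 1, 1, -1]), (4, [0, 1, 1, -1, -1, 0, 0, -2, 0, 0, 0]),
  (5, [0, 0, -1, 1, 0, 0, 1, 1, 0, 0, 0]), (10, [0, 1, 1, -1, -1, 0, 0, 0, 0, 0, 0])]

/-- Plan 49. -/
def plan49 : List (Nat × List Int) := [
  (0, []), (8, []), (9, []), (14, [0, 0, 0, -1, 0, 0, 0, 0, 0, 0, 0]), (12, []),
  (16, [0, 1, -1, 1, -1, 0, 0, 0, 0, 0, 0]), (15, [2, -1, 1, 1, 1, 0, 0, 0, 0, 0, 0]),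
  (13, [0, 1, 1, -1, 1, 0, 0, 0, 0, 0, 0]), (3, []), (6, [-2, 0, -3, 0, -2, 2, 0, 0, -1, -1, 1]),
  (2, [0, 1, 1, 1, 1, 0, 0, 0, 2, 0, 0]), (11, []), (1, [0, 0, -1, 0, -2, 0, 0, 0, -1, 1, 1]),
  (7, [0, 1, 2, -1, 1, 0, 0, 0, 1, 1, -1]), (4, [0, 1, 1, -1, -1, 0, 0, -2, 0, 0, 0]),
  (5, [0, 0, -1, 1, 0, 0, 1, 1, 0, 0, 0]), (10, [0, 1, 1, -1, -1, 0, 0, 0, 0, 0, 0])]

/-- Plan 50. -/
def plan50 : List (Nat × List Int) := [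
  (0, []), (8, []), (9, []), (14, [0, 0, 0, -1, 0, 0, 0, 0, 0, 0, 0]), (12, []),
  (16, [0, 1, -1, 1, -1, 0, 0, 0, 0, 0, 0]), (15, [2, -1, 1, 1, 1, 0, 0, 0, 0, 0, 0]),
  (13, [0, 1, 1, -1, 1, 0, 0, 0, 0, 0, 0]), (5, []), (7, [-2, 0, -1, -2, 0, 2, -1, 0, 0, -1, 1]),
  (4, [0, 1, -1, 1, -1, 0, 2, 0, 0, 0, 0]), (11, []), (6, [0, 1, 0, 1, -1, 0, 1, 0, 0, 1, -1]),
  (2, [0, 0, -1, 2, 0, 0, 1, 0, 0, -1, -1]), (1, [0, -1, 1, 1, 3, 0, -2, -2, 2, -2, 0]),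
  (3, [0, 1, 0, 0, -1, 0, 1, 1, 0, 1, 0]), (10, [0, 1, 1, -1, -1, 0, 0, 0, 0, 0, 0])]

/-- Plan 51. -/
def plan51 : List (Nat × List Int) := [
  (0, []), (8, []), (9, []), (14, [0, 0, 0, -1, 0, 0, 0, 0, 0, 0, 0]), (12, []),
  (16, [0, 1, -1, 1, -1, 0, 0, 0, 0, 0, 0]), (15, [2, -1, 1, 1, 1, 0, 0, 0, 0, 0, 0]),
  (13, [0, 1, 1, -1, 1, 0, 0, 0, 0, 0, 0]), (5, []), (7, [-2, 0, -2, 0, -1, 2, -1, 0, 0, -1, 1]),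
  (4, [0, 1, -1, 1, -1, 0, 2, 0, 0, 0, 0]), (11, []), (6, [0, 1, 1, -1, 0, 0, 1, 0, 0, 1, -1]),
  (2, [0, 0, 0, 0, 1, 0, 1, 0, 0, -1, -1]), (1, [0, -1, 1, 1, 3, 0, -2, -2, 2, -2, 0]),
  (3, [0, 1, 0, 0, -1, 0, 1, 1, 0, 1, 0]), (10, [0, 1, 1, -1, -1, 0, 0, 0, 0, 0, 0])]

/-- Plan 52. -/
def plan52 : List (Nat × List Int) := [
  (0, []), (8, []), (9, []), (14, [0, 0, 0, -1, 0, 0, 0, 0, 0, 0, 0]), (12, []),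
  (16, [0, 1, -1, 1, -1, 0, 0, 0, 0, 0, 0]), (15, [2, -1, 1, 1, 1, 0, 0, 0, 0, 0, 0]),
  (13, [0, 1, 1, -1, 1, 0, 0, 0, 0, 0, 0]), (10, []), (6, [-2, 1, -1, -3, -1, 2, 0, 0, 0, 0, 2]),
  (7, [-2, -1, -3, 3, 1, 2, 0, 0, 0, 0, -2]), (11, [0, 1, 1, -1, -1, 0, 0, 0, 0, 0, 0]),
  (4, [2, 1, 1, 1, -1, -2, 2, 0, 0, 2, 0]), (5, [-2, 1, -3, 1, -1, 2, 2, 0, 0, -2, 0]), (3, []),
  (2, [0, 1, 0, -1, -1, 0, 1, 2, 0, 1, 1]), (1, [0, 1, 1, 1, 1, 0, 0, 0, 2, 0, 0])]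

/-- Plan 53. -/
def plan53 : List (Nat × List Int) := [
  (0, []), (8, []), (9, []), (14, [0, 0, 0, -1, 0, 0, 0, 0, 0, 0, 0]), (12, []),
  (16, [0, 1, -1, 1, -1, 0, 0, 0, 0, 0, 0]), (15, [2, -1, 1, 1, 1, 0, 0, 0, 0, 0, 0]),
  (13, [0, 1, 1, -1, 1, 0, 0, 0, 0, 0, 0]), (10, []), (6, [-2, 1, -3, 1, -3, 2, 0, 0, 0, 0, 2]),
  (7, [-2, -1, -1, -1, 3, 2, 0, 0, 0, 0, -2]), (11, [0, 1, 1, -1, -1, 0, 0, 0, 0, 0, 0]),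
  (4, [2, 1, 1, 1, -1, -2, 2, 0, 0, 2, 0]), (5, [-2, 1, -3, 1, -1, 2, 2, 0, 0, -2, 0]), (3, []),
  (2, [0, 1, -1, 1, -2, 0, 1, 2, 0, 1, 1]), (1, [0, 1, 1, 1, 1, 0, 0, 0, 2, 0, 0])]

/-- Plan 54. -/
def plan54 : List (Nat × List Int) := [
  (0, []), (8, []), (9, []), (14, [0, 0, 0, -1, 0, 0, 0, 0, 0, 0, 0]), (12, []),
  (16, [0, 1, -1, 1, -1, 0, 0, 0, 0, 0, 0]), (15, [2, -1, 1, 1, 1, 0, 0, 0, 0, 0, 0]),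
  (13, [0, 1, 1, -1, 1, 0, 0, 0, 0, 0, 0]), (3, []), (7, [-2, 0, -2, -2, -1, 2, 0, 0, -1, -1, 1]),
  (1, [0, 1, 1, 1, 1, 0, 0, 0, 2, 0, 0]), (11, []), (6, [0, 1, 1, 1, 0, 0, 0, 0, 1, 1, -1]),
  (2, [0, 0, 0, 2, 1, 0, 0, 0, 1, -1, -1]), (4, [0, -1, -1, 1, 1, 0, 0, -2, 0, -2, 0]),
  (5, [0, 1, 0, 0, -1, 0, 1, 1, 0, 1, 0]), (10, [0, 1, 1, -1, -1, 0, 0, 0, 0, 0, 0])]

/-- Plan 55. -/
def plan55 : List (Nat × List Int) := [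
  (0, []), (8, []), (9, []), (14, [0, 0, 0, -1, 0, 0, 0, 0, 0, 0, 0]), (12, []),
  (16, [0, 1, -1, 1, -1, 0, 0, 0, 0, 0, 0]), (15, [2, -1, 1, 1, 1, 0, 0, 0, 0, 0, 0]),
  (13, [0, 1, 1, -1, 1, 0, 0, 0, 0, 0, 0]), (3, []), (7, [-2, 0, -3, 0, -2, 2, 0, 0, -1, -1, 1]),
  (1, [0, 1, 1, 1, 1, 0, 0, 0, 2, 0, 0]), (11, []), (6, [0, 1, 2, -1, 1, 0, 0, 0, 1, 1, -1]),
  (2, [0, 0, 1, 0, 2, 0, 0, 0, 1, -1, -1]), (4, [0, -1, -1, 1, 1, 0, 0, -2, 0, -2, 0]),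
  (5, [0, 1, 0, 0, -1, 0, 1, 1, 0, 1, 0]), (10, [0, 1, 1, -1, -1, 0, 0, 0, 0, 0, 0])]

/-- Plan 56. -/
def plan56 : List (Nat × List Int) := [
  (0, []), (8, []), (9, []), (14, [0, 0, 0, -1, 0, 0, 0, 0, 0, 0, 0]), (12, []),
  (16, [0, 1, -1, 1, -1, 0, 0, 0, 0, 0, 0]), (15, [2, -1, 1, 1, 1, 0, 0, 0, 0, 0, 0]),
  (13, [0, 1, 1, -1, 1, 0, 0, 0, 0, 0, 0]), (10, []), (11, [0, 1, 1, -1, -1, 0, 0, 0, 0, 0, 0]),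
  (1, [0, 1, 1, -1, 0, 0, 0, 0, 1, 0, 1]), (3, [0, 0, 0, 2, 1, 0, 0, 0, 1, 0, -1]),
  (4, [2, 1, 1, 1, -1, -2, 2, 0, 0, 2, 0]), (5, [-2, 1, -3, 1, -1, 2, 2, 0, 0, -2, 0]), (7, []),
  (6, [-1, 0, -1, 0, 0, 1, 0, 0, 0, 0, 0]), (2, [-2, 1, -3, -3, -3, 2, 2, 4, -2, 2, 2])]

/-- Plan 57. -/
def plan57 : List (Nat × List Int) := [
  (0, []), (8, []), (9, []), (14, [0, 0, 0, -1, 0, 0, 0, 0, 0, 0, 0]), (12, []),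
  (16, [0, 1, -1, 1, -1, 0, 0, 0, 0, 0, 0]), (15, [2, -1, 1, 1, 1, 0, 0, 0, 0, 0, 0]),
  (13, [0, 1, 1, -1, 1, 0, 0, 0, 0, 0, 0]), (10, []), (11, [0, 1, 1, -1, -1, 0, 0, 0, 0, 0, 0]),
  (1, [0, 1, 0, 1, -1, 0, 0, 0, 1, 0, 1]), (3, [0, 0, 1, 0, 2, 0, 0, 0, 1, 0, -1]),
  (4, [2, 1, 1, 1, -1, -2, 2, 0, 0, 2, 0]), (5, [-2, 1, -3, 1, -1, 2, 2, 0, 0, -2, 0]), (7, []),
  (6, [-1, 0, -1, 0, 0, 1, 0, 0, 0, 0, 0]), (2, [-2, 1, -5, 1, -5, 2, 2, 4, -2, 2, 2])]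

/-- Plan 58. -/
def plan58 : List (Nat × List Int) := [
  (0, []), (8, []), (9, []), (14, [0, 0, 0, -1, 0, 0, 0, 0, 0, 0, 0]), (12, []),
  (16, [0, 1, -1, 1, -1, 0, 0, 0, 0, 0, 0]), (15, [2, -1, 1, 1, 1, 0, 0, 0, 0, 0, 0]),
  (13, [0, 1, 1, -1, 1, 0, 0, 0, 0, 0, 0]), (10, []), (6, [-2, 1, -1, -3, -1, 2, 0, 0, 0, 0, 2]),
  (7, [-2, -1, -3, 3, 1, 2, 0, 0, 0, 0, -2]), (11, [0, 1, 1, -1, -1, 0, 0, 0, 0, 0, 0]),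
  (1, [2, 1, 3, 1, 1, -2, 0, 0, 2, 2, 0]), (3, [-2, 1, -1, 1, 1, 2, 0, 0, 2, -2, 0]), (5, []),
  (2, [0, 1, -1, -1, -2, 0, 2, 2, -1, 1, 1]), (4, [0, 1, -1, 1, -1, 0, 2, 0, 0, 0, 0])]

/-- Plan 59. -/
def plan59 : List (Nat × List Int) := [
  (0, []), (8, []), (9, []), (14, [0, 0, 0, -1, 0, 0, 0, 0, 0, 0, 0]), (12, []),
  (16, [0, 1, -1, 1, -1, 0, 0, 0, 0, 0, 0]), (15, [2, -1, 1, 1, 1, 0, 0, 0, 0, 0, 0]),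
  (13, [0, 1, 1, -1, 1, 0, 0, 0, 0, 0, 0]), (10, []), (6, [-2, 1, -3, 1, -3, 2, 0, 0, 0, 0, 2]),
  (7, [-2, -1, -1, -1, 3, 2, 0, 0, 0, 0, -2]), (11, [0, 1, 1, -1, -1, 0, 0, 0, 0, 0, 0]),
  (1, [2, 1, 3, 1, 1, -2, 0, 0, 2, 2, 0]), (3, [-2, 1, -1, 1, 1, 2, 0, 0, 2, -2, 0]), (5, []),
  (2, [0, 1, -2, 1, -3, 0, 2, 2, -1, 1, 1]), (4, [0, 1, -1, 1, -1, 0, 2, 0, 0, 0, 0])]

/-- Plan 60. -/
def plan60 : List (Nat × List Int) := [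
  (0, []), (8, []), (9, []), (14, [0, 0, 0, -1, 0, 0, 0, 0, 0, 0, 0]), (12, []),
  (16, [0, 1, -1, 1, -1, 0, 0, 0, 0, 0, 0]), (15, [2, -1, 1, 1, 1, 0, 0, 0, 0, 0, 0]),
  (13, [0, 1, 1, -1, 1, 0, 0, 0, 0, 0, 0]), (10, []), (11, [0, 1, 1, -1, -1, 0, 0, 0, 0, 0, 0]),
  (1, [2, 1, 3, 1, 1, -2, 0, 0, 2, 2, 0]), (3, [-2, 1, -1, 1, 1, 2, 0, 0, 2, -2, 0]),
  (4, [0, 1, 0, -1, -1, 0, 1, 0, 0, 0, 1]), (5, [0, 0, -1, 2, 0, 0, 1, 0, 0, 0, -1]), (7, []),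
  (6, [-1, 0, -1, 0, 0, 1, 0, 0, 0, 0, 0]), (2, [-2, 1, -3, -3, -3, 2, 2, 4, -2, 2, 2])]

/-- Plan 61. -/
def plan61 : List (Nat × List Int) := [
  (0, []), (8, []), (9, []), (14, [0, 0, 0, -1, 0, 0, 0, 0, 0, 0, 0]), (12, []),
  (16, [0, 1, -1, 1, -1, 0, 0, 0, 0, 0, 0]), (15, [2, -1, 1, 1, 1, 0, 0, 0, 0, 0, 0]),
  (13, [0, 1, 1, -1, 1, 0, 0, 0, 0, 0, 0]), (10, []), (11, [0, 1, 1, -1, -1, 0, 0, 0, 0, 0, 0]),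
  (1, [2, 1, 3, 1, 1, -2, 0, 0, 2, 2, 0]), (3, [-2, 1, -1, 1, 1, 2, 0, 0, 2, -2, 0]),
  (4, [0, 1, -1, 1, -2, 0, 1, 0, 0, 0, 1]), (5, [0, 0, 0, 0, 1, 0, 1, 0, 0, 0, -1]), (7, []),
  (6, [-1, 0, -1, 0, 0, 1, 0, 0, 0, 0, 0]), (2, [-2, 1, -5, 1, -5, 2, 2, 4, -2, 2, 2])]

/-- The plans. -/
def planData : List (List (Nat × List Int)) := [
  plan0, plan1, plan2, plan3, plan4, plan5, plan6, plan7, plan8, plan9, plan10, plan11, plan12, plan13,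
  plan14, plan15, plan16, plan17, plan18, plan19, plan20, plan21, plan22, plan23, plan24, plan25, plan26,
  plan27, plan28, plan29, plan30, plan31, plan32, plan33, plan34, plan35, plan36, plan37, plan38, plan39,
  plan40, plan41, plan42, plan43, plan44, plan45, plan46, plan47, plan48, plan49, plan50, plan51, plan52,
  plan53, plan54, plan55, plan56, plan57, plan58, plan59, plan60, plan61]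

/-- The degrees for the value -12. -/
def candN12 : List Int := [
  4, -4, 12, -12, 28, -28, 36, -36, 52, -52, 84, -84, 108, -108, 156, -156, 252, -252, 324, -324, 364, -364,
  468, -468, 756, -756, 972, -972, 1092, -1092, 1404, -1404]

/-- The degrees for the value -11. -/
def candN11 : List Int := [
  -3, 13, 21, -27, -91, 117, 189, -819, 1053]

/-- The degrees for the value -10. -/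
def candN10 : List Int := [
  -2, 6, 14, -18, -26, -42, 54, 78, 126, -162, 182, -234, -378, -546, 702, 1134, 1638]

/-- The degrees for the value -9. -/
def candN9 : List Int := [
  -1, 7, -9, 39, 63, -81, -273, 351, 567, -729]

/-- The degrees for the value -8. -/
def candN8 : List Int := [
  8, -8, 24, -24, 56, -56, 72, -72, 104, -104, 168, -168, 216, -216, 312, -312, 504, -504, 648, -648, 728,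
  -728, 936, -936, 1512, -1512]

/-- The degrees for the value -7. -/
def candN7 : List Int := [
  1, -7, 9, -39, -63, 81, 273, -351, -567]

/-- The degrees for the value -6. -/
def candN6 : List Int := [
  2, -6, -14, 18, 26, 42, -54, -78, -126, 162, -182, 234, 378, -486, 546, -702, -1134, -1638]

/-- The degrees for the value -5. -/
def candN5 : List Int := [
  3, -13, -21, 27, 91, -117, -189, 819, -1053]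

/-- The degrees for the value -4. -/
def candN4 : List Int := [
  4, -4, 12, -12, 28, -28, 36, -36, 52, -52, 84, -84, 108, -108, 156, -156, 252, -252, 324, -324, 364, -364,
  468, -468, 756, -756, 1092, -1092, 1404, -1404]

/-- The degrees for the value -3. -/
def candN3 : List Int := [
  -3, 13, 21, -27, -91, 117, 189, -243, -819, 1053, 1701]

/-- The degrees for the value -2. -/
def candN2 : List Int := [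
  -2, 6, 14, -18, -26, -42, 54, 78, 126, -162, 182, -234, -378, -546, 702, 1134, 1638]

/-- The degrees for the value -1. -/
def candN1 : List Int := [
  -1, 7, -9, 39, 63, -81, -273, 351, 567]

/-- The degrees for the value 0. -/
def candP0 : List Int := [
  8, -8, 16, -16, 24, -24, 32, -32, 48, -48, 56, -56, 64, -64, 72, -72, 96, -96, 104, -104, 112, -112, 144,
  -144, 168, -168, 192, -192, 208, -208, 216, -216, 224, -224, 288, -288, 312, -312, 336, -336, 416, -416,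
  432, -432, 448, -448, 504, -504, 576, -576, 624, -624, 648, -648, 672, -672, 728, -728, 832, -832, 864,
  -864, 936, -936, 1008, -1008, 1248, -1248, 1296, -1296, 1344, -1344, 1456, -1456, 1512, -1512, 1728, -1728,
  1872, -1872, 1944, -1944, 2016, -2016]

/-- The degrees for the value 1. -/
def candP1 : List Int := [
  1, -7, 9, -39, -63, 81, 273, -351, -567]

/-- The degrees for the value 2. -/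
def candP2 : List Int := [
  2, -6, -14, 18, 26, 42, -54, -78, -126, 162, -182, 234, 378, 546, -702, -1134, -1638]

/-- The degrees for the value 3. -/
def candP3 : List Int := [
  3, -13, -21, 27, 91, -117, -189, 243, 819, -1053, -1701]

/-- The degrees for the value 4. -/
def candP4 : List Int := [
  4, -4, 12, -12, 28, -28, 36, -36, 52, -52, 84, -84, 108, -108, 156, -156, 252, -252, 324, -324, 364, -364,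
  468, -468, 756, -756, 1092, -1092, 1404, -1404]

/-- The degrees for the value 5. -/
def candP5 : List Int := [
  -3, 13, 21, -27, -91, 117, 189, -819, 1053]

/-- The degrees for the value 6. -/
def candP6 : List Int := [
  -2, 6, 14, -18, -26, -42, 54, 78, 126, -162, 182, -234, -378, 486, -546, 702, 1134, 1638]

/-- The degrees for the value 7. -/
def candP7 : List Int := [
  -1, 7, -9, 39, 63, -81, -273, 351, 567]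

/-- The degrees for the value 8. -/
def candP8 : List Int := [
  8, -8, 24, -24, 56, -56, 72, -72, 104, -104, 168, -168, 216, -216, 312, -312, 504, -504, 648, -648, 728,
  -728, 936, -936, 1512, -1512]

/-- The degrees for the value 9. -/
def candP9 : List Int := [
  1, -7, 9, -39, -63, 81, 273, -351, -567, 729]

/-- The degrees for the value 10. -/
def candP10 : List Int := [
  2, -6, -14, 18, 26, 42, -54, -78, -126, 162, -182, 234, 378, 546, -702, -1134, -1638]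

/-- The degrees for the value 11. -/
def candP11 : List Int := [
  3, -13, -21, 27, 91, -117, -189, 819, -1053]

/-- The degrees for the value 12. -/
def candP12 : List Int := [
  4, -4, 12, -12, 28, -28, 36, -36, 52, -52, 84, -84, 108, -108, 156, -156, 252, -252, 324, -324, 364, -364,
  468, -468, 756, -756, 972, -972, 1092, -1092, 1404, -1404]

/-- The possible signed degrees for each value at the involution. -/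
def candTable : List (Int × List Int) := [
  (-12, candN12), (-11, candN11), (-10, candN10), (-9, candN9), (-8, candN8), (-7, candN7), (-6, candN6),
  (-5, candN5), (-4, candN4), (-3, candN3), (-2, candN2), (-1, candN1), (0, candP0), (1, candP1),
  (2, candP2), (3, candP3), (4, candP4), (5, candP5), (6, candP6), (7, candP7), (8, candP8), (9, candP9),
  (10, candP10), (11, candP11), (12, candP12)]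

end Cfsg.Agent.G23Two
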