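import Cfsg.Agent.Lib.G23Two.Order
import Cfsg.Agent.Lib.G23Two.PlanData

/-!
A search for the values of an integral function on the columns of a configuration, where combinations of the
linear relations force some values, and the two searches for degrees and for values at an element of order three.
-/

set_option autoImplicit false
set_option maxRecDepth 100000
set_option maxHeartbeats 1000000

namespace Cfsg.Agent.G23Two

universe u

/-- The inner product of two lists. -/
def dotM : List ℤ → List ℤ → ℤ
  | a :: m, b :: r => a * b + dotM m r
  | _, _ => 0

theorem dotM_eq : ∀ (m r : List ℤ) (n : ℕ), r.length ≤ n →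
    dotM m r = ∑ j : Fin n, m.getD j.val 0 * r.getD j.val 0
  | [], r, n, _ => by simp [dotM]
  | _ :: _, [], n, _ => by simp [dotM]
  | a :: m, b :: r, 0, h => by simp at h
  | a :: m, b :: r, n + 1, h => by
    rw [Fin.sum_univ_succ, dotM, dotM_eq m r n (by simpa using h)]
    simp

variable {β : Type u}

/-- The value of a combination on an assignment. -/
def linSum (key : β → List ℤ) (m : List ℤ) (acc : List (β × ℤ)) : ℤ :=
  (acc.map fun p => dotM m (key p.1) * p.2).sum

/-- The later columns do not occur in the combination. -/
def closed (key : β → List ℤ) (m : List ℤ) (rest : List (β × List ℤ)) : Bool :=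
  !m.isEmpty && rest.all fun q => dotM m (key q.1) == 0

/-- The next values. -/
def nextVals (key : β → List ℤ) (cs : List ℤ) (b : β) (m : List ℤ) (rest : List (β × List ℤ))
    (acc : List (β × ℤ)) : List ℤ :=
  if closed key m rest && !(dotM m (key b) == 0) then
    (if linSum key m acc % dotM m (key b) == 0 && cs.contains (-(linSum key m acc / dotM m (key b))) then
      [-(linSum key m acc / dotM m (key b))] else [])
  else cs

/-- The assignments along a plan. -/
def run (key : β → List ℤ) (cands : β → List ℤ) (eqn : List ℤ → List (β × ℤ) → Bool)
    (bound : List (β × ℤ) → Bool) : List (β × List ℤ) → List (β × ℤ) → List (List (β × ℤ))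
  | [], acc => [acc]
  | (b, m) :: rest, acc =>
    (nextVals key (cands b) b m rest acc).flatMap fun d =>
      if (!closed key m rest || eqn m (acc ++ [(b, d)])) && bound (acc ++ [(b, d)]) then
        run key cands eqn bound rest (acc ++ [(b, d)])
      else []

/-- The assignment carried by a list of planned values. -/
def assign (pl : List ((β × List ℤ) × ℤ)) : List (β × ℤ) := pl.map fun q => (q.1.1, q.2)

theorem lin_append (key : β → List ℤ) (m : List ℤ) (a b : List (β × ℤ)) :
    linSum key m (a ++ b) = linSum key m a + linSum key m b := by
  simp [linSum, List.sum_append]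

theorem lin_zero (key : β → List ℤ) (m : List ℤ) (a : List (β × ℤ))
    (h : ∀ p ∈ a, dotM m (key p.1) = 0) : linSum key m a = 0 := by
  refine List.sum_eq_zero fun x hx => ?_
  obtain ⟨p, hp, rfl⟩ := List.mem_map.1 hx
  rw [h p hp, zero_mul]

theorem run_complete (key : β → List ℤ) (cands : β → List ℤ) (eqn : List ℤ → List (β × ℤ) → Bool)
    (bound : List (β × ℤ) → Bool) (total : List (β × ℤ)) (hlin : ∀ m, linSum key m total = 0)
    (heqn : ∀ m pre post, total = pre ++ post → (∀ p ∈ post, dotM m (key p.1) = 0) → eqn m pre = true)
    (hbound : ∀ pre post, total = pre ++ post → bound pre = true) :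
    ∀ (pl : List ((β × List ℤ) × ℤ)) (acc : List (β × ℤ)), total = acc ++ assign pl →
      (∀ q ∈ pl, q.2 ∈ cands q.1.1) → total ∈ run key cands eqn bound (pl.map Prod.fst) acc
  | [], acc, h, _ => by simp [run, h, assign]
  | ((b, m), d) :: pl, acc, h, hc => by
    have h' : total = (acc ++ [(b, d)]) ++ assign pl := by rw [h]; simp [assign]
    have hclosed : closed key m (pl.map Prod.fst) = true → ∀ p ∈ assign pl, dotM m (key p.1) = 0 := by
      intro hcl p hp
      rw [closed, Bool.and_eq_true, List.all_eq_true] at hcl
      obtain ⟨q, hq, rfl⟩ := List.mem_map.1 hp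
      simpa using hcl.2 q.1 (List.mem_map.2 ⟨q, hq, rfl⟩)
    rw [List.map_cons, run]
    refine List.mem_flatMap.2 ⟨d, ?_, ?_⟩
    · have hd : d ∈ cands b := hc ((b, m), d) List.mem_cons_self
      show d ∈ nextVals key (cands b) b m (pl.map Prod.fst) acc
      unfold nextVals
      split_ifs with h1 h2
      · rw [Bool.and_eq_true, Bool.not_eq_true', beq_eq_false_iff_ne] at h1
        have e := hlin m
        rw [h', lin_append, lin_append, lin_zero key m _ (hclosed h1.1)] at e
        have e1 : linSum key m [(b, d)] = dotM m (key b) * d := by simp [linSum]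
        rw [e1, add_zero] at e
        have e2 : linSum key m acc = dotM m (key b) * -d := by linarith
        rw [List.mem_singleton, e2, Int.mul_ediv_cancel_left _ h1.2, neg_neg]
      · exfalso
        rw [Bool.and_eq_true, Bool.not_eq_true', beq_eq_false_iff_ne] at h1
        have e := hlin m
        rw [h', lin_append, lin_append, lin_zero key m _ (hclosed h1.1)] at e
        have e1 : linSum key m [(b, d)] = dotM m (key b) * d := by simp [linSum]
        rw [e1, add_zero] at e
        have e2 : linSum key m acc = dotM m (key b) * -d := by linarith
        refine h2 ?_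
        rw [Bool.and_eq_true, beq_iff_eq, e2, Int.mul_ediv_cancel_left _ h1.2, neg_neg,
          List.contains_iff_mem]
        exact ⟨Int.mul_emod_right _ _, hd⟩
      · exact hd
    · have hb := hbound _ _ h'
      have he : (!closed key m (pl.map Prod.fst) || eqn m (acc ++ [(b, d)])) = true := by
        by_cases hcl : closed key m (pl.map Prod.fst) = true
        · rw [heqn m _ _ h' (hclosed hcl), Bool.or_true]
        · rw [Bool.not_eq_true] at hcl
          rw [hcl]; rfl
      rw [if_pos (by rw [he, hb]; rfl)]
      exact run_complete key cands eqn bound total hlin heqn hbound pl _ h' fun q hq =>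
        hc q (List.mem_cons_of_mem _ hq)

/-! ## The degrees -/

/-- The possible degree of a column meeting the four combinations. -/
def seedOf (y : ℤ) (r : List ℤ) : ℤ :=
  let k := projKey r
  projSign r *
    (if k.1 == [0, 1, 0, 0] then (if k.2 == 1 then 1 else -729)
    else if k.1 == [0, 0, 1, 0] then 728
    else if k.1 == [1, 0, 0, 0] then -728
    else if k.1 == [0, 0, 1, -1] then -y
    else if k.1 == [1, 1, 0, -1] then y
    else 728 - y)

/-- The possible degrees for a value at the involution. -/
def candList (v : ℤ) : List ℤ :=
  match candTable.find? fun e => e.1 == v with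
  | some e => e.2
  | none => []

/-- The candidates for a signed degree. -/
def degCands (y : ℤ) (r : List ℤ) : List ℤ :=
  if proj r != [0, 0, 0, 0] then [seedOf y r] else candList (rowVal 10 r)

/-- The totals of the weighted pairs of involutions. -/
def totList : List ℤ := [-8064, -864, 3456, 864, -3456, 3168, 0, -4320, 0, 0, 864]

/-- The equation of a combination. -/
def degEqn (m : List ℤ) (acc : List (List ℤ × ℤ)) : Bool :=
  (acc.map fun p => dotM m p.1 * (rowVal 10 p.1 * rowVal 10 p.1) * (4245696 / p.2)).sum == 576 * dotM m totList

/-- The bound on the degrees. -/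
def degBound (acc : List (List ℤ × ℤ)) : Bool :=
  decide ((acc.map fun p => p.2 * p.2).sum ≤ 4245696)

/-- The degree assignments. -/
def degSols (y : ℤ) (pl : List (List ℤ × List ℤ)) : List (List (List ℤ × ℤ)) :=
  run id (degCands y) degEqn degBound pl []

/-! ## The element of order three -/

/-- The candidates for a value at the element of order three. -/
def resCands (q : List ℤ × ℤ) : List ℤ :=
  if proj q.1 == [0, 1, 0, 0] && rowVal 10 q.1 == 1 then [1] else
    ((List.range 51).map fun i : ℕ => (i : ℤ) - 25).filter fun x =>
      (x + rowVal 7 q.1 + 6 * rowVal 4 q.1) % 8 == 0 && (x - q.2) % 3 == 0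

/-- The bound on the values. -/
def resBound (acc : List ((List ℤ × ℤ) × ℤ)) : Bool :=
  decide ((acc.map fun p => p.2 * p.2).sum ≤ 648)

/-- A negative class multiplication coefficient. -/
def negCoef (sol : List ((List ℤ × ℤ) × ℤ)) : Bool :=
  (List.finRange 11).any fun i =>
    decide ((sol.map fun p => rowVal 10 p.1.1 * p.2 * rowVal i p.1.1 * (4245696 / p.1.2)).sum < 0)

/-- No assignment of values survives. -/
def resDead (ds : List (List ℤ × ℤ)) (ms : List (List ℤ)) : Bool :=
  (run Prod.fst resCands (fun _ _ => true) resBound (ds.zip ms) []).all negCoef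

/-- The rows in the order of a plan. -/
def planRows (S : List (List ℤ)) (pl : List (ℕ × List ℤ)) : List (List ℤ × List ℤ) :=
  pl.map fun st => (S.getD st.1 [], st.2)

/-- The two possibilities for one degree. -/
def yList (S : List (List ℤ)) : List ℤ :=
  if S.tail.any fun r => projKey r == ([0, 0, 1, -1], 36) then [182, 702] else [26, 546]

/-- The plan fits the configuration. -/
def planOK (S : List (List ℤ)) (pl : List (ℕ × List ℤ)) : Bool :=
  decide ((pl.map Prod.fst).Perm (List.range S.length)) &&
    (pl.all fun st => decide (st.2.length ≤ 11)) &&
    (S.all fun r => decide ((rowVal 10 r).natAbs ≤ 12))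

/-- A configuration allows no small centraliser. -/
def deadCfg (S : List (List ℤ)) (pl : List (ℕ × List ℤ)) : Bool :=
  planOK S pl && (yList S).all fun y =>
    (degSols y (planRows S pl)).all fun ds => resDead ds ((planRows S pl).map Prod.snd)

theorem dead0 : (((finals.zip planData).take 21).all fun c => deadCfg c.1 c.2) = true := by decide +kernel

theorem dead1 : ((((finals.zip planData).drop 21).take 21).all fun c => deadCfg c.1 c.2) = true := by
  decide +kernel

theorem dead2 : ((((finals.zip planData).drop 42)).all fun c => deadCfg c.1 c.2) = true := by decide +kernel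

theorem planData_length : planData.length = 62 := by decide +kernel

theorem exists_plan {S : List (List ℤ)} (hS : S ∈ finals) : ∃ pl, deadCfg S pl = true := by
  obtain ⟨i, hi, rfl⟩ := List.mem_iff_getElem.1 hS
  have hlen : finals.length = planData.length := by rw [finals_length, planData_length]
  have hi' : i < planData.length := hlen ▸ hi
  refine ⟨planData[i], ?_⟩
  have hz : i < (finals.zip planData).length := by simp [List.length_zip, ← hlen, hi]
  have hmem : (finals[i], planData[i]) ∈ finals.zip planData :=
    List.mem_iff_getElem.2 ⟨i, hz, List.getElem_zip⟩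
  have hd := List.take_append_drop 21 (finals.zip planData)
  have hd' := List.take_append_drop 21 ((finals.zip planData).drop 21)
  rw [← hd, ← hd', List.drop_drop, List.mem_append, List.mem_append] at hmem
  rcases hmem with h | h | h
  exacts [List.all_eq_true.1 dead0 _ h, List.all_eq_true.1 dead1 _ h, List.all_eq_true.1 dead2 _ h]

end Cfsg.Agent.G23Two
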