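import Cfsg.Agent.Lib.G23Two.ParaLoc
import Cfsg.Agent.S3393

/-!
Two parabolic subgroups with a common Sylow 3-subgroup, and the identification with `G₂(3)`.
-/

set_option autoImplicit false
set_option linter.unusedSectionVars false
set_option linter.style.haveILetI false

namespace Cfsg.Agent.G23Two.Para

open Subgroup
open scoped commutatorElement

variable {G : Type*} [Group G] [Finite G]

/-- The radical lies in every Sylow subgroup of the centraliser. -/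
theorem Loc.R_le_syl (S : Loc G) (T : Subgroup G) (hT : T ≤ S.C) (hc : Nat.card T = 729) :
    S.R ≤ T := by
  haveI : Fact (Nat.Prime 3) := ⟨Nat.prime_three⟩
  have hp : IsPGroup 3 T := IsPGroup.of_card (n := 6) (by rw [hc]; norm_num)
  haveI hn : (S.R.subgroupOf S.C).Normal := ⟨fun y hy c => by
    rw [mem_subgroupOf] at hy ⊢; exact S.R_conj c.2 hy⟩
  obtain ⟨P, hP⟩ := (hp.of_equiv (subgroupOfEquivOfLe hT).symm).exists_le_sylow
  have hPc : Nat.card P ≤ 729 := by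
    have h1 := P.1.card_mul_index
    rw [S.card_C'] at h1
    change Nat.card P * _ = 5832 at h1
    obtain ⟨n, hn⟩ := IsPGroup.iff_card.1 P.2
    change Nat.card P = _ at hn
    have hd : 3 ^ n ∣ 3 ^ 6 * 8 := ⟨P.1.index, by rw [← hn, h1]; norm_num⟩
    have := Nat.le_of_dvd (by norm_num)
      ((Nat.Coprime.pow_left n (by decide : Nat.Coprime 3 8)).dvd_of_dvd_mul_right hd)
    rw [hn]; simpa using this
  have eP : T.subgroupOf S.C = P := eq_of_le_of_card_ge hP (by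
    rw [Nat.card_congr (subgroupOfEquivOfLe hT).toEquiv, hc]; exact hPc)
  have e2 := P.is_maximal' (IsPGroup.to_sup_of_normal_left
    (S.isPGroup_R.of_equiv (subgroupOfEquivOfLe S.R_le).symm) P.2) le_sup_right
  intro r hr
  have : (⟨r, S.R_le hr⟩ : S.C) ∈ (P : Subgroup S.C) := by
    rw [← e2]; exact mem_sup_left (mem_subgroupOf.2 hr)
  rwa [← eP, mem_subgroupOf] at this

theorem inf_R_le (S S' : Loc G) {N : Subgroup G} (hN : N ≤ S.A ⊓ S'.A)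
    (hn : ∀ g ∈ S'.A, ∀ x ∈ N, g * x * g⁻¹ ∈ N) : N ⊓ S.R ≤ S'.R := by
  intro x hx
  haveI hNn : (N.subgroupOf S'.A).Normal := ⟨fun y hy c => by
    rw [mem_subgroupOf] at hy ⊢; exact hn c c.2 _ hy⟩
  set K := ((N ⊓ S.R).subgroupOf S'.A).subgroupOf (N.subgroupOf S'.A) with hK
  have hKn : K.Normal := ⟨fun y hy c => by
    rw [hK, mem_subgroupOf, mem_subgroupOf] at hy ⊢
    have hc : ((c : S'.A) : G) ∈ N := mem_subgroupOf.1 c.2
    exact mem_inf.2 ⟨mul_mem (mul_mem hc hy.1) (inv_mem hc), S.R_A (hN hc).1 hy.2⟩⟩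
  have h1 : (N ⊓ S.R).subgroupOf S'.A ≤ N.subgroupOf S'.A := fun y hy =>
    mem_subgroupOf.2 (mem_subgroupOf.1 hy).1
  have h3 : IsPGroup 3 K :=
    ((S.isPGroup_R.to_le inf_le_right).of_equiv
      (subgroupOfEquivOfLe (inf_le_left.trans (hN.trans inf_le_right) : N ⊓ S.R ≤ S'.A)).symm).of_equiv
      (subgroupOfEquivOfLe h1).symm
  rw [← S'.pCoreOf_eq]
  refine mem_map.2 ⟨⟨x, (hN hx.1).2⟩, PBasic.map_pCore_le_of_normal (N.subgroupOf S'.A)
    (mem_map.2 ⟨⟨⟨x, (hN hx.1).2⟩, mem_subgroupOf.2 hx.1⟩, PBasic.le_pCore hKn h3 ?_, rfl⟩), rfl⟩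
  rw [hK, mem_subgroupOf, mem_subgroupOf]
  exact hx

/-- Two parabolic subgroups through a common Sylow subgroup. -/
structure Pair (G : Type*) [Group G] [Finite G] where
  /-- the first side -/
  S₁ : Loc G
  /-- the second side -/
  S₂ : Loc G
  /-- the common Sylow subgroup -/
  T : Subgroup G
  T_le₁ : T ≤ S₁.C
  T_le₂ : T ≤ S₂.C
  card_T : Nat.card T = 729
  nc : ¬ IsConj S₁.a S₂.a
  nc' : ¬ IsConj S₁.a⁻¹ S₂.a

namespace Pair

variable (W : Pair G)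
include W

theorem not_mem : W.S₂.a ∉ zpowers W.S₁.a := fun h => by
  rcases W.S₁.A0_cases h with e | e | e
  · exact W.S₂.a_ne e
  · exact W.nc (by rw [e])
  · exact W.nc' (by rw [e])

theorem A0_inf {c : G} (h1 : c ∈ zpowers W.S₁.a) (h2 : c ∈ zpowers W.S₂.a) : c = 1 := by
  rcases W.S₂.A0_cases h2 with e | e | e
  · exact e
  · exact absurd (e ▸ h1) W.not_mem
  · exact absurd (by rw [e] at h1; simpa using inv_mem h1) W.not_mem

theorem R_ne' : W.S₁.R ≠ W.S₂.R := fun e => W.not_mem (by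
  rw [← W.S₁.comm_R, e, W.S₂.comm_R]; exact mem_zpowers _)

theorem A_not_le : ¬ W.S₂.A ≤ W.S₁.A := fun h => by
  have e : W.S₂.A = W.S₁.A := eq_of_le_of_card_ge h (by rw [W.S₁.card_A, W.S₂.card_A])
  exact W.R_ne' (by rw [← W.S₁.pCoreOf_eq, ← e, W.S₂.pCoreOf_eq])

theorem A_not_le' : ¬ W.S₁.A ≤ W.S₂.A := fun h =>
  W.A_not_le (eq_of_le_of_card_ge h (by rw [W.S₁.card_A, W.S₂.card_A])).ge

theorem T_le : W.T ≤ W.S₁.A ⊓ W.S₂.A :=
  le_inf (W.T_le₁.trans W.S₁.C_le_A) (W.T_le₂.trans W.S₂.C_le_A)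

theorem sylow₁ : ¬ 3 ∣ ((W.S₁.A ⊓ W.S₂.A).subgroupOf W.S₁.A).index := fun h => by
  have h1 := ((W.S₁.A ⊓ W.S₂.A).subgroupOf W.S₁.A).card_mul_index
  rw [Nat.card_congr (subgroupOfEquivOfLe (inf_le_left : W.S₁.A ⊓ W.S₂.A ≤ W.S₁.A)).toEquiv,
    W.S₁.card_A] at h1
  have h2 := mul_dvd_mul (W.card_T ▸ card_dvd_of_le W.T_le) h
  rw [h1] at h2
  norm_num at h2

theorem sylow₂ : ¬ 3 ∣ ((W.S₁.A ⊓ W.S₂.A).subgroupOf W.S₂.A).index := fun h => by
  have h1 := ((W.S₁.A ⊓ W.S₂.A).subgroupOf W.S₂.A).card_mul_index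
  rw [Nat.card_congr (subgroupOfEquivOfLe (inf_le_right : W.S₁.A ⊓ W.S₂.A ≤ W.S₂.A)).toEquiv,
    W.S₂.card_A] at h1
  have h2 := mul_dvd_mul (W.card_T ▸ card_dvd_of_le W.T_le) h
  rw [h1] at h2
  norm_num at h2

theorem not_conj (g : G) : W.S₁.A.map (MulAut.conj g).toMonoidHom ≠ W.S₂.A := fun e => by
  haveI : Fact (Nat.Prime 3) := ⟨Nat.prime_three⟩
  set f := (MulAut.conj g).toMonoidHom with hf
  have hR : W.S₁.R.map f = W.S₂.R := by
    refine eq_of_le_of_card_ge (W.S₂.le_R _ ?_ (W.S₁.isPGroup_R.map _) ?_) (by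
      rw [card_map_of_injective (MulAut.conj g).injective, W.S₁.card_R, W.S₂.card_R])
    · exact W.S₂.three_le_C (e ▸ map_mono W.S₁.R_le_A) (W.S₁.isPGroup_R.map _)
    · intro c hc x hx
      obtain ⟨u, hu, hcu⟩ := mem_map.1 (show c ∈ W.S₁.A.map f from e ▸ W.S₂.C_le_A hc)
      obtain ⟨y, hy, rfl⟩ := mem_map.1 hx
      exact mem_map.2 ⟨u * y * u⁻¹, W.S₁.R_A hu hy, by rw [← hcu, map_mul, map_mul, map_inv]⟩
  have hD := congrArg (fun K => ⁅K, K⁆) hR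
  simp only [← map_commutator] at hD
  rw [W.S₁.comm_R, W.S₂.comm_R, MonoidHom.map_zpowers] at hD
  have hm : f W.S₁.a ∈ zpowers W.S₂.a := hD ▸ mem_zpowers _
  have hc : IsConj W.S₁.a (f W.S₁.a) := isConj_iff.2 ⟨g, rfl⟩
  rcases W.S₂.A0_cases hm with e1 | e1 | e1 <;> rw [e1] at hc
  · exact W.S₁.a_ne (isConj_one_left.1 hc)
  · exact W.nc hc
  · refine W.nc' ?_
    obtain ⟨c, hc⟩ := isConj_iff.1 hc
    exact isConj_iff.2 ⟨c, by rw [← conj_inv, hc, inv_inv]⟩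

theorem core (N : Subgroup G) (hN : N ≤ W.S₁.A ⊓ W.S₂.A)
    (h1 : W.S₁.A ≤ normalizer (N : Set G)) (h2 : W.S₂.A ≤ normalizer (N : Set G)) : N = ⊥ := by
  have n1 : ∀ g ∈ W.S₁.A, ∀ x ∈ N, g * x * g⁻¹ ∈ N := fun g hg x hx =>
    (mem_normalizer_iff.1 (h1 hg) x).1 hx
  have n2 : ∀ g ∈ W.S₂.A, ∀ x ∈ N, g * x * g⁻¹ ∈ N := fun g hg x hx =>
    (mem_normalizer_iff.1 (h2 hg) x).1 hx
  set M := N ⊓ W.S₁.R with hM
  have hM2 : M ≤ W.S₂.R := inf_R_le W.S₁ W.S₂ hN n2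
  have hM2' : N ⊓ W.S₂.R ≤ W.S₁.R := inf_R_le W.S₂ W.S₁ (inf_comm W.S₁.A W.S₂.A ▸ hN) n1
  by_contra hne
  have hMne : M ≠ ⊥ := by
    intro e
    refine hne ((eq_bot_iff_forall _).2 fun n hn => ?_)
    have hnR : n ∈ W.S₁.R := (W.S₁.kernel_top (hN hn).1).2 fun x hx => by
      have hm : n * x * n⁻¹ * x⁻¹ ∈ M := by
        refine mem_inf.2 ⟨?_, mul_mem (W.S₁.R_A (hN hn).1 hx) (inv_mem hx)⟩
        rw [show n * x * n⁻¹ * x⁻¹ = n * (x * n⁻¹ * x⁻¹) by group]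
        exact mul_mem hn (n1 x (W.S₁.R_le_A hx) _ (inv_mem hn))
      rw [e, mem_bot] at hm
      rw [hm]
      exact one_mem _
    exact mem_bot.1 (e ▸ (mem_inf.2 ⟨hn, hnR⟩ : n ∈ M))
  have m1 : ∀ g ∈ W.S₁.A, ∀ x ∈ M, g * x * g⁻¹ ∈ M := fun g hg x hx =>
    mem_inf.2 ⟨n1 g hg x hx.1, W.S₁.R_A hg hx.2⟩
  have m2 : ∀ g ∈ W.S₂.A, ∀ x ∈ M, g * x * g⁻¹ ∈ M := fun g hg x hx => by
    have h := n2 g hg x hx.1
    exact mem_inf.2 ⟨h, hM2' (mem_inf.2 ⟨h, W.S₂.R_A hg (hM2 hx)⟩)⟩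
  -- not inside the derived groups
  have key : ∀ S S' : Loc G, ¬ S'.A ≤ S.A → (∀ g ∈ S'.A, ∀ x ∈ M, g * x * g⁻¹ ∈ M) →
      ¬ M ≤ zpowers S.a := by
    intro S S' hA hm hle
    refine hA fun g hg => ?_
    obtain ⟨c, hc, hc1⟩ := (bot_or_exists_ne_one M).resolve_left hMne
    have haM : S.a ∈ M := by
      rcases S.A0_cases (hle hc) with e | e | e
      · exact absurd e hc1
      · exact e ▸ hc
      · rw [e] at hc; simpa using inv_mem hc
    refine S.mem_A.2 ?_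
    rcases S.A0_cases (hle (hm g hg _ haM)) with e | e | e
    · exact absurd (conj_eq_one_iff.1 e) S.a_ne
    · exact Or.inl e
    · exact Or.inr e
  have hA1 := key W.S₁ W.S₂ W.A_not_le m2
  have hA2 := key W.S₂ W.S₁ W.A_not_le' m1
  have hR1T := W.S₁.R_le_syl W.T W.T_le₁ W.card_T
  have hZ1 : ¬ M ≤ W.S₁.Z := fun hle => W.R_ne' (eq_of_le_of_card_ge
    (fun r hr => W.S₂.cent_le hM2 m2 hA2 (W.T_le (hR1T hr)).2
      fun x hx => (W.S₁.mem_Z.1 (hle hx)).2 r hr)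
    (by rw [W.S₁.card_R, W.S₂.card_R]))
  have hab : ∀ x ∈ M, ∀ y ∈ M, x * y = y * x := fun x hx y hy => by
    rw [← commutatorElement_eq_one_iff_mul_comm]
    exact W.A0_inf (W.S₁.comm_mem hx.2 hy.2) (W.S₂.comm_mem (hM2 hx) (hM2 hy))
  set Y := M ⊔ W.S₁.Z with hY
  have hYR : Y ≤ W.S₁.R := sup_le inf_le_right inf_le_left
  have hYab : Y ≤ centralizer (Y : Set G) := by
    have hYM : Y ≤ centralizer (M : Set G) := sup_le
      (fun x hx => mem_centralizer_iff.2 fun y hy => hab y hy x hx)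
      (fun x hx => mem_centralizer_iff.2 fun y hy => (W.S₁.mem_Z.1 hx).2 y hy.2)
    refine sup_le (fun x hx => mem_centralizer_iff.2 fun y hy => ?_)
      (fun x hx => mem_centralizer_iff.2 fun y hy => (W.S₁.mem_Z.1 hx).2 y (hYR hy))
    exact (mem_centralizer_iff.1 (hYM hy) x hx).symm
  have hlt : 27 < Nat.card Y := by
    rw [← W.S₁.card_Z]
    refine lt_of_le_of_ne (card_le_of_le le_sup_right) fun e => hZ1 ?_
    have : W.S₁.Z = Y := eq_of_le_of_card_ge le_sup_right e.ge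
    exact this ▸ le_sup_left
  have hd : Nat.card Y ∣ 3 ^ 5 := by
    have := card_dvd_of_le hYR
    rwa [W.S₁.card_R] at this
  obtain ⟨n, hn5, hc⟩ := (Nat.dvd_prime_pow Nat.prime_three).1 hd
  rw [hc] at hlt
  have hn4 : n = 4 ∨ n = 5 := by
    by_contra h
    have := Nat.pow_le_pow_right (show 3 > 0 by norm_num) (show n ≤ 3 by omega)
    omega
  rcases hn4 with e | e
  · refine W.S₁.no_between Y hYR le_sup_right ?_ (by rw [hc, e]; norm_num)
    intro g hg x hx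
    have hle : Y.map (MulAut.conj g).toMonoidHom ≤ Y := by
      rw [hY, Subgroup.map_sup]
      exact sup_le_sup (fun _ ⟨y, hy, e⟩ => e ▸ m1 g hg y hy) (fun _ ⟨y, hy, e⟩ => e ▸ W.S₁.Z_conj hg hy)
    exact hle (mem_map.2 ⟨x, hx, rfl⟩)
  · have hYeq : Y = W.S₁.R := eq_of_le_of_card_ge hYR (by rw [W.S₁.card_R, hc, e]; norm_num)
    obtain ⟨r, hr, s, hs, hrs⟩ := W.S₁.not_abelian
    rw [← hYeq] at hr hs
    exact hrs (mem_centralizer_iff.1 (hYab hs) r hr)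

/-- The identification. -/
theorem exists_iso (hO : Cfsg.pPrimeCore 3 G = ⊥) (F : Type*) [Field F] [Fintype F]
    (hF : Fintype.card F = 3) : Nonempty (G ≃* ↥(Cfsg.Lie.G2 F)) := by
  haveI := W.S₁.normal_R
  haveI := W.S₂.normal_R
  obtain ⟨e₁⟩ := W.S₁.quotient_iso
  obtain ⟨e₂⟩ := W.S₂.quotient_iso
  exact S3393.result hO W.S₁.A W.S₂.A W.not_conj W.sylow₁ W.sylow₂ W.core W.S₁.R W.S₂.R
    W.S₁.pCoreOf_eq.symm W.S₂.pCoreOf_eq.symm (by rw [W.S₁.card_R]; norm_num)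
    (by rw [W.S₂.card_R]; norm_num) e₁ e₂ W.S₁.Z W.S₂.Z rfl rfl (zpowers W.S₁.a) (zpowers W.S₂.a)
    W.S₁.comm_R.symm W.S₂.comm_R.symm
    ⟨W.S₁.index_Z, W.S₁.A0_le_Z, W.S₁.index_D, fun _ h => W.S₁.kernel_top h, fun _ h => W.S₁.kernel_bot h⟩
    ⟨W.S₂.index_Z, W.S₂.A0_le_Z, W.S₂.index_D, fun _ h => W.S₂.kernel_top h, fun _ h => W.S₂.kernel_bot h⟩
    rfl rfl F hF

end Pair

/-- No normal subgroup of order prime to three. -/
theorem Loc.pPrimeCore_eq_bot (S : Loc G)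
    (hnorm : ∀ M : Subgroup G, M ≤ centralizer {S.z} → (∀ g ∈ centralizer {S.z}, ∀ x ∈ M,
      g * x * g⁻¹ ∈ M) → S.z ∉ M → (Nat.card M).Coprime 3 → M = ⊥) :
    Cfsg.pPrimeCore 3 G = ⊥ := by
  haveI : Fact (Nat.Prime 3) := ⟨Nat.prime_three⟩
  haveI hn : (Cfsg.pPrimeCore 3 G).Normal := Cfsg.pPrimeCore_normal 3 G
  have hco := PBasic.pPrimeCore_coprime 3 G
  set N := Cfsg.pPrimeCore 3 G with hN
  have hinf : N ⊓ S.R = ⊥ := disjoint_iff.1 (Subgroup.disjoint_of_coprime_natCard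
    (Nat.Coprime.coprime_dvd_right (show Nat.card S.R ∣ 3 ^ 5 by rw [S.card_R]; norm_num)
      (hco.pow_right 5)))
  have hz : S.z ∉ N := fun hzN => S.R_ne fun r hr => S.R_fix hr (by
    have h1 : S.z * r * S.z⁻¹ * r⁻¹ ∈ N := by
      rw [show S.z * r * S.z⁻¹ * r⁻¹ = S.z * (r * S.z⁻¹ * r⁻¹) by group]
      exact mul_mem hzN (hn.conj_mem _ (inv_mem hzN) r)
    have h2 : S.z * r * S.z⁻¹ * r⁻¹ ∈ S.R := mul_mem (S.R_conj S.z_mem_C hr) (inv_mem hr)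
    have h3 : S.z * r * S.z⁻¹ * r⁻¹ = 1 := mem_bot.1 (hinf ▸ mem_inf.2 ⟨h1, h2⟩)
    rw [mul_inv_eq_one, mul_inv_eq_iff_eq_mul] at h3
    exact h3.symm)
  have hfix : ∀ x ∈ N, x * S.z = S.z * x → x = 1 := by
    intro x hx hc
    have := hnorm (N ⊓ centralizer {S.z}) inf_le_right
      (fun g hg y hy => mem_inf.2 ⟨hn.conj_mem y hy.1 g, mul_mem (mul_mem hg hy.2) (inv_mem hg)⟩)
      (fun h => hz h.1) (Nat.Coprime.coprime_dvd_left (card_dvd_of_le inf_le_left) hco)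
    exact mem_bot.1 (this ▸ mem_inf.2 ⟨hx, mem_centralizer_singleton_iff.2 hc⟩)
  have hinv : ∀ t : G, t * t = 1 → IsConj S.z t → ∀ x ∈ N, t * x * t = x⁻¹ := by
    intro t ht hconj
    obtain ⟨g, hg⟩ := isConj_iff.1 hconj
    have hti : t⁻¹ = t := inv_eq_of_mul_eq_one_left ht
    let σ : N →* N :=
      { toFun := fun x => ⟨t * x * t, by have := hn.conj_mem _ x.2 t; rwa [hti] at this⟩
        map_one' := Subtype.ext (by simp [ht])
        map_mul' := fun x y => Subtype.ext (conj2_mul ht (x : G) y) }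
    have h2 : Function.Involutive σ := fun x => Subtype.ext (conj2_conj2 ht (x : G))
    have hf : MonoidHom.FixedPointFree σ := fun x hx => by
      have hx' : t * (x : G) * t = x := congrArg Subtype.val hx
      have hc := (commute_of_conj2 ht hx').eq
      have h1 : g⁻¹ * x * g⁻¹⁻¹ = 1 := hfix _ (hn.conj_mem _ x.2 _) (by
        rw [← hg] at hc
        calc g⁻¹ * x * g⁻¹⁻¹ * S.z = g⁻¹ * (x * (g * S.z * g⁻¹)) * g := by group
          _ = S.z * (g⁻¹ * x * g⁻¹⁻¹) := by rw [hc]; group)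
      exact Subtype.ext (conj_eq_one_iff.1 h1)
    intro x hx
    exact congrArg Subtype.val (congrFun (hf.coe_eq_inv_of_involutive h2) ⟨x, hx⟩)
  have hkz : S.k * S.z * (S.k * S.z) = 1 := by
    rw [mul_assoc, ← mul_assoc S.z, ← S.k_z, mul_assoc S.k, S.z2, mul_one, S.k2]
  have e1 := hinv S.z S.z2 (IsConj.refl _)
  have e2 := hinv S.k S.k2 S.k_conj
  have e3 := hinv (S.k * S.z) hkz (S.k_conj.trans (isConj_iff.2 ⟨S.w, S.w_k⟩))
  refine (eq_bot_iff_forall _).2 fun x hx => ?_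
  have h : x = x⁻¹ := by
    calc x = S.k * x⁻¹ * S.k := by
          have := e2 x⁻¹ (inv_mem hx)
          rw [inv_inv] at this
          exact this.symm
      _ = S.k * (S.z * x * S.z) * S.k := by rw [e1 x hx]
      _ = S.k * S.z * x * (S.z * S.k) := by group
      _ = x⁻¹ := by rw [show S.z * S.k = S.k * S.z from S.k_z.symm]; exact e3 x hx
  refine hfix x hx (commute_of_conj2 S.z2 ?_).eq
  rw [e1 x hx]; exact h.symm

end Cfsg.Agent.G23Two.Para
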