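import Cfsg.Agent.Lib.G23Two.Model
import Cfsg.Agent.Lib.G23Two.ParaPair
import Cfsg.Agent.Lib.G2Iso.Iso

/-!
The identification with `G₂(3)` from the order, the involution centraliser, one fusion and the orders of
the centralisers of the two elements of order three.
-/

set_option autoImplicit false
set_option maxRecDepth 100000
set_option maxHeartbeats 1000000
set_option linter.style.haveILetI false
set_option linter.unusedSectionVars false

namespace Cfsg.Agent.G23Two

open Subgroup

def mk' (p : P) (h : OK p := by decide +kernel) : Mod := ⟨p, h⟩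

/-- The element of order three in the first factor. -/
def aM : Mod := mk' ((1, 1, 0, 1), (1, 0, 0, 1))

/-- The element of order three in the second factor. -/
def bM : Mod := mk' ((1, 0, 0, 1), (1, 1, 0, 1))

/-- An outer involution inverting both. -/
def kM : Mod := mk' ((1, 0, 0, 2), (1, 0, 0, 2))

def wM : Mod := mk' ((1, 0, 0, 1), (0, 1, 2, 0))

def jM : Mod := mk' ((1, 0, 0, 1), (1, 1, 1, 2))

def wM' : Mod := mk' ((0, 1, 2, 0), (1, 0, 0, 1))

def jM' : Mod := mk' ((1, 1, 1, 2), (1, 0, 0, 1))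

theorem Mod.mul_val (x y : Mod) : (x * y).1 = nm (mulP x.1 y.1) := rfl

theorem Mod.inv_val (x : Mod) : (x⁻¹).1 = nm (invV x.1.1, invV x.1.2) := rfl

/-- The second factor. -/
def LM : Subgroup Mod where
  carrier := {x | x.1.1 = oneV}
  one_mem' := rfl
  mul_mem' := by
    intro x y hx hy
    show (nm (mulP x.1 y.1)).1 = oneV
    have e : (mulP x.1 y.1).1 = oneV := by
      show mulV x.1.1 y.1.1 = oneV
      rw [show x.1.1 = oneV from hx, show y.1.1 = oneV from hy]; decide
    rw [nm, if_pos (by rw [e]; decide)]; exact e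
  inv_mem' := by
    intro x hx
    show (nm (invV x.1.1, invV x.1.2)).1 = oneV
    have e : invV x.1.1 = oneV := by rw [show x.1.1 = oneV from hx]; decide
    rw [nm, if_pos (by show lead (invV x.1.1) = 1; rw [e]; decide)]; exact e

theorem mem_LM {x : Mod} : x ∈ LM ↔ x.1.1 = oneV := Iff.rfl

def LList : List Mod := allMod.filter fun x => x.1.1 == oneV

theorem mem_LList {x : Mod} : x ∈ LList ↔ x ∈ LM := by
  simp [LList, mem_allMod, mem_LM]

theorem LList_spec : LList.length = 24 := by decide +kernel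

theorem card_LM : Nat.card LM = 24 := by
  rw [← LList_spec, ← List.toFinset_card_of_nodup (show LList.Nodup from allMod_nodup.filter _),
    Nat.card_congr (Equiv.subtypeEquivRight (fun x => (mem_LList (x := x)).symm.trans List.mem_toFinset.symm))]
  exact Nat.card_eq_finsetCard _

theorem model_basic : zM * zM = 1 ∧ zM ≠ 1 ∧ aM ^ 3 = 1 ∧ aM ≠ 1 ∧ kM * kM = 1 ∧
    kM * aM * kM⁻¹ = aM⁻¹ ∧ zM ∈ LList ∧ aM ∉ LList ∧ wM ∈ LList ∧ jM ∈ LList ∧
    wM * kM * wM⁻¹ = kM * zM ∧ wM * jM * wM⁻¹ * jM⁻¹ = zM ∧ wM * wM = zM ∧ bM ^ 3 = 1 := by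
  decide +kernel

theorem LList_word : ∀ x ∈ LList, x ≠ 1 →
    (x ^ 3 = 1 ∧ ∃ y ∈ LList, (x * (y * x * y⁻¹)) ^ 3 = zM) ∨ ∃ n : Fin 7, x ^ (n : ℕ) = zM := by
  decide +kernel

theorem LList_comm : ∀ x ∈ LList, x * aM = aM * x := by decide +kernel

theorem cent_check : (allMod.all fun x => decide (x * aM = aM * x →
    x ∈ LList ∨ aM * x ∈ LList ∨ aM * aM * x ∈ LList)) = true := by decide +kernel

theorem inverting_check : (allMod.all fun x => decide (x * aM * x⁻¹ = aM⁻¹ →
    ∃ l ∈ LList, x * l * x⁻¹ * l⁻¹ ≠ 1 ∧ x * l * x⁻¹ * l⁻¹ ≠ aM ∧ x * l * x⁻¹ * l⁻¹ ≠ aM⁻¹)) = true := by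
  decide +kernel

theorem borel_check : (allMod.all fun x => decide ((x * aM * x⁻¹ = aM ∨ x * aM * x⁻¹ = aM⁻¹) →
    x.1.1.1 = 1 ∧ x.1.1.2.2.1 = 0 ∧ (x.1.2 = oneV → x = 1 ∨ x = aM ∨ x = aM⁻¹))) = true := by
  decide +kernel

theorem borel_surj : (units.all fun u => allMod.any fun x =>
    x.1.2 == u && decide (x * aM * x⁻¹ = aM ∨ x * aM * x⁻¹ = aM⁻¹)) = true := by decide +kernel

theorem borel_ker : aM.1.2 = oneV ∧ (aM⁻¹).1.2 = oneV := by decide +kernel

/-- Six elements detecting the central involution. -/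
def gens6 : List Mod := [wM, jM, bM, wM', jM', aM]

theorem normal_check : (allMod.all fun x => decide (x = 1 ∨ x = zM ∨
    ∃ q ∈ gens6, x * q * x⁻¹ * q⁻¹ = zM ∨
      ∃ r ∈ gens6, (x * q * x⁻¹ * q⁻¹) * r * (x * q * x⁻¹ * q⁻¹)⁻¹ * r⁻¹ = zM)) = true := by
  decide +kernel

theorem class_check : clP aM.1 ≠ clP bM.1 ∧ clP (aM⁻¹).1 ≠ clP bM.1 := by decide +kernel

/-- Exchanging the factors. -/
def swapP (p : P) : P := nm (p.2, p.1)

theorem swap_check : ∀ p ∈ elems, swapP p ∈ elems ∧ swapP (swapP p) = p := by decide +kernel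

theorem swap_nm {p : P} (hp : Pre p) : nm (nm p).swap = nm p.swap := by
  by_cases h : lead p.1 = 1
  · rw [show nm p = p from if_pos h]
  · rw [show nm p = negP p from if_neg h, show (negP p).swap = negP p.swap from rfl]
    exact nm_negP ⟨hp.2.1, hp.1, hp.2.2.symm⟩

/-- The automorphism exchanging the factors. -/
def swapM : Mod ≃* Mod where
  toFun x := ⟨swapP x.1, mem_elems.1 (swap_check _ (mem_elems.2 x.2)).1⟩
  invFun x := ⟨swapP x.1, mem_elems.1 (swap_check _ (mem_elems.2 x.2)).1⟩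
  left_inv x := Subtype.ext (swap_check _ (mem_elems.2 x.2)).2
  right_inv x := Subtype.ext (swap_check _ (mem_elems.2 x.2)).2
  map_mul' x y := Subtype.ext <| by
    show swapP (nm (mulP x.1 y.1)) = nm (mulP (swapP x.1) (swapP y.1))
    have hx : Pre x.1.swap := ⟨x.2.2.1, x.2.1, x.2.2.2.1.symm⟩
    have hy : Pre y.1.swap := ⟨y.2.2.1, y.2.1, y.2.2.2.1.symm⟩
    show nm (nm (mulP x.1 y.1)).swap = nm (mulP (nm x.1.swap) (nm y.1.swap))
    rw [swap_nm (pre_mul x.2.pre y.2.pre), nm_mul_left hx (ok_nm hy).pre, nm_mul_right hx hy]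
    rfl

theorem swap_values : swapM zM = zM ∧ swapM aM = bM ∧ swapM bM = aM ∧ swapM kM = kM := by
  decide +kernel

/-- A matrix from its entries. -/
def toM (x : V) : Matrix (Fin 2) (Fin 2) (ZMod 3) := !![(x.1 : ZMod 3), x.2.1; x.2.2.1, x.2.2.2]

theorem toM_mul (x y : V) : toM (mulV x y) = toM x * toM y := by
  simp only [toM, mulV, ZMod.natCast_mod, Nat.cast_add, Nat.cast_mul, Matrix.mul_fin_two]

theorem toM_one : toM oneV = 1 := by decide

theorem toM_inj : ∀ x ∈ units, toM x = 1 → x = oneV := by decide +kernel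

theorem units_of_det : ∀ a b c d : ZMod 3, a * d - b * c ≠ 0 →
    (a.val, b.val, c.val, d.val) ∈ units := by decide +kernel

/-- An invertible matrix from a unit. -/
def toGL (x : V) (h : x ∈ units) : GL (Fin 2) (ZMod 3) :=
  ⟨toM x, toM (invV x),
    mul_eq_one_comm.1 (by rw [← toM_mul, (unit_spec x h).2.2.2.2.2.2.2.2.2, toM_one]),
    by rw [← toM_mul, (unit_spec x h).2.2.2.2.2.2.2.2.2, toM_one]⟩

/-- The normaliser of `⟨aM⟩`. -/
def Borel (x : Mod) : Prop := x * aM * x⁻¹ = aM ∨ x * aM * x⁻¹ = aM⁻¹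

theorem borel_spec {x : Mod} (h : Borel x) :
    x.1.1.1 = 1 ∧ x.1.1.2.2.1 = 0 ∧ (x.1.2 = oneV → x = 1 ∨ x = aM ∨ x = aM⁻¹) :=
  of_decide_eq_true (List.all_eq_true.1 borel_check x (mem_allMod x)) h

theorem borel_mul {x y : Mod} (hx : Borel x) (hy : Borel y) : (x * y).1.2 = mulV x.1.2 y.1.2 := by
  obtain ⟨a1, -, -⟩ := borel_spec hx
  obtain ⟨b1, b0, -⟩ := borel_spec hy
  rw [Mod.mul_val, nm, if_pos]
  · rfl
  · show lead (mulV x.1.1 y.1.1) = 1
    simp [lead, mulV, a1, b1, b0]

namespace Para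

variable {G : Type*} [Group G] [Finite G] (φ : Mod →* G) (hinj : Function.Injective φ)
  (hrange : φ.range = centralizer {φ zM}) (hcardG : Nat.card G = 4245696)
  (hk : IsConj (φ zM) (φ kM)) (ha : Nat.card (centralizer {φ aM} : Subgroup G) = 5832)

include hinj in
theorem map_zpowers_iff {x : Mod} : φ x ∈ zpowers (φ aM) ↔ x = 1 ∨ x = aM ∨ x = aM⁻¹ := by
  constructor
  · intro h
    rw [← MonoidHom.map_zpowers] at h
    obtain ⟨y, hy, e⟩ := mem_map.1 h
    obtain rfl := hinj e
    obtain ⟨n, rfl⟩ := mem_zpowers_iff.1 hy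
    have h3 : orderOf aM = 3 := by
      haveI : Fact (Nat.Prime 3) := ⟨Nat.prime_three⟩
      exact orderOf_eq_prime model_basic.2.2.1 model_basic.2.2.2.1
    rw [← zpow_mod_orderOf, h3]
    rcases (by omega : n % ((3 : ℕ) : ℤ) = 0 ∨ n % ((3 : ℕ) : ℤ) = 1 ∨ n % ((3 : ℕ) : ℤ) = 2) with e | e | e
      <;> rw [e]
    · exact Or.inl (zpow_zero _)
    · exact Or.inr (Or.inl (zpow_one _))
    · refine Or.inr (Or.inr ?_)
      rw [show (2 : ℤ) = ((2 : ℕ) : ℤ) from rfl, zpow_natCast]
      exact eq_inv_of_mul_eq_one_left (by rw [← pow_succ]; exact model_basic.2.2.1)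
  · rintro (rfl | rfl | rfl)
    · rw [map_one]; exact one_mem _
    · exact mem_zpowers _
    · rw [map_inv]; exact inv_mem (mem_zpowers _)

include hrange in
theorem exists_pre {g : G} (h : g * φ zM = φ zM * g) : ∃ x, φ x = g := by
  have : g ∈ φ.range := by rw [hrange]; exact mem_centralizer_singleton_iff.2 h
  exact this

/-- The side of the first factor. -/
noncomputable def side : Side G where
  z := φ zM
  a := φ aM
  k := φ kM
  w := φ wM
  L := LM.map φ
  z2 := by rw [← map_mul, model_basic.1, map_one]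
  a3 := by rw [← map_pow, model_basic.2.2.1, map_one]
  a_ne := fun h => model_basic.2.2.2.1 (hinj (h.trans (map_one φ).symm))
  card_C := ha
  card_L := by rw [card_map_of_injective hinj, card_LM]
  L_a := by
    rintro _ ⟨l, hl, rfl⟩
    rw [← map_mul, ← map_mul, LList_comm l (mem_LList.2 hl)]
  L_z := by
    rintro _ ⟨l, -, rfl⟩
    rw [← map_mul, ← map_mul, zM_comm]
  z_mem := mem_map_of_mem φ (mem_LList.1 model_basic.2.2.2.2.2.2.1)
  z_ne := fun h => model_basic.2.1 (hinj (h.trans (map_one φ).symm))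
  a_notMem := by
    rintro ⟨l, hl, e⟩
    exact model_basic.2.2.2.2.2.2.2.1 (hinj e ▸ mem_LList.2 hl)
  word := by
    rintro _ ⟨x, hx, rfl⟩ hne
    rcases LList_word x (mem_LList.2 hx) (fun e => hne (by rw [e, map_one])) with ⟨h3, y, hy, e⟩ | ⟨n, e⟩
    · exact Or.inl ⟨by rw [← map_pow, h3, map_one], φ y, mem_map_of_mem φ (mem_LList.1 hy),
        by rw [← e, map_pow, map_mul, map_mul, map_mul, map_inv]⟩
    · exact Or.inr ⟨n, by rw [← e, map_pow]⟩
  z_comm := ⟨φ wM, mem_map_of_mem φ (mem_LList.1 model_basic.2.2.2.2.2.2.2.2.1), φ jM,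
    mem_map_of_mem φ (mem_LList.1 model_basic.2.2.2.2.2.2.2.2.2.1),
    by simp only [← map_inv, ← map_mul, model_basic.2.2.2.2.2.2.2.2.2.2.2.1]⟩
  z_sq := ⟨φ wM, mem_map_of_mem φ (mem_LList.1 model_basic.2.2.2.2.2.2.2.2.1),
    by rw [← map_mul, model_basic.2.2.2.2.2.2.2.2.2.2.2.2.1]⟩
  CH := by
    intro g hz hg
    obtain ⟨x, rfl⟩ := exists_pre φ hrange hz
    rw [← map_mul, ← map_mul] at hg
    have hx := hinj hg
    have hs := of_decide_eq_true (List.all_eq_true.1 cent_check x (mem_allMod x)) hx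
    rcases hs with h | h | h
    · exact ⟨φ x, mem_map_of_mem φ (mem_LList.1 h), by simp⟩
    · refine ⟨φ (aM * x), mem_map_of_mem φ (mem_LList.1 h), ?_⟩
      rw [← map_inv, ← map_mul, map_zpowers_iff φ hinj, mul_inv_rev, mul_inv_cancel_left]
      exact Or.inr (Or.inr rfl)
    · refine ⟨φ (aM * aM * x), mem_map_of_mem φ (mem_LList.1 h), ?_⟩
      rw [← map_inv, ← map_mul, map_zpowers_iff φ hinj, mul_inv_rev, mul_inv_cancel_left]
      refine Or.inr (Or.inl (inv_eq_of_mul_eq_one_left ?_))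
      rw [← mul_assoc, ← pow_two, ← pow_succ, model_basic.2.2.1]
  k_z := by rw [← map_mul, ← map_mul, zM_comm]
  k2 := by rw [← map_mul, model_basic.2.2.2.2.1, map_one]
  k_a := by simp only [← map_inv, ← map_mul, model_basic.2.2.2.2.2.1]
  w_mem := mem_map_of_mem φ (mem_LList.1 model_basic.2.2.2.2.2.2.2.2.1)
  w_k := by simp only [← map_inv, ← map_mul, model_basic.2.2.2.2.2.2.2.2.2.2.1]
  k_L := by
    intro g hz hg
    obtain ⟨x, rfl⟩ := exists_pre φ hrange hz
    simp only [← map_inv, ← map_mul] at hg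
    have hx := hinj hg
    obtain ⟨l, hl, h1, h2, h3⟩ :=
      of_decide_eq_true (List.all_eq_true.1 inverting_check x (mem_allMod x)) hx
    refine ⟨φ l, mem_map_of_mem φ (mem_LList.1 hl), fun h => ?_⟩
    simp only [← map_inv, ← map_mul] at h
    rcases (map_zpowers_iff φ hinj).1 h with e | e | e
    exacts [h1 e, h2 e, h3 e]

theorem side_a : (side φ hinj hrange ha).a = φ aM := rfl

include hinj hrange in
/-- The two elements of order three are not conjugate. -/
theorem nonconj (hb : Nat.card (centralizer {φ (swapM aM)} : Subgroup G) = 5832) :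
    ¬ IsConj (φ aM) (φ bM) ∧ ¬ IsConj (φ aM)⁻¹ (φ bM) := by
  set φ' : Mod →* G := φ.comp swapM.toMonoidHom with hφ'
  have hr' : φ'.range = centralizer {φ' zM} := by
    rw [show φ' zM = φ zM from congrArg φ swap_values.1, ← hrange, hφ',
      MonoidHom.range_comp, MonoidHom.range_eq_top.2 swapM.surjective, MonoidHom.range_eq_map]
  have hb' : Nat.card (centralizer {φ' aM} : Subgroup G) = 5832 := hb
  let S := side φ' (hinj.comp swapM.injective) hr' hb'
  have hSa : S.a = φ bM := by show φ (swapM aM) = _; rw [swap_values.2.1]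
  have hSz : S.z = φ zM := by show φ (swapM zM) = _; rw [swap_values.1]
  have key : ∀ c : Mod, c * zM = zM * c → IsConj (φ c) (φ bM) → clP c.1 = clP bM.1 := by
    intro c hcz hc
    obtain ⟨g, hg⟩ := isConj_iff.1 hc
    have hu : g * φ zM * g⁻¹ ∈ S.C := by
      rw [S.mem_C, hSa, ← hg]
      calc g * φ zM * g⁻¹ * (g * φ c * g⁻¹) = g * (φ zM * φ c) * g⁻¹ := by group
        _ = g * (φ c * φ zM) * g⁻¹ := by rw [← map_mul, ← map_mul, hcz]
        _ = _ := by group
    obtain ⟨s, hs, e⟩ := S.invol_conj hu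
      (by rw [show g * φ zM * g⁻¹ * (g * φ zM * g⁻¹) = g * (φ zM * φ zM) * g⁻¹ by group, ← map_mul,
        model_basic.1, map_one]; group)
      (fun h => model_basic.2.1 (hinj ((conj_eq_one_iff.1 h).trans (map_one φ).symm)))
    rw [hSz] at e
    obtain ⟨h, hh⟩ := exists_pre φ hrange (g := s⁻¹ * g) (by
      calc s⁻¹ * g * φ zM = s⁻¹ * (g * φ zM * g⁻¹) * g := by group
        _ = φ zM * (s⁻¹ * g) := by rw [← e]; group)
    have hsb : s⁻¹ * φ bM * s = φ bM := by
      rw [mul_assoc, ← hSa, ← S.mem_C.1 (S.R_le hs), inv_mul_cancel_left]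
    have he : φ (h * c * h⁻¹) = φ bM := by
      rw [map_mul, map_mul, map_inv, hh]
      calc s⁻¹ * g * φ c * (s⁻¹ * g)⁻¹ = s⁻¹ * (g * φ c * g⁻¹) * s := by group
        _ = φ bM := by rw [hg, hsb]
    rw [← hinj he, clP_conj]
  refine ⟨fun h => class_check.1 (key aM (zM_comm aM).symm h), fun h => class_check.2 ?_⟩
  rw [← map_inv] at h
  exact key aM⁻¹ (zM_comm _).symm h

include hinj hrange in
theorem card_cent : Nat.card (centralizer {φ zM} : Subgroup G) = 576 := by
  rw [← hrange, ← Nat.card_congr (MonoidHom.ofInjective hinj).toEquiv, Nat.card_eq_fintype_card, card_Mod]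

include hinj hrange in
theorem nine (W : Subgroup G) (hW : W ≤ centralizer {φ zM}) (h9 : Nat.card W = 9) :
    ∃ v ∈ W, IsConj (φ aM) v := by
  haveI : Fact (Nat.Prime 3) := ⟨Nat.prime_three⟩
  have hW' : (W.comap φ).map φ = W := map_comap_eq_self (hrange ▸ hW)
  have hc : Nat.card (W.comap φ) = 9 := by rw [← card_map_of_injective hinj, hW', h9]
  have hP : Nat.card (W.comap φ) = 3 ^ (Nat.card Mod).factorization 3 := by
    rw [hc, Nat.card_eq_fintype_card, card_Mod, show (576 : ℕ) = 3 ^ 2 * 64 by norm_num,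
      Nat.factorization_mul (by norm_num) (by norm_num), Finsupp.add_apply,
      Nat.prime_three.factorization_pow, Finsupp.single_eq_same,
      Nat.factorization_eq_zero_of_not_dvd (by norm_num : ¬ 3 ∣ 64)]
    norm_num
  have ha3 : IsPGroup 3 (zpowers aM) := IsPGroup.of_card (n := 1) (by
    rw [Nat.card_zpowers]; exact orderOf_eq_prime model_basic.2.2.1 model_basic.2.2.2.1)
  obtain ⟨Q, hQ⟩ := ha3.exists_le_sylow
  obtain ⟨g, hg⟩ := MulAction.exists_smul_eq Mod Q (Sylow.ofCard (W.comap φ) hP)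
  have hmem : g * aM * g⁻¹ ∈ ((g • Q : Sylow 3 Mod) : Subgroup Mod) :=
    mem_map.2 ⟨aM, hQ (mem_zpowers _), rfl⟩
  rw [hg] at hmem
  exact ⟨φ (g * aM * g⁻¹), mem_comap.1 hmem,
    isConj_iff.2 ⟨φ g, by rw [map_mul, map_mul, map_inv]⟩⟩

/-- The first side, with its quotient map. -/
noncomputable def loc (hb : Nat.card (centralizer {φ (swapM aM)} : Subgroup G) = 5832) : Loc G where
  toSide := side φ hinj hrange ha
  card_G := hcardG
  card_H := card_cent φ hinj hrange
  k_conj := hk
  nine := nine φ hinj hrange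
  b := φ bM
  b3 := by rw [← map_pow, model_basic.2.2.2.2.2.2.2.2.2.2.2.2.2, map_one]
  card_Cb := by rw [← swap_values.2.1]; exact hb
  nc := (nonconj φ hinj hrange hb).1
  nc' := (nonconj φ hinj hrange hb).2
  gl :=
    let NG : Subgroup G := (centralizer {φ zM} : Subgroup G) ⊓
      normalizer ((zpowers (φ aM) : Subgroup G) : Set G)
    let pre : NG → Mod := fun u => Classical.choose (exists_pre φ hrange (g := (u : G))
      (mem_centralizer_singleton_iff.1 u.2.1))
    have hpre : ∀ u : NG, φ (pre u) = u := fun u =>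
      Classical.choose_spec (exists_pre φ hrange (g := (u : G)) (mem_centralizer_singleton_iff.1 u.2.1))
    have hB : ∀ u : NG, Borel (pre u) := fun u => by
      have h := (mem_normalizer_iff.1 u.2.2 (φ aM)).1 (mem_zpowers _)
      rw [← hpre u, ← map_inv, ← map_mul, ← map_mul, map_zpowers_iff φ hinj] at h
      rcases h with e | e | e
      · exact absurd (conj_eq_one_iff.1 e) model_basic.2.2.2.1
      · exact Or.inl e
      · exact Or.inr e
    MonoidHom.mk' (fun u => toGL (pre u).1.2 (pre u).2.2.1) fun u v => by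
      refine Units.ext ?_
      show toM (pre (u * v)).1.2 = toM (pre u).1.2 * toM (pre v).1.2
      have e : pre (u * v) = pre u * pre v := hinj (by
        rw [map_mul]
        exact (hpre (u * v)).trans (congr_arg₂ (· * ·) (hpre u) (hpre v)).symm)
      rw [e, borel_mul (hB u) (hB v), toM_mul]
  gl_surj := by
    intro M
    have hdet : M.1 0 0 * M.1 1 1 - M.1 0 1 * M.1 1 0 ≠ 0 := by
      rw [← Matrix.det_fin_two]
      exact ((Matrix.isUnit_iff_isUnit_det _).1 M.isUnit).ne_zero
    have hu := units_of_det _ _ _ _ hdet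
    obtain ⟨x, -, hx⟩ := List.any_eq_true.1 (List.all_eq_true.1 borel_surj _ hu)
    rw [Bool.and_eq_true, beq_iff_eq, decide_eq_true_iff] at hx
    have hmem : φ x ∈ (centralizer {φ zM} : Subgroup G) ⊓
        normalizer ((zpowers (φ aM) : Subgroup G) : Set G) := by
      refine ⟨mem_centralizer_singleton_iff.2 (by rw [← map_mul, ← map_mul, zM_comm]), ?_⟩
      refine ((side φ hinj hrange ha).mem_A (g := φ x)).2 ?_
      show φ x * φ aM * (φ x)⁻¹ = φ aM ∨ φ x * φ aM * (φ x)⁻¹ = (φ aM)⁻¹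
      simp only [← map_inv, ← map_mul]
      exact hx.2.imp (fun e => by rw [e]) (fun e => by rw [e])
    refine ⟨⟨φ x, hmem⟩, Units.ext ?_⟩
    have e : Classical.choose (exists_pre φ hrange (g := φ x) (mem_centralizer_singleton_iff.1 hmem.1)) = x :=
      hinj (Classical.choose_spec (exists_pre φ hrange (g := φ x) (mem_centralizer_singleton_iff.1 hmem.1)))
    simp only [MonoidHom.mk'_apply, toGL, e, hx.1]
    ext i j
    fin_cases i <;> fin_cases j <;> simp [toM]
  gl_ker := by
    rintro ⟨u, hu⟩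
    obtain ⟨x, rfl⟩ := exists_pre φ hrange (g := u) (mem_centralizer_singleton_iff.1 hu.1)
    have e : Classical.choose (exists_pre φ hrange (g := φ x) (mem_centralizer_singleton_iff.1 hu.1)) = x :=
      hinj (Classical.choose_spec (exists_pre φ hrange (g := φ x) (mem_centralizer_singleton_iff.1 hu.1)))
    simp only [MonoidHom.mk'_apply, Units.ext_iff, toGL, e, Units.val_one]
    rw [show (φ x ∈ zpowers (side φ hinj hrange ha).a) = (φ x ∈ zpowers (φ aM)) from rfl,
      map_zpowers_iff φ hinj]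
    constructor
    · intro h
      have hB : Borel x := by
        have h' := (mem_normalizer_iff.1 hu.2 (φ aM)).1 (mem_zpowers _)
        replace h' : φ x * φ aM * (φ x)⁻¹ ∈ zpowers (φ aM) := h'
        rw [← map_inv, ← map_mul, ← map_mul, map_zpowers_iff φ hinj] at h'
        rcases h' with e | e | e
        · exact absurd (conj_eq_one_iff.1 e) model_basic.2.2.2.1
        · exact Or.inl e
        · exact Or.inr e
      exact (borel_spec hB).2.2 (toM_inj _ x.2.2.1 h)
    · rintro (rfl | rfl | rfl)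
      · exact toM_one
      · rw [borel_ker.1, toM_one]
      · rw [borel_ker.2, toM_one]

end Para

variable {G : Type*} [Group G] [Finite G]

/-- `G₂(3)` from the order, the involution centraliser, one fusion and two centraliser orders. -/
theorem iso_G2_of_data (φ : Mod →* G) (hinj : Function.Injective φ)
    (hrange : φ.range = centralizer {φ zM}) (hcardG : Nat.card G = 4245696)
    (hk : IsConj (φ zM) (φ kM)) (ha : Nat.card (centralizer {φ aM} : Subgroup G) = 5832)
    (hb : Nat.card (centralizer {φ bM} : Subgroup G) = 5832) :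
    ∃ (F : Type) (_ : Field F) (_ : Fintype F), Fintype.card F = 3 ∧
      Nonempty (G ≃* ↥(Cfsg.Lie.chevG2.group F)) := by
  haveI : Fact (Nat.Prime 3) := ⟨Nat.prime_three⟩
  have hb' : Nat.card (centralizer {φ (swapM aM)} : Subgroup G) = 5832 := by rw [swap_values.2.1]; exact hb
  let S₁ := Para.loc φ hinj hrange hcardG hk ha hb'
  -- Sylow subgroups of the two centralisers are conjugate
  have key : ∀ x : G, Nat.card (centralizer {x} : Subgroup G) = 5832 →
      ∃ P : Sylow 3 G, (P : Subgroup G) ≤ centralizer {x} ∧ Nat.card P = 729 := fun x hx => by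
    obtain ⟨T, hT⟩ := Sylow.exists_subgroup_card_pow_prime (G := centralizer ({x} : Set G)) 3 (n := 6)
      (by rw [hx]; decide)
    have hc : Nat.card (T.map (centralizer ({x} : Set G)).subtype) = 729 := by
      rw [card_map_of_injective (Subgroup.subtype_injective _), hT]; norm_num
    refine ⟨Sylow.ofCard (T.map (centralizer ({x} : Set G)).subtype) ?_, map_subtype_le _, hc⟩
    rw [hc, hcardG, show 4245696 = 3 ^ 6 * 5824 by norm_num,
      Nat.factorization_mul (by norm_num) (by norm_num), Finsupp.add_apply,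
      Nat.prime_three.factorization_pow, Finsupp.single_eq_same,
      Nat.factorization_eq_zero_of_not_dvd (by norm_num : ¬ 3 ∣ 5824)]
    norm_num
  obtain ⟨P₁, hP₁, hc₁⟩ := key (φ aM) ha
  obtain ⟨P₂, hP₂, -⟩ := key (φ bM) hb
  obtain ⟨g, hg⟩ := MulAction.exists_smul_eq G P₂ P₁
  -- the second side, conjugated
  let ψ : Mod →* G := ((MulAut.conj g).toMonoidHom.comp φ).comp swapM.toMonoidHom
  have hψ : ∀ x, ψ x = g * φ (swapM x) * g⁻¹ := fun x => rfl
  have hψi : Function.Injective ψ :=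
    ((MulAut.conj g).injective.comp hinj).comp swapM.injective
  have hψr : ψ.range = centralizer {ψ zM} := by
    ext y
    rw [mem_centralizer_singleton_iff, hψ zM, swap_values.1]
    constructor
    · rintro ⟨x, rfl⟩
      rw [hψ]
      calc g * φ (swapM x) * g⁻¹ * (g * φ zM * g⁻¹) = g * (φ (swapM x) * φ zM) * g⁻¹ := by group
        _ = g * (φ zM * φ (swapM x)) * g⁻¹ := by rw [← map_mul, ← map_mul, zM_comm]
        _ = _ := by group
    · intro h
      obtain ⟨x, hx⟩ := Para.exists_pre φ hrange (g := g⁻¹ * y * g) (by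
        calc g⁻¹ * y * g * φ zM = g⁻¹ * (y * (g * φ zM * g⁻¹)) * g := by group
          _ = φ zM * (g⁻¹ * y * g) := by rw [h]; group)
      exact ⟨swapM.symm x, by rw [hψ, MulEquiv.apply_symm_apply, hx]; group⟩
  have hψk : IsConj (ψ zM) (ψ kM) := by
    rw [hψ, hψ, swap_values.1, swap_values.2.2.2]
    exact (MulAut.conj g).toMonoidHom.map_isConj hk
  have hcent : ∀ x : G, Nat.card (centralizer {g * x * g⁻¹} : Subgroup G) =
      Nat.card (centralizer {x} : Subgroup G) := fun x => by
    rw [← card_map_of_injective (K := centralizer {x}) (f := (MulAut.conj g).toMonoidHom)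
      (MulAut.conj g).injective]
    congr 2
    ext y
    rw [mem_map, mem_centralizer_singleton_iff]
    constructor
    · intro h
      refine ⟨g⁻¹ * y * g, mem_centralizer_singleton_iff.2 ?_, by simp [mul_assoc]⟩
      calc g⁻¹ * y * g * x = g⁻¹ * (y * (g * x * g⁻¹)) * g := by group
        _ = x * (g⁻¹ * y * g) := by rw [h]; group
    · rintro ⟨u, hu, rfl⟩
      rw [mem_centralizer_singleton_iff] at hu
      simp only [MulEquiv.coe_toMonoidHom, MulAut.conj_apply]
      calc g * u * g⁻¹ * (g * x * g⁻¹) = g * (u * x) * g⁻¹ := by group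
        _ = _ := by rw [hu]; group
  have hψa : Nat.card (centralizer {ψ aM} : Subgroup G) = 5832 := by
    rw [hψ, swap_values.2.1, hcent]; exact hb
  have hψb : Nat.card (centralizer {ψ (swapM aM)} : Subgroup G) = 5832 := by
    rw [hψ, swap_values.2.1, swap_values.2.2.1, hcent]; exact ha
  let S₂ := Para.loc ψ hψi hψr hcardG hψk hψa hψb
  have hab := Para.nonconj φ hinj hrange hb'
  have hconj : IsConj (φ bM) S₂.a := isConj_iff.2 ⟨g, by
    show _ = ψ aM
    rw [hψ, swap_values.2.1]⟩
  let W : Para.Pair G :=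
    { S₁ := S₁
      S₂ := S₂
      T := P₁
      T_le₁ := hP₁
      T_le₂ := by
        rw [← hg]
        rintro _ ⟨u, hu, rfl⟩
        refine S₂.mem_C.2 ?_
        show g * u * g⁻¹ * ψ aM = ψ aM * (g * u * g⁻¹)
        rw [hψ, swap_values.2.1]
        have hc : u * φ bM = φ bM * u := mem_centralizer_singleton_iff.1 (hP₂ hu)
        calc g * u * g⁻¹ * (g * φ bM * g⁻¹) = g * (u * φ bM) * g⁻¹ := by group
          _ = _ := by rw [hc]; group
      card_T := hc₁
      nc := fun h => hab.1 (IsConj.trans h hconj.symm)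
      nc' := fun h => hab.2 (IsConj.trans h hconj.symm) }
  have hO : Cfsg.pPrimeCore 3 G = ⊥ := by
    refine S₁.pPrimeCore_eq_bot fun M hM hconjM hz _ => (eq_bot_iff_forall _).2 fun y hy => ?_
    obtain ⟨x, rfl⟩ := Para.exists_pre φ hrange (g := y) (mem_centralizer_singleton_iff.1 (hM hy))
    have step : ∀ u q : Mod, φ u ∈ M → φ (u * q * u⁻¹ * q⁻¹) ∈ M := fun u q hu => by
      rw [show u * q * u⁻¹ * q⁻¹ = u * (q * u⁻¹ * q⁻¹) by group, map_mul, map_mul, map_mul, map_inv,
        map_inv]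
      exact mul_mem hu (hconjM _ (mem_centralizer_singleton_iff.2
        (show φ q * φ zM = φ zM * φ q by rw [← map_mul, ← map_mul, zM_comm])) _ (inv_mem hu))
    rcases of_decide_eq_true (List.all_eq_true.1 normal_check x (mem_allMod x)) with
      h | h | ⟨q, -, h | ⟨r, -, h⟩⟩
    · rw [h, map_one]
    · exact absurd (show φ zM ∈ M from h ▸ hy) hz
    · exact absurd (show φ zM ∈ M from h ▸ step x q hy) hz
    · exact absurd (show φ zM ∈ M from h ▸ step _ r (step x q hy)) hz
  obtain ⟨e⟩ := W.exists_iso hO (ZMod 3) (ZMod.card 3)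
  obtain ⟨e'⟩ := G2Iso.exists_iso (F := ZMod 3) (by rw [ZMod.card])
  exact ⟨ZMod 3, inferInstance, inferInstance, ZMod.card 3, ⟨e.trans e'.symm⟩⟩

end Cfsg.Agent.G23Two
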