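import Cfsg.Agent.Lib.G23Two.Model

/-!
A noncentral involution of the largest normal two-subgroup of the model.
-/

set_option autoImplicit false
set_option maxRecDepth 100000

namespace Cfsg.Agent.G23Two

/-- A noncentral involution in the normal two-subgroup. -/
def qM : Mod := ⟨((0, 1, 2, 0), (0, 1, 2, 0)), by decide +kernel⟩

theorem qM_spec : clP qM.1 = 5 ∧ qM * qM = 1 := by decide +kernel

end Cfsg.Agent.G23Two
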