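import Cfsg.Agent.Lib.G23Two.Gen
import Cfsg.Agent.Lib.G23Two.QM
import Cfsg.Agent.Lib.G23Two.ParaModel
import Cfsg.Agent.Lib.Small.ClassCount

/-!
The hypotheses on the model inside the group: the special elements form a TI set, and the pairs of involutions
with special product lie in the model.
-/

set_option autoImplicit false
set_option maxRecDepth 100000
set_option maxHeartbeats 1000000
set_option linter.style.haveILetI false
set_option linter.unusedSectionVars false

namespace Cfsg.Agent.G23Two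

open Cfsg Cfsg.Agent.Char Cfsg.Agent.LocalTI Subgroup
open scoped ComplexConjugate

universe u

variable {G : Type u} [Group G]

/-- The model is the centraliser of an involution all whose involutions are conjugate. -/
structure Hyp (φ : Mod →* G) : Prop where
  inj : Function.Injective φ
  range : φ.range = centralizer {φ zM}
  hk : IsConj (φ zM) (φ kM)
  hq : IsConj (φ zM) (φ qM)

/-- An involution of the model. -/
def isInv (x : Mod) : Bool := decide (x ≠ 1 ∧ x * x = 1)

theorem invol_classes : (allMod.all fun x => decide (x * x = 1 → x = 1 ∨ x = zM ∨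
    clP x.1 = clP kM.1 ∨ clP x.1 = clP qM.1)) = true := by decide +kernel

theorem special_dec (h : Mod) (hh : Dset h) : ∃ n : ℕ, h ^ n = zM := by
  obtain ⟨k, hk⟩ := conj_rep h
  obtain ⟨n, hn⟩ := special_pow (cl h) (by rw [cl_val]; exact hh)
  refine ⟨n.val, ?_⟩
  rw [← hk, conj_pow, hn, ← zM_comm, mul_inv_cancel_right]

namespace Hyp

variable {φ : Mod →* G} (H : Hyp φ)

include H

theorem mem_range {g : G} (hg : g * φ zM = φ zM * g) : g ∈ φ.range := by
  rw [H.range]
  exact mem_centralizer_singleton_iff.2 hg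

theorem emb : Emb φ Dset where
  inj := H.inj
  ti := fun h h' hh hh' g hg => by
    obtain ⟨n, hn⟩ := special_dec h hh
    obtain ⟨n', hn'⟩ := special_dec h' hh'
    refine H.mem_range ?_
    have h1 : g * φ zM * g⁻¹ = φ (h' ^ n) := by rw [← hn, map_pow, map_pow, ← conj_pow, hg]
    -- the image is an involution which is a power of `h'`
    have hz : (h' ^ n) ∈ Subgroup.zpowers h' := Subgroup.npow_mem_zpowers _ _
    have h2 : h' ^ n = zM := by
      have hne : h' ^ n ≠ 1 := fun e => by
        rw [e, map_one, conj_eq_one_iff] at h1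
        exact model_basic.2.1 (H.inj (h1.trans (map_one φ).symm))
      have hsq : h' ^ n * h' ^ n = 1 := H.inj (by
        rw [map_mul, map_one, ← h1, show g * φ zM * g⁻¹ * (g * φ zM * g⁻¹) = g * (φ zM * φ zM) * g⁻¹ by group,
          ← map_mul, model_basic.1, map_one, mul_one, mul_inv_cancel])
      haveI : IsCyclic (Subgroup.zpowers h') := inferInstance
      have hzm : zM ∈ Subgroup.zpowers h' := hn' ▸ Subgroup.npow_mem_zpowers _ _
      by_contra hne'
      -- two involutions in a cyclic group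
      have hinv : ∀ x : Subgroup.zpowers h', x ≠ 1 → x * x = 1 → orderOf x = 2 := fun x hx hxx =>
        orderOf_eq_prime (by rw [pow_two]; exact hxx) hx
      classical
      haveI := Fintype.ofFinite (Subgroup.zpowers h')
      have hle := IsCyclic.card_pow_eq_one_le (α := Subgroup.zpowers h') (n := 2) (by norm_num)
      have h3 : ({1, ⟨_, hz⟩, ⟨_, hzm⟩} : Finset (Subgroup.zpowers h')) ⊆
          Finset.univ.filter fun a => a ^ 2 = 1 := by
        intro a ha
        rw [Finset.mem_filter]
        refine ⟨Finset.mem_univ _, Subtype.ext ?_⟩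
        simp only [Finset.mem_insert, Finset.mem_singleton] at ha
        rcases ha with rfl | rfl | rfl
        · simp
        · simpa [pow_two] using hsq
        · simpa [pow_two] using model_basic.1
      have h4 := (Finset.card_le_card h3).trans hle
      rw [Finset.card_eq_three.2 ⟨_, _, _, ?_, ?_, ?_, rfl⟩] at h4
      · omega
      · exact fun e => hne (congrArg Subtype.val e).symm
      · exact fun e => model_basic.2.1 (congrArg Subtype.val e).symm
      · exact fun e => hne' (congrArg Subtype.val e)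
    rw [h2] at h1
    exact (mul_inv_eq_iff_eq_mul.1 h1)

theorem isConj_invol {x : Mod} (hx : x * x = 1) (hx1 : x ≠ 1) : IsConj (φ zM) (φ x) := by
  rcases of_decide_eq_true (List.all_eq_true.1 invol_classes x (mem_allMod x)) hx with h | h | h | h
  · exact absurd h hx1
  · rw [h]
  · refine H.hk.trans (MonoidHom.map_isConj φ (isConj_of_cl (Fin.ext ?_)))
    rw [cl_val, cl_val, h]
  · refine H.hq.trans (MonoidHom.map_isConj φ (isConj_of_cl (Fin.ext ?_)))
    rw [cl_val, cl_val, h]

theorem invol_of_isConj {a : G} (h : IsConj (φ zM) a) : a * a = 1 ∧ a ≠ 1 := by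
  obtain ⟨g, rfl⟩ := isConj_iff.1 h
  refine ⟨?_, fun e => ?_⟩
  · rw [show g * φ zM * g⁻¹ * (g * φ zM * g⁻¹) = g * (φ zM * φ zM) * g⁻¹ by group, ← map_mul,
      model_basic.1, map_one, mul_one, mul_inv_cancel]
  · rw [conj_eq_one_iff] at e
    exact model_basic.2.1 (H.inj (e.trans (map_one φ).symm))

theorem card_centralizer [Finite G] : Nat.card (centralizer ({φ zM} : Set G)) = 576 := by
  rw [← H.range, Nat.card_congr (MonoidHom.ofInjective H.inj).toEquiv.symm, Nat.card_eq_fintype_card,
    card_Mod]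

end Hyp

/-- The pairs of involutions with given product, counted in the model. -/
def nPairs (h : Mod) : ℕ := (allMod.filter fun a => isInv a && isInv (a⁻¹ * h)).length

theorem isInv_iff {x : Mod} : isInv x = true ↔ x ≠ 1 ∧ x * x = 1 := by simp [isInv]

theorem Hyp.card_pairs [Finite G] {φ : Mod →* G} (H : Hyp φ) {h : Mod} (hh : Dset h) :
    Nat.card {a : G // IsConj (φ zM) a ∧ IsConj (φ zM) (a⁻¹ * φ h)} = nPairs h := by
  classical
  rw [nPairs, ← List.toFinset_card_of_nodup (allMod_nodup.filter _), ← Nat.card_eq_finsetCard]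
  symm
  refine Nat.card_eq_of_bijective (fun a => ⟨φ a.1, ?_⟩) ⟨fun a b e => ?_, fun b => ?_⟩
  · have ha := a.2
    simp only [List.mem_toFinset, List.mem_filter, Bool.and_eq_true, isInv_iff] at ha
    obtain ⟨-, ⟨ha1, ha2⟩, hb1, hb2⟩ := ha
    refine ⟨H.isConj_invol ha2 ha1, ?_⟩
    rw [← map_inv, ← map_mul]
    exact H.isConj_invol hb2 hb1
  · exact Subtype.ext (H.inj (congrArg Subtype.val e))
  · obtain ⟨a, ha, hb⟩ := b
    obtain ⟨ha2, ha1⟩ := H.invol_of_isConj ha
    obtain ⟨hb2, hb1⟩ := H.invol_of_isConj hb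
    have hai : a⁻¹ = a := inv_eq_of_mul_eq_one_left ha2
    rw [hai] at hb1 hb2
    have hinv : a * φ h * a⁻¹ = (φ h)⁻¹ := by
      rw [hai]
      exact eq_inv_of_mul_eq_one_left (by rw [← hb2]; group)
    obtain ⟨n, hn⟩ := special_dec h hh
    have haz : a * φ zM = φ zM * a := by
      have e : a * φ zM * a⁻¹ = φ zM := by
        rw [← hn, map_pow, ← conj_pow, hinv, inv_pow, ← map_pow, hn, ← map_inv,
          inv_eq_of_mul_eq_one_left model_basic.1]
      exact mul_inv_eq_iff_eq_mul.1 e
    obtain ⟨x, rfl⟩ := H.mem_range haz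
    refine ⟨⟨x, ?_⟩, rfl⟩
    simp only [List.mem_toFinset, List.mem_filter, Bool.and_eq_true, isInv_iff]
    rw [← map_mul] at hb1 hb2 ha2
    rw [← map_mul] at hb2
    have hxi : x⁻¹ = x := inv_eq_of_mul_eq_one_left (H.inj (ha2.trans (map_one φ).symm))
    refine ⟨mem_allMod x, ⟨fun e => ha1 (by rw [e, map_one]), H.inj (ha2.trans (map_one φ).symm)⟩, ?_, ?_⟩
    · exact fun e => hb1 (by rw [← hxi, e, map_one])
    · rw [hxi]
      exact H.inj (hb2.trans (map_one φ).symm)

/-- A sum of a class function over the model, class by class. -/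
theorem sum_cl {M : Type*} [CommSemiring M] (f : Fin 20 → M) :
    ∑ x : Mod, f (cl x) = ∑ c, (sizes.getD c.val 0 : M) * f c := by
  classical
  rw [← Finset.sum_fiberwise Finset.univ cl]
  refine Finset.sum_congr rfl fun c _ => ?_
  rw [Finset.sum_congr rfl (fun x hx => by rw [(Finset.mem_filter.1 hx).2] : ∀ x ∈ _, f (cl x) = f c),
    Finset.sum_const, card_class, nsmul_eq_mul]

/-- The weighted number of pairs of involutions. -/
def pairTot (k : Fin 11) : ℤ :=
  ∑ c : Fin 20, (sizes.getD c.val 0 : ℤ) * (bv k c * (nPairs (rep c) : ℤ))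

theorem pairTot_eq : ∀ k : Fin 11, pairTot k =
    ([-8064, -864, 3456, 864, -3456, 3168, 0, -4320, 0, 0, 864] : List ℤ).getD k.val 0 := by
  decide +kernel

/-- The counts at one special element, in terms of the characters. -/
theorem Hyp.pair_eq [Fintype G] {φ : Mod →* G} (H : Hyp φ) (k : Fin 11) :
    (Nat.card G : ℂ) * ∑ χ : IrrCharacter G, (coef (vanish_vec k) φ χ : ℂ) *
      (χ : G → ℂ) (φ zM) * (χ : G → ℂ) (φ zM) / (χ : G → ℂ) 1 = 576 * (pairTot k : ℂ) := by
  classical
  have h576 : (Fintype.card Mod : ℂ) = 576 := by rw [card_Mod]; norm_num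
  have hx : ∀ x : Mod, (vec k x : ℂ) * ((nPairs (rep (cl x)) : ℂ) * 576 * 576) =
      (vec k x : ℂ) * ((Nat.card G : ℂ) * ∑ χ : IrrCharacter G,
        (χ : G → ℂ) (φ zM) * (χ : G → ℂ) (φ zM) * conj ((χ : G → ℂ) (φ x)) / (χ : G → ℂ) 1) := by
    intro x
    by_cases hv : vec k x = 0
    · simp [hv]
    have hD := (vanish_vec k).supp x hv
    have hr : Dset (rep (cl x)) := by
      show clP (rep (cl x)).1 ∈ special
      rw [← cl_val, cl_rep, cl_val]
      exact hD
    congr 1
    obtain ⟨l, hl⟩ := conj_rep x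
    have e : ∀ χ : IrrCharacter G, (χ : G → ℂ) (φ x) = (χ : G → ℂ) (φ (rep (cl x))) := fun χ => by
      conv_lhs => rw [← hl]
      rw [map_mul, map_mul, map_inv, IsCharacter.isClassFunction (IsIrrCharacter.isCharacter χ.2)]
    simp only [e]
    have h := ClassCount.pair_count (φ zM) (φ zM) (φ (rep (cl x)))
    rw [H.card_pairs hr, H.card_centralizer] at h
    exact_mod_cast h
  have hs : ∑ x : Mod, (vec k x : ℂ) * ((nPairs (rep (cl x)) : ℂ) * 576 * 576) =
      (pairTot k : ℂ) * 576 * 576 := by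
    have e : ∀ x : Mod, (vec k x : ℂ) * ((nPairs (rep (cl x)) : ℂ) * 576 * 576) =
        (fun c : Fin 20 => ((bv k c * (nPairs (rep c) : ℤ) : ℤ) : ℂ) * 576 * 576) (cl x) := by
      intro x
      simp only [vec, cl_val]
      push_cast
      ring
    rw [Finset.sum_congr rfl fun x _ => e x]
    refine (sum_cl (fun c : Fin 20 => ((bv k c * (nPairs (rep c) : ℤ) : ℤ) : ℂ) * 576 * 576)).trans ?_
    rw [pairTot]
    push_cast
    rw [Finset.sum_mul, Finset.sum_mul]
    exact Finset.sum_congr rfl fun c _ => by ring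
  have key : ∑ x : Mod, (vec k x : ℂ) * ((Nat.card G : ℂ) * ∑ χ : IrrCharacter G,
      (χ : G → ℂ) (φ zM) * (χ : G → ℂ) (φ zM) * conj ((χ : G → ℂ) (φ x)) / (χ : G → ℂ) 1) =
      576 * ((Nat.card G : ℂ) * ∑ χ : IrrCharacter G, (coef (vanish_vec k) φ χ : ℂ) *
        (χ : G → ℂ) (φ zM) * (χ : G → ℂ) (φ zM) / (χ : G → ℂ) 1) := by
    simp only [Finset.mul_sum]
    rw [Finset.sum_comm]
    refine Finset.sum_congr rfl fun χ _ => ?_
    have hc := coef_spec (vanish_vec k) φ χ
    rw [h576] at hc
    calc ∑ x : Mod, (vec k x : ℂ) * ((Nat.card G : ℂ) * ((χ : G → ℂ) (φ zM) * (χ : G → ℂ) (φ zM) *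
          conj ((χ : G → ℂ) (φ x)) / (χ : G → ℂ) 1))
        = (Nat.card G : ℂ) * ((χ : G → ℂ) (φ zM) * (χ : G → ℂ) (φ zM) / (χ : G → ℂ) 1) *
            ∑ x : Mod, (vec k x : ℂ) * conj ((χ : G → ℂ) (φ x)) := by
          rw [Finset.mul_sum]
          exact Finset.sum_congr rfl fun x _ => by ring
      _ = _ := by rw [← hc]; ring
  rw [← Finset.sum_congr rfl fun x _ => hx x, hs] at key
  refine mul_left_cancel₀ (show (576 : ℂ) ≠ 0 by norm_num) ?_
  linear_combination -key

end Cfsg.Agent.G23Two
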