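import Cfsg.Agent.Lib.G23Two.Model

/-!
Small subgroups of the model with linear characters in eighth roots of unity, as lists of codes with
exponents, and the coefficients expressing the special generalised characters in the induced ones.
-/

set_option autoImplicit false
set_option maxRecDepth 100000

namespace Cfsg.Agent.G23Two

/-- The subgroups: codes of the elements with the exponent of the character. -/
def subData : List (List (ℕ × ℕ)) := [
  [(2296, 0)],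
  [(984, 0), (2296, 0)],
  [(984, 0), (1722, 0), (2296, 0), (4510, 0)],
  [(984, 0), (1405, 0), (2296, 0), (2847, 0), (5925, 0), (6103, 0)],
  [(984, 0), (1312, 0), (2296, 0), (3936, 0), (5002, 0), (5248, 0)],
  [(984, 0), (1798, 0), (2296, 0), (2896, 0), (3142, 0), (3450, 0)],
  [(984, 0), (1033, 0), (2008, 0), (2296, 0), (4552, 0), (4584, 0)],
  [(1312, 0), (1879, 0), (2296, 0), (3936, 0), (4564, 0), (5637, 0)],
  [(984, 0), (1243, 0), (1729, 0), (1956, 0), (2296, 0), (2361, 0), (4467, 0), (4564, 0)],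
  [(984, 0), (1027, 0), (1956, 0), (1999, 0), (2289, 0), (2296, 0), (4557, 0), (4564, 0)],
  [(984, 0), (1722, 0), (2296, 0), (3526, 0), (4018, 0), (4510, 0), (5494, 0), (6478, 0)],
  [(984, 0), (1236, 0), (2296, 0), (2404, 0), (5506, 0), (5794, 0), (6286, 0), (6466, 0)],
  [(1146, 0), (2037, 0), (2296, 0), (3171, 0), (4321, 0), (4564, 0), (5455, 0), (6330, 0)],
  [(1146, 7), (2037, 3), (2296, 0), (3171, 1), (4321, 6), (4564, 4), (5455, 2), (6330, 5)],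
  [(997, 0), (1011, 0), (1969, 0), (1983, 0), (2296, 0), (2335, 0), (4564, 0), (4603, 0)],
  [(1312, 0), (1344, 0), (1891, 0), (2296, 0), (3904, 0), (3936, 0), (4552, 0), (4584, 0), (5617, 0)],
  [(984, 0), (1324, 0), (1891, 0), (1956, 0), (2296, 0), (2604, 0), (3819, 0), (3916, 0), (4564, 0), (4953, 0),
    (5196, 0), (5617, 0)],
  [(984, 0), (1393, 0), (1798, 0), (1956, 0), (2296, 0), (2896, 0), (3142, 0), (3450, 0), (4564, 0), (4759, 0),
    (5977, 0), (6123, 0)],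
  [(984, 0), (1312, 0), (1879, 0), (1956, 0), (2296, 0), (2653, 0), (3871, 0), (3936, 0), (4564, 0), (5002, 0),
    (5248, 0), (5637, 0)],
  [(984, 0), (1033, 0), (1036, 0), (1956, 0), (2005, 0), (2008, 0), (2284, 0), (2296, 0), (2316, 0), (4552, 0),
    (4564, 0), (4584, 0)],
  [(984, 0), (1243, 0), (1729, 0), (1956, 0), (2296, 0), (2361, 0), (3349, 0), (3495, 0), (3981, 0), (4321, 0),
    (4467, 0), (4564, 0), (5455, 0), (5763, 0), (6249, 0), (6427, 0)],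
  [(984, 0), (1027, 0), (1282, 0), (1294, 0), (1768, 0), (1780, 0), (1956, 0), (1999, 0), (2289, 0), (2296, 0),
    (2392, 0), (2398, 0), (4498, 0), (4504, 0), (4557, 0), (4564, 0)],
  [(1146, 0), (1189, 0), (2037, 0), (2080, 0), (2289, 0), (2296, 0), (3171, 0), (3214, 0), (4314, 0), (4321, 0),
    (4557, 0), (4564, 0), (5448, 0), (5455, 0), (6330, 0), (6373, 0)],
  [(1159, 4), (1173, 6), (2050, 0), (2064, 2), (2296, 0), (2335, 6), (3184, 6), (3198, 0), (4321, 6), (4360, 4),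
    (4564, 4), (4603, 2), (5455, 2), (5494, 0), (6343, 2), (6357, 4)],
  [(1312, 0), (1324, 0), (1344, 0), (1879, 0), (1891, 0), (1911, 0), (2284, 0), (2296, 0), (2316, 0), (3904, 0),
    (3916, 0), (3936, 0), (4552, 0), (4564, 0), (4584, 0), (5605, 0), (5617, 0), (5637, 0)],
  [(984, 0), (1027, 0), (1317, 0), (1324, 0), (1884, 0), (1891, 0), (1956, 0), (1999, 0), (2289, 0), (2296, 0),
    (2604, 0), (2647, 0), (3819, 0), (3862, 0), (3909, 0), (3916, 0), (4557, 0), (4564, 0), (4953, 0), (4996, 0),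
    (5196, 0), (5239, 0), (5610, 0), (5617, 0)],
  [(984, 0), (1033, 0), (1036, 0), (1231, 0), (1243, 0), (1263, 0), (1717, 0), (1729, 0), (1749, 0), (1956, 0),
    (2005, 0), (2008, 0), (2284, 0), (2296, 0), (2316, 0), (2361, 0), (2410, 0), (2413, 0), (4467, 0), (4516, 0),
    (4519, 0), (4552, 0), (4564, 0), (4584, 0)],
  [(1146, 7), (1195, 7), (1198, 3), (2037, 3), (2086, 3), (2089, 7), (2284, 4), (2296, 0), (2316, 4), (3171, 1),
    (3220, 1), (3223, 5), (4309, 2), (4321, 6), (4341, 2), (4552, 0), (4564, 4), (4584, 0), (5443, 6), (5455, 2),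
    (5475, 6), (6330, 5), (6379, 5), (6382, 1)],
  [(997, 3), (1011, 1), (1324, 4), (1363, 6), (1891, 0), (1930, 2), (1969, 7), (1983, 5), (2296, 0), (2335, 2),
    (2617, 7), (2631, 5), (3832, 3), (3846, 1), (3916, 4), (3955, 6), (4564, 4), (4603, 6), (4966, 3), (4980, 1),
    (5209, 7), (5223, 5), (5617, 0), (5656, 2)],
  [(1146, 0), (1189, 0), (1282, 0), (1294, 0), (1768, 0), (1780, 0), (2037, 0), (2080, 0), (2289, 0), (2296, 0),
    (2878, 0), (2884, 0), (3171, 0), (3214, 0), (3388, 0), (3400, 0), (3850, 0), (3856, 0), (4314, 0), (4321, 0),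
    (4557, 0), (4564, 0), (4741, 0), (4747, 0), (5227, 0), (5233, 0), (5448, 0), (5455, 0), (6330, 0), (6373, 0),
    (6466, 0), (6478, 0)],
  [(984, 0), (1033, 0), (1036, 0), (1231, 0), (1243, 0), (1263, 0), (1717, 0), (1729, 0), (1749, 0), (1956, 0),
    (2005, 0), (2008, 0), (2284, 0), (2296, 0), (2316, 0), (2361, 0), (2410, 0), (2413, 0), (3337, 0), (3349, 0),
    (3369, 0), (3495, 0), (3544, 0), (3547, 0), (3981, 0), (4030, 0), (4033, 0), (4309, 0), (4321, 0), (4341, 0),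
    (4467, 0), (4516, 0), (4519, 0), (4552, 0), (4564, 0), (4584, 0), (5443, 0), (5455, 0), (5475, 0), (5763, 0),
    (5812, 0), (5815, 0), (6249, 0), (6298, 0), (6301, 0), (6415, 0), (6427, 0), (6447, 0)],
  [(984, 0), (1015, 0), (1021, 0), (1027, 0), (1317, 0), (1324, 0), (1363, 0), (1375, 0), (1884, 0), (1891, 0),
    (1930, 0), (1942, 0), (1956, 0), (1987, 0), (1993, 0), (1999, 0), (2289, 0), (2296, 0), (2335, 0), (2347, 0),
    (2604, 0), (2635, 0), (2641, 0), (2647, 0), (3819, 0), (3850, 0), (3856, 0), (3862, 0), (3909, 0), (3916, 0),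
    (3955, 0), (3967, 0), (4557, 0), (4564, 0), (4603, 0), (4615, 0), (4953, 0), (4984, 0), (4990, 0), (4996, 0),
    (5196, 0), (5227, 0), (5233, 0), (5239, 0), (5610, 0), (5617, 0), (5656, 0), (5668, 0)],
  [(984, 0), (1015, 0), (1021, 0), (1027, 0), (1236, 0), (1243, 0), (1282, 0), (1294, 0), (1722, 0), (1729, 0),
    (1768, 0), (1780, 0), (1956, 0), (1987, 0), (1993, 0), (1999, 0), (2289, 0), (2296, 0), (2335, 0), (2347, 0),
    (2361, 0), (2392, 0), (2398, 0), (2404, 0), (3342, 0), (3349, 0), (3388, 0), (3400, 0), (3495, 0), (3526, 0),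
    (3532, 0), (3538, 0), (3981, 0), (4012, 0), (4018, 0), (4024, 0), (4314, 0), (4321, 0), (4360, 0), (4372, 0),
    (4467, 0), (4498, 0), (4504, 0), (4510, 0), (4557, 0), (4564, 0), (4603, 0), (4615, 0), (5448, 0), (5455, 0),
    (5494, 0), (5506, 0), (5763, 0), (5794, 0), (5800, 0), (5806, 0), (6249, 0), (6280, 0), (6286, 0), (6292, 0),
    (6420, 0), (6427, 0), (6466, 0), (6478, 0)]]

/-- The coefficients. -/
def coef11 : List (List ℤ) := [
  [273, -806, 66, 142, 118, 118, 177, -192, 439, -67, -390, 410, 67, -192, 67, -177, -96, -64, 320, -96, -359,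
    -67, 112, 800, 96, 24, -80, -118, -48, -32, 52, -16, -40],
  [120, -384, 44, 63, 53, 53, 80, -80, 243, -40, -210, 218, 40, -80, 40, -80, -40, -26, 134, -40, -202, -40, 64,
    428, 40, 12, -40, -53, -20, -24, 26, -8, -16],
  [-272, 833, -89, -142, -118, -118, -177, 192, -487, 81, 429, -445, -81, 192, -81, 177, 96, 64, -320, 96, 405,
    81, -128, -874, -96, -24, 80, 118, 48, 48, -52, 16, 32],
  [105, -317, 33, 54, 45, 45, 67, -76, 183, -30, -161, 167, 30, -76, 30, -67, -38, -26, 126, -38, -152, -30, 48,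
    328, 38, 10, -30, -44, -19, -18, 20, -6, -12],
  [-229, 646, -44, -117, -96, -96, -144, 168, -319, 47, 292, -308, -47, 168, -47, 144, 84, 56, -280, 84, 259, 47,
    -80, -600, -84, -20, 60, 96, 42, 20, -40, 12, 32],
  [-29, 122, -33, -16, -13, -14, -20, 20, -108, 23, 90, -88, -23, 20, -23, 20, 10, 8, -34, 10, 95, 23, -32, -178,
    -10, -2, 10, 13, 5, 22, -6, 2, -4],
  [-501, 1508, -155, -259, -214, -214, -321, 360, -856, 141, 761, -789, -141, 360, -141, 321, 180, 120, -600,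
    180, 711, 141, -224, -1550, -180, -44, 140, 214, 90, 84, -92, 28, 56],
  [-15, 65, -10, -9, -9, -8, -13, 4, -57, 9, 45, -47, -9, 4, -9, 13, 2, 0, -6, 2, 47, 9, -16, -92, -2, -2, 10, 9,
    1, 6, -6, 2, 4],
  [0, -2, 1, 0, 0, 0, 0, 0, 4, -1, -3, 3, 1, 0, 1, 0, 0, 0, 0, 0, -3, -1, 0, 6, 0, 0, 0, 0, 0, 0, 0, 0, 0],
  [0, 0, 0, 0, 1, -1, 0, 0, 0, 0, 0, 0, 0, 0, 0, 0, 0, 2, -2, 0, 0, 0, 0, 0, 0, 0, 0, 0, 0, 0, 0, 0, 0],
  [-213, 615, -45, -110, -92, -92, -137, 152, -319, 48, 286, -302, -48, 152, -48, 137, 76, 52, -252, 76, 260, 48,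
    -80, -588, -76, -20, 60, 92, 38, 20, -40, 12, 32]]

/-- The classes of the elements of the subgroups, with the exponents. -/
def subClasses : List (List (ℕ × ℕ)) := [
  [(18, 0)],
  [(0, 0), (18, 0)],
  [(0, 0), (5, 0), (18, 0), (0, 0)],
  [(0, 0), (17, 0), (18, 0), (0, 0), (0, 0), (17, 0)],
  [(0, 0), (9, 0), (18, 0), (9, 0), (0, 0), (0, 0)],
  [(0, 0), (11, 0), (18, 0), (0, 0), (0, 0), (11, 0)],
  [(0, 0), (0, 0), (0, 0), (18, 0), (14, 0), (14, 0)],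
  [(9, 0), (12, 0), (18, 0), (9, 0), (19, 0), (12, 0)],
  [(0, 0), (15, 0), (15, 0), (0, 0), (18, 0), (0, 0), (0, 0), (19, 0)],
  [(0, 0), (0, 0), (0, 0), (0, 0), (7, 0), (18, 0), (7, 0), (19, 0)],
  [(0, 0), (5, 0), (18, 0), (3, 0), (3, 0), (0, 0), (5, 0), (5, 0)],
  [(0, 0), (5, 0), (18, 0), (0, 0), (5, 0), (4, 0), (4, 0), (5, 0)],
  [(1, 0), (1, 0), (18, 0), (1, 0), (15, 0), (19, 0), (15, 0), (1, 0)],
  [(1, 7), (1, 3), (18, 0), (1, 1), (15, 6), (19, 4), (15, 2), (1, 5)],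
  [(2, 0), (2, 0), (2, 0), (2, 0), (18, 0), (7, 0), (19, 0), (7, 0)],
  [(9, 0), (11, 0), (17, 0), (18, 0), (11, 0), (9, 0), (14, 0), (14, 0), (17, 0)],
  [(0, 0), (16, 0), (17, 0), (0, 0), (18, 0), (0, 0), (0, 0), (16, 0), (19, 0), (0, 0), (0, 0), (17, 0)],
  [(0, 0), (10, 0), (11, 0), (0, 0), (18, 0), (0, 0), (0, 0), (11, 0), (19, 0), (0, 0), (0, 0), (10, 0)],
  [(0, 0), (9, 0), (12, 0), (0, 0), (18, 0), (0, 0), (0, 0), (9, 0), (19, 0), (0, 0), (0, 0), (12, 0)],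
  [(0, 0), (0, 0), (0, 0), (0, 0), (0, 0), (0, 0), (13, 0), (18, 0), (13, 0), (14, 0), (19, 0), (14, 0)],
  [(0, 0), (15, 0), (15, 0), (0, 0), (18, 0), (0, 0), (15, 0), (1, 0), (1, 0), (15, 0), (0, 0), (19, 0),
    (15, 0), (1, 0), (1, 0), (15, 0)],
  [(0, 0), (0, 0), (5, 0), (5, 0), (5, 0), (5, 0), (0, 0), (0, 0), (7, 0), (18, 0), (2, 0), (2, 0),
    (2, 0), (2, 0), (7, 0), (19, 0)],
  [(1, 0), (1, 0), (1, 0), (1, 0), (7, 0), (18, 0), (1, 0), (1, 0), (5, 0), (15, 0), (7, 0), (19, 0),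
    (5, 0), (15, 0), (1, 0), (1, 0)],
  [(4, 4), (4, 6), (3, 0), (3, 2), (18, 0), (7, 6), (3, 6), (3, 0), (15, 6), (5, 4), (19, 4), (7, 2),
    (15, 2), (5, 0), (4, 2), (4, 4)],
  [(9, 0), (16, 0), (11, 0), (12, 0), (17, 0), (10, 0), (13, 0), (18, 0), (13, 0), (11, 0), (16, 0),
    (9, 0), (14, 0), (19, 0), (14, 0), (10, 0), (17, 0), (12, 0)],
  [(0, 0), (0, 0), (6, 0), (16, 0), (6, 0), (17, 0), (0, 0), (0, 0), (7, 0), (18, 0), (0, 0), (0, 0),
    (0, 0), (0, 0), (6, 0), (16, 0), (7, 0), (19, 0), (0, 0), (0, 0), (0, 0), (0, 0), (6, 0), (17, 0)],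
  [(0, 0), (0, 0), (0, 0), (8, 0), (15, 0), (8, 0), (8, 0), (15, 0), (8, 0), (0, 0), (0, 0), (0, 0),
    (13, 0), (18, 0), (13, 0), (0, 0), (0, 0), (0, 0), (0, 0), (0, 0), (0, 0), (14, 0), (19, 0), (14, 0)],
  [(1, 7), (1, 7), (1, 3), (1, 3), (1, 3), (1, 7), (13, 4), (18, 0), (13, 4), (1, 1), (1, 1), (1, 5),
    (8, 2), (15, 6), (8, 2), (14, 0), (19, 4), (14, 0), (8, 6), (15, 2), (8, 6), (1, 5), (1, 5), (1, 1)],
  [(2, 3), (2, 1), (16, 4), (6, 6), (17, 0), (6, 2), (2, 7), (2, 5), (18, 0), (7, 2), (2, 7), (2, 5),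
    (2, 3), (2, 1), (16, 4), (6, 6), (19, 4), (7, 6), (2, 3), (2, 1), (2, 7), (2, 5), (17, 0), (6, 2)],
  [(1, 0), (1, 0), (5, 0), (5, 0), (5, 0), (5, 0), (1, 0), (1, 0), (7, 0), (18, 0), (2, 0), (2, 0),
    (1, 0), (1, 0), (5, 0), (5, 0), (2, 0), (2, 0), (5, 0), (15, 0), (7, 0), (19, 0), (2, 0), (2, 0),
    (2, 0), (2, 0), (5, 0), (15, 0), (1, 0), (1, 0), (5, 0), (5, 0)],
  [(0, 0), (0, 0), (0, 0), (8, 0), (15, 0), (8, 0), (8, 0), (15, 0), (8, 0), (0, 0), (0, 0), (0, 0),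
    (13, 0), (18, 0), (13, 0), (0, 0), (0, 0), (0, 0), (8, 0), (15, 0), (8, 0), (1, 0), (1, 0), (1, 0),
    (1, 0), (1, 0), (1, 0), (8, 0), (15, 0), (8, 0), (0, 0), (0, 0), (0, 0), (14, 0), (19, 0), (14, 0),
    (8, 0), (15, 0), (8, 0), (1, 0), (1, 0), (1, 0), (1, 0), (1, 0), (1, 0), (8, 0), (15, 0), (8, 0)],
  [(0, 0), (2, 0), (2, 0), (0, 0), (6, 0), (16, 0), (6, 0), (6, 0), (6, 0), (17, 0), (6, 0), (6, 0),
    (0, 0), (2, 0), (2, 0), (0, 0), (7, 0), (18, 0), (7, 0), (7, 0), (0, 0), (2, 0), (2, 0), (0, 0),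
    (0, 0), (2, 0), (2, 0), (0, 0), (6, 0), (16, 0), (6, 0), (6, 0), (7, 0), (19, 0), (7, 0), (7, 0),
    (0, 0), (2, 0), (2, 0), (0, 0), (0, 0), (2, 0), (2, 0), (0, 0), (6, 0), (17, 0), (6, 0), (6, 0)],
  [(0, 0), (2, 0), (2, 0), (0, 0), (5, 0), (15, 0), (5, 0), (5, 0), (5, 0), (15, 0), (5, 0), (5, 0),
    (0, 0), (2, 0), (2, 0), (0, 0), (7, 0), (18, 0), (7, 0), (7, 0), (0, 0), (2, 0), (2, 0), (0, 0),
    (5, 0), (15, 0), (5, 0), (5, 0), (1, 0), (3, 0), (3, 0), (1, 0), (1, 0), (3, 0), (3, 0), (1, 0),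
    (5, 0), (15, 0), (5, 0), (5, 0), (0, 0), (2, 0), (2, 0), (0, 0), (7, 0), (19, 0), (7, 0), (7, 0),
    (5, 0), (15, 0), (5, 0), (5, 0), (1, 0), (4, 0), (4, 0), (1, 0), (1, 0), (4, 0), (4, 0), (1, 0),
    (5, 0), (15, 0), (5, 0), (5, 0)]]

end Cfsg.Agent.G23Two
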