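import Cfsg.Agent.Lib.G23Two.IotaModel
import Cfsg.Agent.Lib.G23Two.QM
import Cfsg.Agent.Lib.MonsterT.SLThree
import Mathlib.LinearAlgebra.Matrix.SpecialLinearGroup

/-!
The involution centraliser is the model, with all involutions fused.
-/

set_option autoImplicit false
set_option maxRecDepth 100000
set_option maxHeartbeats 1000000
set_option linter.style.haveILetI false
set_option linter.unusedSectionVars false

namespace Cfsg.Agent.G23Two

open Subgroup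

namespace Iota

attribute [local irreducible] nm mulP mulV invV lead swapP Outer bM vM aM kM zM qM wM jM bor LList Q6 Inv0 O4 M0List

theorem detM_check : ∀ u ∈ units, detV u = 1 → (toM u).det = 1 := by decide +kernel

theorem det_LM : ∀ x ∈ LList, detV x.1.2 = 1 := by decide +kernel

/-- The second factor is `SL(2,3)`. -/
theorem LM_equiv : Nonempty (LM ≃* Matrix.SpecialLinearGroup (Fin 2) (ZMod 3)) := by
  let f0 : LM → Matrix.SpecialLinearGroup (Fin 2) (ZMod 3) :=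
    fun x => ⟨toM x.1.1.2, detM_check _ x.1.2.2.1 (det_LM _ (mem_LList.2 x.2))⟩
  let f : LM →* Matrix.SpecialLinearGroup (Fin 2) (ZMod 3) := MonoidHom.mk' f0 fun x y => by
      apply Subtype.ext
      show toM (x.1 * y.1).1.2 = toM x.1.1.2 * toM y.1.1.2
      have hB : ∀ u : LM, Borel u.1 := fun u => Or.inl (by
        rw [LList_comm _ (mem_LList.2 u.2), mul_inv_cancel_right])
      rw [borel_mul (hB x) (hB y), toM_mul]
  have hinj : Function.Injective f := by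
    rw [← MonoidHom.ker_eq_bot_iff, eq_bot_iff]
    intro x hx
    have h : toM x.1.1.2 = 1 := congrArg
      (fun A : Matrix.SpecialLinearGroup (Fin 2) (ZMod 3) => (A : Matrix (Fin 2) (Fin 2) (ZMod 3)))
      (MonoidHom.mem_ker.1 hx)
    have h2 := toM_inj _ x.1.2.2.1 h
    refine mem_bot.2 (Subtype.ext (Subtype.ext (Prod.ext ?_ h2)))
    exact mem_LM.1 x.2
  have hsurj : Function.Surjective f := fun M => by
    have hdet : M.1 0 0 * M.1 1 1 - M.1 0 1 * M.1 1 0 = 1 := by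
      rw [← Matrix.det_fin_two]; exact M.2
    have hu := units_of_det (M.1 0 0) (M.1 0 1) (M.1 1 0) (M.1 1 1) (by rw [hdet]; decide)
    have hd1 : detV ((M.1 0 0).val, (M.1 0 1).val, (M.1 1 0).val, (M.1 1 1).val) = 1 := by
      have key : ∀ a b c d : ZMod 3, a * d - b * c = 1 → detV (a.val, b.val, c.val, d.val) = 1 := by
        decide +kernel
      exact key _ _ _ _ hdet
    have hx : OK (oneV, ((M.1 0 0).val, (M.1 0 1).val, (M.1 1 0).val, (M.1 1 1).val)) :=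
      ⟨one_mem_units.1, hu, hd1.symm ▸ one_mem_units.2.1, one_mem_units.2.2⟩
    refine ⟨⟨⟨_, hx⟩, rfl⟩, Subtype.ext ?_⟩
    show toM _ = M.1
    ext i j
    fin_cases i <;> fin_cases j <;> simp [toM]
  exact ⟨MulEquiv.ofBijective f ⟨hinj, hsurj⟩⟩

/-- A subgroup containing the two generators contains the second factor. -/
theorem LM_le {K : Subgroup Mod} (hb : bM ∈ K) (hv : vM ∈ K) : LM ≤ K := by
  intro x hx
  obtain ⟨i, j, k, l, e⟩ := gen_check x (mem_LList.2 hx)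
  rw [e]
  exact mul_mem (mul_mem (pow_mem hb _) (pow_mem hv _)) (mul_mem (pow_mem hb _) (pow_mem hv _))

theorem bM_mem : bM ∈ LM := mem_LList.1 bM_facts.1

theorem vM_mem : vM ∈ LM := mem_LList.1 vM_facts.1

theorem zM_mem : zM ∈ LM := mem_LList.1 model_basic.2.2.2.2.2.2.1

theorem LM_ext {N : Type*} [Group N] {f g : LM →* N} (hb : f ⟨bM, bM_mem⟩ = g ⟨bM, bM_mem⟩)
    (hv : f ⟨vM, vM_mem⟩ = g ⟨vM, vM_mem⟩) : f = g := by
  refine MonoidHom.ext fun x => ?_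
  have hK := LM_le (K := (f.eqLocus g).map LM.subtype) (mem_map.2 ⟨_, hb, rfl⟩) (mem_map.2 ⟨_, hv, rfl⟩)
    x.2
  obtain ⟨y, hy, e⟩ := mem_map.1 hK
  rw [← LM.subtype_injective e]
  exact hy

/-- Conjugation by a normalising element. -/
noncomputable def conjL (g : Mod) (hg : g ∈ bor) : LM →* LM where
  toFun l := ⟨g * l * g⁻¹, mem_LList.1 ((bor_facts.1 g hg l.1 (mem_LList.2 l.2)).1)⟩
  map_one' := Subtype.ext (by simp)
  map_mul' l m := Subtype.ext (show g * ((l : Mod) * m) * g⁻¹ = g * l * g⁻¹ * (g * m * g⁻¹) by group)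

/-- Conjugation by the outer involution. -/
noncomputable def sig : LM →* LM := conjL kM bor_facts.2.2

theorem kM_inv : kM⁻¹ = kM := inv_eq_of_mul_eq_one_left model_basic.2.2.2.2.1

variable {G : Type*} [Group G]

/-- The product map of two commuting factors. -/
theorem exists_half (ψ₁ ψ₂ : LM →* G) (hc : ∀ l m, Commute (ψ₁ l) (ψ₂ m))
    (hz : ψ₁ ⟨zM, zM_mem⟩ = ψ₂ ⟨zM, zM_mem⟩) (hz2 : ψ₁ ⟨zM, zM_mem⟩ * ψ₁ ⟨zM, zM_mem⟩ = 1)
    (hinj₁ : Function.Injective ψ₁) (hinj₂ : Function.Injective ψ₂)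
    (hint : ∀ l m, ψ₁ l = ψ₂ m → l = 1 ∨ (l : Mod) = zM) :
    ∃ φ₀ : M0 →* G, Function.Injective φ₀ ∧
      ∀ (l m : LM) (h : swapM (l : Mod) * m ∈ M0), φ₀ ⟨swapM (l : Mod) * m, h⟩ = ψ₁ l * ψ₂ m := by
  have hdec : ∀ x : M0, ∃ p : LM × LM, swapM (p.1 : Mod) * p.2 = x := fun x => by
    obtain ⟨m, hm, hl⟩ := decomp_check x.1 (mem_M0List.2 x.2)
    refine ⟨(⟨_, mem_LList.1 hl⟩, ⟨m, mem_LList.1 hm⟩), ?_⟩
    have h2 : ∀ y, swapM (swapM y) = y := fun y => swapM.left_inv y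
    show swapM (swapM ((x : Mod) * m⁻¹)) * m = x
    rw [h2, inv_mul_cancel_right]
  have hwd : ∀ l m l' m' : LM, swapM (l : Mod) * m = swapM (l' : Mod) * m' →
      ψ₁ l * ψ₂ m = ψ₁ l' * ψ₂ m' := by
    intro l m l' m' h
    have h1 : swapM ((l'⁻¹ * l : LM) : Mod) * ((m * m'⁻¹ : LM) : Mod) = 1 := by
      show swapM ((l' : Mod)⁻¹ * l) * ((m : Mod) * (m' : Mod)⁻¹) = 1
      rw [map_mul, map_inv, mul_assoc, ← mul_assoc (swapM (l : Mod)), h, mul_assoc (swapM (l' : Mod)),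
        mul_inv_cancel, mul_one, inv_mul_cancel]
    rcases swap_kernel _ (mem_LList.2 (l'⁻¹ * l).2) _ (mem_LList.2 (m * m'⁻¹).2) h1 with ⟨e1, e2⟩ | ⟨e1, e2⟩
    · have e1' : l'⁻¹ * l = 1 := Subtype.ext e1
      have e2' : m * m'⁻¹ = 1 := Subtype.ext e2
      rw [inv_mul_eq_one] at e1'
      rw [mul_inv_eq_one] at e2'
      rw [e1', e2']
    · have e1' : l'⁻¹ * l = ⟨zM, zM_mem⟩ := Subtype.ext e1
      have e2' : m * m'⁻¹ = ⟨zM, zM_mem⟩ := Subtype.ext e2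
      rw [inv_mul_eq_iff_eq_mul] at e1'
      rw [mul_inv_eq_iff_eq_mul] at e2'
      rw [e1', e2', map_mul, map_mul, mul_assoc, ← mul_assoc (ψ₁ ⟨zM, zM_mem⟩), ← hz, hz2, one_mul]
  let φ : M0 → G := fun x => ψ₁ (Classical.choose (hdec x)).1 * ψ₂ (Classical.choose (hdec x)).2
  have hφ : ∀ (l m : LM) (h : swapM (l : Mod) * m ∈ M0), φ ⟨swapM (l : Mod) * m, h⟩ = ψ₁ l * ψ₂ m :=
    fun l m h => hwd _ _ _ _ (Classical.choose_spec (hdec ⟨swapM (l : Mod) * m, h⟩))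
  have hmul : ∀ x y : M0, φ (x * y) = φ x * φ y := by
    intro x y
    obtain ⟨⟨l, m⟩, hx⟩ := hdec x
    obtain ⟨⟨l', m'⟩, hy⟩ := hdec y
    have hcm := (swap_commute _ (mem_LList.2 l'.2) _ (mem_LList.2 m.2)).1
    have e : ((x * y : M0) : Mod) = swapM ((l * l' : LM) : Mod) * ((m * m' : LM) : Mod) := by
      show (x : Mod) * y = swapM ((l : Mod) * l') * ((m : Mod) * m')
      rw [← hx, ← hy, map_mul]
      dsimp only
      simp only [mul_assoc]
      rw [← mul_assoc (m : Mod), ← hcm]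
      simp only [mul_assoc]
    have h1 : ∀ (u : M0) (p q : LM), (u : Mod) = swapM (p : Mod) * q → φ u = ψ₁ p * ψ₂ q := fun u p q hu =>
      hwd _ _ _ _ ((Classical.choose_spec (hdec u)).trans hu)
    rw [h1 _ _ _ e, h1 _ _ _ hx.symm, h1 _ _ _ hy.symm, map_mul, map_mul]
    dsimp only
    simp only [mul_assoc]
    rw [← mul_assoc (ψ₂ m), ← (hc l' m).eq]
    simp only [mul_assoc]
  refine ⟨MonoidHom.mk' φ hmul, ?_, hφ⟩
  rw [← MonoidHom.ker_eq_bot_iff, eq_bot_iff]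
  intro x hx
  obtain ⟨⟨l, m⟩, hxe⟩ := hdec x
  have h : ψ₁ l * ψ₂ m = 1 :=
    (hwd _ _ _ _ ((Classical.choose_spec (hdec x)).trans hxe.symm)).symm.trans hx
  refine mem_bot.2 (Subtype.ext ?_)
  show (x : Mod) = 1
  rw [← hxe]
  dsimp only at h ⊢
  have h' : ψ₁ l = ψ₂ m⁻¹ := by rw [map_inv]; exact eq_inv_of_mul_eq_one_left h
  rcases hint l m⁻¹ h' with e | e
  · rw [e, map_one, one_mul] at h
    rw [e, hinj₂ (h.trans (map_one ψ₂).symm)]
    simp
  · have hl : l = ⟨zM, zM_mem⟩ := Subtype.ext e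
    rw [hl, hz, ← map_mul] at h
    have h2 := congrArg Subtype.val (hinj₂ (h.trans (map_one ψ₂).symm))
    rw [hl]
    show swapM zM * (m : Mod) = 1
    rw [swap_values.1]
    exact h2

/-- The extension by an outer involution. -/
theorem exists_ext (ψ₁ ψ₂ : LM →* G) (φ₀ : M0 →* G) (hinj : Function.Injective φ₀)
    (hφ : ∀ (l m : LM) (h : swapM (l : Mod) * m ∈ M0), φ₀ ⟨swapM (l : Mod) * m, h⟩ = ψ₁ l * ψ₂ m)
    (p : G) (hp2 : p * p = 1) (hp : ∀ x : M0, φ₀ x ≠ p)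
    (h₁ : ∀ l, p * ψ₁ l * p = ψ₁ (sig l)) (h₂ : ∀ l, p * ψ₂ l * p = ψ₂ (sig l)) :
    ∃ φ : Mod →* G, Function.Injective φ ∧ (∀ x : M0, φ x = φ₀ x) ∧ φ kM = p := by
  have hk2 : kM * kM = 1 := model_basic.2.2.2.2.1
  have hkout : Outer kM := outer_kM.1
  have hkx : ∀ x, Outer x → x * kM ∈ M0 := fun x hx => mem_M0.2 (mem_M0List.1
    (of_decide_eq_true (List.all_eq_true.1 outer_check x (mem_allMod x)) hx))
  have hconj : ∀ (x : M0) (h : kM * (x : Mod) * kM ∈ M0), φ₀ ⟨kM * (x : Mod) * kM, h⟩ = p * φ₀ x * p := by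
    rintro ⟨x, hx⟩ h
    obtain ⟨m, hm, hl⟩ := decomp_check x (mem_M0List.2 hx)
    have e : swapM (swapM (x * m⁻¹)) * m = x := by
      rw [show swapM (swapM (x * m⁻¹)) = x * m⁻¹ from swapM.left_inv _, inv_mul_cancel_right]
    have hsig : ∀ l : LM, ((sig l : LM) : Mod) = kM * l * kM := fun l => by
      show kM * (l : Mod) * kM⁻¹ = _
      rw [kM_inv]
    set lL : LM := ⟨_, mem_LList.1 hl⟩
    set mL : LM := ⟨m, mem_LList.1 hm⟩
    have e2 : kM * x * kM = swapM ((sig lL : LM) : Mod) * ((sig mL : LM) : Mod) := by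
      rw [hsig, hsig, map_mul, map_mul, swap_values.2.2.2]
      conv_lhs => rw [← e]
      show kM * (swapM (swapM (x * m⁻¹)) * m) * kM =
        kM * swapM (swapM (x * m⁻¹)) * kM * (kM * m * kM)
      exact Para.conj2_mul hk2 _ _
    have h' : swapM ((sig lL : LM) : Mod) * ((sig mL : LM) : Mod) ∈ M0 := e2 ▸ h
    rw [show (⟨kM * x * kM, h⟩ : M0) = ⟨_, h'⟩ from Subtype.ext e2, hφ,
      show (⟨x, hx⟩ : M0) = ⟨swapM (lL : Mod) * (mL : Mod), e.symm ▸ hx⟩ from Subtype.ext e.symm, hφ,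
      Para.conj2_mul hp2, h₁, h₂]
  have hM0k : ∀ x ∈ M0, kM * x * kM ∈ M0 := fun x hx h => by
    rw [outer_mul_iff, outer_mul_iff] at h
    exact mem_M0.1 hx (by tauto)
  let f : Mod → G := fun x => if h : Outer x then φ₀ ⟨x * kM, hkx x h⟩ * p else φ₀ ⟨x, h⟩
  have f0 : ∀ x : M0, f x = φ₀ x := fun x => dif_neg x.2
  have f1 : ∀ (x : M0) (y : Mod), y = (x : Mod) * kM → f y = φ₀ x * p := fun x y e => by
    have ho : Outer y := by
      rw [e, outer_mul_iff]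
      exact ⟨fun h => absurd h x.2, fun h => absurd hkout h⟩
    show (if h : Outer y then φ₀ ⟨y * kM, hkx y h⟩ * p else φ₀ ⟨y, h⟩) = _
    rw [dif_pos ho]
    congr 2
    exact Subtype.ext (show y * kM = (x : Mod) by rw [e, mul_assoc, hk2, mul_one])
  have hcases : ∀ x : Mod, (∃ u : M0, x = u) ∨ ∃ u : M0, x = (u : Mod) * kM := fun x => by
    by_cases h : Outer x
    · exact Or.inr ⟨⟨_, hkx x h⟩, by rw [mul_assoc, hk2, mul_one]⟩
    · exact Or.inl ⟨⟨x, h⟩, rfl⟩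
  have hmul : ∀ x y, f (x * y) = f x * f y := by
    intro x y
    rcases hcases x with ⟨u, rfl⟩ | ⟨u, rfl⟩ <;> rcases hcases y with ⟨v, rfl⟩ | ⟨v, rfl⟩
    · rw [← Subgroup.coe_mul, f0, f0, f0, map_mul]
    · rw [f0, f1 v _ rfl, f1 (u * v) _ (by rw [Subgroup.coe_mul, mul_assoc]), map_mul, mul_assoc]
    · rw [f0, f1 u _ rfl, f1 (u * ⟨kM * (v : Mod) * kM, hM0k _ v.2⟩) _ (by
          rw [Subgroup.coe_mul]
          simp only [mul_assoc, hk2, mul_one]), map_mul, hconj]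
      simp only [mul_assoc, hp2, mul_one]
    · rw [f1 u _ rfl, f1 v _ rfl,
        show (u : Mod) * kM * ((v : Mod) * kM) = ((u * ⟨kM * (v : Mod) * kM, hM0k _ v.2⟩ : M0) : Mod) by
          rw [Subgroup.coe_mul]; simp only [mul_assoc], f0, map_mul, hconj]
      simp only [mul_assoc]
  refine ⟨MonoidHom.mk' f hmul, ?_, f0, ?_⟩
  · rw [← MonoidHom.ker_eq_bot_iff, eq_bot_iff]
    intro x hx
    have hx' : f x = 1 := hx
    rcases hcases x with ⟨u, rfl⟩ | ⟨u, rfl⟩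
    · rw [f0] at hx'
      rw [hinj (hx'.trans (map_one φ₀).symm)]
      simp
    · rw [f1 u _ rfl] at hx'
      exfalso
      refine hp u⁻¹ ?_
      rw [map_inv]
      exact inv_eq_of_mul_eq_one_right hx'
  · show f kM = p
    rw [f1 1 kM (by simp), map_one, one_mul]

variable [Finite G]

/-- A pair of elements of the second factor read in a group. -/
theorem exists_aut (ψ : LM →* G) (hψ : Function.Injective ψ) (h : G)
    (hconj : ∀ l : LM, ∃ m : LM, ψ m = h * ψ l * h⁻¹) :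
    ∃ g, ∃ hg : g ∈ bor, ∀ l : LM, h * ψ l * h⁻¹ = ψ (conjL g hg l) := by
  obtain ⟨x, hx⟩ := hconj ⟨bM, bM_mem⟩
  obtain ⟨y, hy⟩ := hconj ⟨vM, vM_mem⟩
  have tr : ∀ {u : LM}, u = 1 → (u : Mod) = 1 := fun e => by rw [e]; rfl
  have hb3 : (⟨bM, bM_mem⟩ : LM) ^ 3 = 1 := Subtype.ext bM_facts.2.1
  have hv3 : (⟨vM, vM_mem⟩ : LM) ^ 3 = 1 := Subtype.ext vM_facts.2.1
  obtain ⟨g, hg, e1, e2⟩ := aut_check x (mem_LList.2 x.2) y (mem_LList.2 y.2)
    (fun e => by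
      have : x = 1 := Subtype.ext e
      rw [this, map_one] at hx
      have h1 : ψ ⟨bM, bM_mem⟩ = 1 := conj_eq_one_iff.1 hx.symm
      exact bM_facts.2.2.1 (tr (hψ (h1.trans (map_one ψ).symm))))
    (tr (hψ (by rw [map_pow, hx, conj_pow, ← map_pow, hb3]; simp) : x ^ 3 = 1))
    (tr (hψ (by rw [map_pow, hy, conj_pow, ← map_pow, hv3]; simp) : y ^ 3 = 1))
    (by
      have e : (x * y) * (x * y) = (⟨zM, zM_mem⟩ : LM) := hψ (by
        have hz : (⟨bM, bM_mem⟩ : LM) * ⟨vM, vM_mem⟩ * (⟨bM, bM_mem⟩ * ⟨vM, vM_mem⟩) = ⟨zM, zM_mem⟩ :=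
          Subtype.ext aut_pair
        have hzc : ∀ l : LM, l * (⟨zM, zM_mem⟩ : LM) = ⟨zM, zM_mem⟩ * l := fun l =>
          Subtype.ext (zM_comm _).symm
        obtain ⟨w, hw⟩ := hconj ⟨zM, zM_mem⟩
        have hwz : (w : Mod) = zM := by
          have c : ∀ l : LM, w * l = l * w := by
            intro l
            apply hψ
            obtain ⟨l', hl'⟩ : ∃ l', h * ψ l' * h⁻¹ = ψ l := by
              have hinj' : Function.Injective fun l : LM => Classical.choose (hconj l) := by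
                intro a b hab
                have ha := Classical.choose_spec (hconj a)
                have hb := Classical.choose_spec (hconj b)
                rw [show Classical.choose (hconj a) = Classical.choose (hconj b) from hab, hb] at ha
                exact hψ (mul_left_cancel (mul_right_cancel ha)).symm
              obtain ⟨l', e⟩ := Finite.surjective_of_injective hinj' l
              exact ⟨l', (Classical.choose_spec (hconj l')).symm.trans (congrArg ψ e)⟩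
            rw [map_mul, map_mul, hw, ← hl']
            calc h * ψ ⟨zM, zM_mem⟩ * h⁻¹ * (h * ψ l' * h⁻¹) = h * ψ (⟨zM, zM_mem⟩ * l') * h⁻¹ := by
                  rw [map_mul]; group
              _ = h * ψ (l' * ⟨zM, zM_mem⟩) * h⁻¹ := by rw [hzc]
              _ = _ := by rw [map_mul]; group
          rcases center_check w (mem_LList.2 w.2) (congrArg Subtype.val (c ⟨bM, bM_mem⟩))
            (congrArg Subtype.val (c ⟨vM, vM_mem⟩)) with e | e
          · exfalso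
            have : w = 1 := Subtype.ext e
            rw [this, map_one] at hw
            exact model_basic.2.1 (tr (hψ ((conj_eq_one_iff.1 hw.symm).trans (map_one ψ).symm)))
          · exact e
        rw [show (⟨zM, zM_mem⟩ : LM) = w from (Subtype.ext hwz).symm, hw, map_mul, map_mul, hx, hy, ← hz,
          map_mul, map_mul]
        group)
      exact congrArg Subtype.val e)
  refine ⟨g, hg, fun l => ?_⟩
  have e : ((MulAut.conj h).toMonoidHom.comp ψ) = ψ.comp (conjL g hg) := LM_ext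
    (by show h * ψ _ * h⁻¹ = ψ _; rw [← hx]; exact congrArg ψ (Subtype.ext e1.symm))
    (by show h * ψ _ * h⁻¹ = ψ _; rw [← hy]; exact congrArg ψ (Subtype.ext e2.symm))
  exact DFunLike.congr_fun e l

/-- An outer automorphism of order two of the second factor is conjugate to that of `kM`. -/
theorem exists_adjust (ψ : LM →* G) (hψ : Function.Injective ψ) (p : G) (hp : p * p = 1) (g : Mod)
    (hg : g ∈ bor) (hout : Outer g) (hconj : ∀ l, p * ψ l * p = ψ (conjL g hg l)) :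
    ∃ c, ∃ hc : c ∈ bor, ∀ l, p * ψ (conjL c hc l) * p = ψ (conjL c hc (sig l)) := by
  have hsq : ∀ l : LM, g * g * (l : Mod) = l * (g * g) := fun l => by
    have e : conjL g hg (conjL g hg l) = l := hψ (by rw [← hconj, ← hconj, Para.conj2_conj2 hp])
    have e' : g * (g * (l : Mod) * g⁻¹) * g⁻¹ = l := congrArg Subtype.val e
    calc g * g * (l : Mod) = g * (g * l * g⁻¹) * g⁻¹ * (g * g) := by group
      _ = l * (g * g) := by rw [e']
  obtain ⟨c, hc, e1, e2⟩ := outer_sq_check g hg hout (hsq ⟨bM, bM_mem⟩) (hsq ⟨vM, vM_mem⟩)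
  refine ⟨c, hc, fun l => ?_⟩
  have key : ∀ y : LM, ((conjL g hg y : LM) : Mod) = c * (kM * (c⁻¹ * y * c) * kM) * c⁻¹ := by
    intro y
    have e : (MulAut.conj g).toMonoidHom.comp LM.subtype =
        (MulAut.conj (c * kM * c⁻¹)).toMonoidHom.comp LM.subtype := LM_ext
      (by
        show g * bM * g⁻¹ = c * kM * c⁻¹ * bM * (c * kM * c⁻¹)⁻¹
        rw [← e1, mul_inv_rev, mul_inv_rev, kM_inv, inv_inv]; group)
      (by
        show g * vM * g⁻¹ = c * kM * c⁻¹ * vM * (c * kM * c⁻¹)⁻¹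
        rw [← e2, mul_inv_rev, mul_inv_rev, kM_inv, inv_inv]; group)
    have h := DFunLike.congr_fun e y
    refine h.trans ?_
    show c * kM * c⁻¹ * (y : Mod) * (c * kM * c⁻¹)⁻¹ = _
    rw [mul_inv_rev, mul_inv_rev, kM_inv, inv_inv]; group
  rw [hconj]
  refine congrArg ψ (Subtype.ext ?_)
  rw [key]
  show c * (kM * (c⁻¹ * (c * (l : Mod) * c⁻¹) * c) * kM) * c⁻¹ = c * (kM * (l : Mod) * kM⁻¹) * c⁻¹
  rw [kM_inv]; group

variable (H H₁ H₂ M : Subgroup G)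

/-- The eight elements of an elementary abelian group of order eight. -/
theorem span8 {E : Type*} [CommGroup E] [Fintype E] (hc : Fintype.card E = 8) (sq : ∀ u : E, u * u = 1)
    (z x y : E) (hz : z ≠ 1) (hx : x ≠ 1) (hxz : x ≠ z) (y1 : y ≠ 1) (yz : y ≠ z) (yx : y ≠ x)
    (yzx : y ≠ z * x) (u : E) : u = 1 ∨ u = z ∨ u = x ∨ u = z * x ∨ u = y ∨ u = z * y ∨ u = x * y ∨
      u = z * (x * y) := by
  classical
  let F : Finset E := {1, z, x, z * x}
  have hF4 : F.card = 4 := by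
    have n1 : z * x ≠ 1 := fun h => hxz (mul_left_cancel (h.trans (sq z).symm))
    have n2 : z ≠ z * x := fun h => hx (mul_left_cancel ((mul_one z).trans h)).symm
    have n3 : x ≠ z * x := fun h => hz (mul_right_cancel ((one_mul x).trans h)).symm
    rw [show F = insert 1 (insert z (insert x {z * x})) from rfl,
      Finset.card_insert_of_notMem (by simp [hz.symm, hx.symm, n1.symm]),
      Finset.card_insert_of_notMem (by simp [hxz.symm, n2]),
      Finset.card_insert_of_notMem (by simp [n3]), Finset.card_singleton]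
  have hzx : ∀ v : E, z * (z * v) = v := fun v => by rw [← mul_assoc, sq, one_mul]
  have hxx : ∀ v : E, x * (x * v) = v := fun v => by rw [← mul_assoc, sq, one_mul]
  have closed : ∀ a ∈ F, ∀ b ∈ F, a * b ∈ F := by
    intro a ha b hb
    simp only [F, Finset.mem_insert, Finset.mem_singleton] at ha hb ⊢
    rcases ha with rfl | rfl | rfl | rfl <;> rcases hb with rfl | rfl | rfl | rfl <;>
      simp [mul_comm, mul_left_comm, sq, hzx, hxx]
  have hyF : y ∉ F := by simp [F, y1, yz, yx, yzx]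
  have hdisj : Disjoint F (F.image (y * ·)) := by
    rw [Finset.disjoint_left]
    intro a ha ha'
    obtain ⟨b, hb, rfl⟩ := Finset.mem_image.1 ha'
    refine hyF ?_
    have := closed _ ha b hb
    rwa [mul_assoc, sq, mul_one] at this
  have huniv : F ∪ F.image (y * ·) = Finset.univ := Finset.eq_univ_of_card _ (by
    rw [Finset.card_union_of_disjoint hdisj, Finset.card_image_of_injective _ (mul_right_injective y),
      hF4, hc])
  have := huniv.ge (Finset.mem_univ u)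
  simp only [F, Finset.mem_union, Finset.mem_image, Finset.mem_insert, Finset.mem_singleton] at this
  rcases this with h | ⟨b, hb, rfl⟩
  · tauto
  · rcases hb with rfl | rfl | rfl | rfl
    · simp
    · exact Or.inr (Or.inr (Or.inr (Or.inr (Or.inr (Or.inl (mul_comm _ _))))))
    · exact Or.inr (Or.inr (Or.inr (Or.inr (Or.inr (Or.inr (Or.inl (mul_comm _ _)))))))
    · exact Or.inr (Or.inr (Or.inr (Or.inr (Or.inr (Or.inr (Or.inr (by rw [mul_comm, mul_assoc])))))))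

/-- The two factors, read through the model. -/
theorem exists_factors (h1 : H₁ ≤ H) (h2 : H₂ ≤ H) (hn1 : (H₁.subgroupOf H).Normal)
    (hn2 : (H₂.subgroupOf H).Normal)
    (hiso1 : Nonempty (↥H₁ ≃* Matrix.SpecialLinearGroup (Fin 2) (ZMod 3)))
    (hiso2 : Nonempty (↥H₂ ≃* Matrix.SpecialLinearGroup (Fin 2) (ZMod 3)))
    (hint1 : H₁ ⊓ H₂ = H₁ ⊓ centralizer (H₁ : Set G)) (hint2 : H₁ ⊓ H₂ = H₂ ⊓ centralizer (H₂ : Set G)) :
    ∃ (ψ₁ ψ₂ : LM →* G) (z : G), Function.Injective ψ₁ ∧ Function.Injective ψ₂ ∧ ψ₁.range = H₁ ∧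
      ψ₂.range = H₂ ∧ ψ₁ ⟨zM, zM_mem⟩ = z ∧ ψ₂ ⟨zM, zM_mem⟩ = z ∧ z ≠ 1 ∧ z * z = 1 ∧
      (∀ u, u ∈ H₁ ⊓ H₂ ↔ u = 1 ∨ u = z) ∧ ∀ l m, Commute (ψ₁ l) (ψ₂ m) := by
  obtain ⟨e0⟩ := LM_equiv
  obtain ⟨e1⟩ := hiso1
  obtain ⟨e2⟩ := hiso2
  set ψ₁ : LM →* G := H₁.subtype.comp (e0.trans e1.symm).toMonoidHom with hψ₁
  set ψ₂ : LM →* G := H₂.subtype.comp (e0.trans e2.symm).toMonoidHom with hψ₂
  have i1 : Function.Injective ψ₁ := H₁.subtype_injective.comp (e0.trans e1.symm).injective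
  have i2 : Function.Injective ψ₂ := H₂.subtype_injective.comp (e0.trans e2.symm).injective
  have r1 : ψ₁.range = H₁ := by
    rw [hψ₁, MonoidHom.range_comp, MonoidHom.range_eq_top.2 (e0.trans e1.symm).surjective,
      ← MonoidHom.range_eq_map, Subgroup.range_subtype]
  have r2 : ψ₂.range = H₂ := by
    rw [hψ₂, MonoidHom.range_comp, MonoidHom.range_eq_top.2 (e0.trans e2.symm).surjective,
      ← MonoidHom.range_eq_map, Subgroup.range_subtype]
  set zL : LM := ⟨zM, zM_mem⟩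
  have hcen : ∀ (ψ : LM →* G) (K : Subgroup G), Function.Injective ψ → ψ.range = K →
      ∀ u, u ∈ K ⊓ centralizer (K : Set G) ↔ u = 1 ∨ u = ψ zL := by
    intro ψ K hi hr u
    constructor
    · rintro ⟨hu, hc⟩
      obtain ⟨l, rfl⟩ := MonoidHom.mem_range.1 (hr ▸ hu)
      have hl : ∀ m, l * m = m * l := fun m => hi (by
        rw [map_mul, map_mul]
        exact (mem_centralizer_iff.1 hc _ (show ψ m ∈ K from hr ▸ ⟨m, rfl⟩)).symm)
      rcases center_check l (mem_LList.2 l.2) (congrArg Subtype.val (hl ⟨bM, bM_mem⟩))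
        (congrArg Subtype.val (hl ⟨vM, vM_mem⟩)) with e | e
      · exact Or.inl (by rw [show l = 1 from Subtype.ext e, map_one])
      · exact Or.inr (congrArg ψ (Subtype.ext e))
    · rintro (rfl | rfl)
      · exact one_mem _
      · refine mem_inf.2 ⟨hr ▸ ⟨_, rfl⟩, mem_centralizer_iff.2 fun v hv => ?_⟩
        obtain ⟨m, rfl⟩ := MonoidHom.mem_range.1 (show v ∈ ψ.range from hr ▸ hv)
        rw [← map_mul, ← map_mul]
        exact congrArg ψ (Subtype.ext (zM_comm _).symm)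
  have hz1 : ψ₁ zL ≠ 1 := fun h => model_basic.2.1 (congrArg Subtype.val (i1 (h.trans (map_one ψ₁).symm)))
  have hz2 : ψ₂ zL ≠ 1 := fun h => model_basic.2.1 (congrArg Subtype.val (i2 (h.trans (map_one ψ₂).symm)))
  have hI : ∀ u, u ∈ H₁ ⊓ H₂ ↔ u = 1 ∨ u = ψ₁ zL := fun u => by rw [hint1]; exact hcen ψ₁ H₁ i1 r1 u
  have hzz : ψ₂ zL = ψ₁ zL := by
    have : ψ₂ zL ∈ H₁ ⊓ H₂ := by rw [hint2]; exact (hcen ψ₂ H₂ i2 r2 _).2 (Or.inr rfl)
    exact ((hI _).1 this).resolve_left hz2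
  have hzsq : ψ₁ zL * ψ₁ zL = 1 := by
    rw [← map_mul, show zL * zL = 1 from Subtype.ext model_basic.1, map_one]
  refine ⟨ψ₁, ψ₂, ψ₁ zL, i1, i2, r1, r2, rfl, hzz, hz1, hzsq, hI, ?_⟩
  have hcomm : ∀ l m, ψ₁ l * ψ₂ m * (ψ₁ l)⁻¹ * (ψ₂ m)⁻¹ ∈ H₁ ⊓ H₂ := by
    intro l m
    have a1 : ψ₁ l ∈ H₁ := r1 ▸ ⟨l, rfl⟩
    have a2 : ψ₂ m ∈ H₂ := r2 ▸ ⟨m, rfl⟩
    refine mem_inf.2 ⟨?_, ?_⟩
    · rw [show ψ₁ l * ψ₂ m * (ψ₁ l)⁻¹ * (ψ₂ m)⁻¹ = ψ₁ l * (ψ₂ m * (ψ₁ l)⁻¹ * (ψ₂ m)⁻¹) by group]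
      exact mul_mem a1 (mem_subgroupOf.1 (hn1.conj_mem ⟨_, h1 (inv_mem a1)⟩
        (mem_subgroupOf.2 (inv_mem a1)) ⟨_, h2 a2⟩))
    · exact mul_mem (mem_subgroupOf.1 (hn2.conj_mem ⟨_, h2 a2⟩ (mem_subgroupOf.2 a2) ⟨_, h1 a1⟩))
        (inv_mem a2)
  have hzcent : ∀ l, Commute (ψ₁ l) (ψ₁ zL) := fun l => by
    show ψ₁ l * ψ₁ zL = ψ₁ zL * ψ₁ l
    rw [← map_mul, ← map_mul]; exact congrArg ψ₁ (Subtype.ext (zM_comm _).symm)
  have key : ∀ l : LM, (l : Mod) ^ 3 = 1 → ∀ m, Commute (ψ₁ l) (ψ₂ m) := by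
    intro l hl m
    rcases (hI _).1 (hcomm l m) with e | e
    · exact mul_inv_eq_iff_eq_mul.1 (mul_inv_eq_one.1 e)
    · exfalso
      have h3 : ψ₁ l ^ 3 = 1 := by rw [← map_pow, show l ^ 3 = 1 from Subtype.ext hl, map_one]
      have e1 : ψ₂ m * ψ₁ l * (ψ₂ m)⁻¹ = ψ₁ l * ψ₁ zL := by
        have e2 : ψ₂ m * (ψ₁ l)⁻¹ * (ψ₂ m)⁻¹ = (ψ₁ l)⁻¹ * ψ₁ zL := by rw [← e]; group
        calc ψ₂ m * ψ₁ l * (ψ₂ m)⁻¹ = (ψ₂ m * (ψ₁ l)⁻¹ * (ψ₂ m)⁻¹)⁻¹ := by group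
          _ = ψ₁ l * ψ₁ zL := by
            rw [e2, mul_inv_rev, inv_inv, inv_eq_of_mul_eq_one_left hzsq, (hzcent l).eq]
      have h4 := conj_pow (a := ψ₂ m) (b := ψ₁ l) (i := 3)
      rw [e1, (hzcent l).mul_pow, h3, one_mul, pow_succ, pow_two, hzsq, one_mul] at h4
      simp at h4
      exact hz1 h4
  intro l m
  have hK := LM_le (K := ((centralizer {ψ₂ m}).comap ψ₁).map LM.subtype)
    (mem_map.2 ⟨⟨bM, bM_mem⟩, mem_comap.2 (mem_centralizer_singleton_iff.2 (key _ bM_facts.2.1 m).eq), rfl⟩)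
    (mem_map.2 ⟨⟨vM, vM_mem⟩, mem_comap.2 (mem_centralizer_singleton_iff.2 (key _ vM_facts.2.1 m).eq), rfl⟩)
    l.2
  obtain ⟨y, hy, e⟩ := mem_map.1 hK
  rw [← LM.subtype_injective e]
  exact mem_centralizer_singleton_iff.1 (mem_comap.1 hy)

/-- The action of `M` on its core of order eight. -/
theorem exists_moves (z : G) (hz2 : z * z = 1) (hz1 : z ≠ 1) (hH : H = centralizer {z})
    (hcH : Nat.card H = 576) [hOM : (Cfsg.pCore 2 ↥M).Normal]
    (hM : Nonempty ((↥M ⧸ Cfsg.pCore 2 ↥M) ≃* Matrix.SpecialLinearGroup (Fin 3) (ZMod 2)))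
    (hOel : Cfsg.IsElementaryAbelian 2 (Cfsg.pCore 2 ↥M)) (hOcard : Nat.card ↥(Cfsg.pCore 2 ↥M) = 8)
    (hzE : z ∈ (Cfsg.pCore 2 ↥M).map M.subtype) :
    ∃ x y : G, x * x = 1 ∧ y * y = 1 ∧ x ≠ 1 ∧ x ≠ z ∧ y ≠ 1 ∧ y ≠ z ∧ y ≠ x ∧ y ≠ z * x ∧
      x ∈ H ∧ y ∈ H ∧ x * y = y * x ∧
      (∃ g ∈ H, g * x * g⁻¹ = y ∧ g * y * g⁻¹ = x) ∧ (∃ g ∈ H, g * x * g⁻¹ = y ∧ g * y * g⁻¹ = x * y) ∧
      ∃ g, g * z * g⁻¹ = x ∧ (g⁻¹ * z * g = x ∨ g⁻¹ * z * g = z * x ∨ g⁻¹ * z * g = y ∨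
        g⁻¹ * z * g = z * y ∨ g⁻¹ * z * g = x * y ∨ g⁻¹ * z * g = z * (x * y)) := by
  classical
  obtain ⟨hEcom, hEpow⟩ := hOel
  obtain ⟨e⟩ := hM
  obtain ⟨hsimple, hc168⟩ := MonsterT.Seven.sl32_facts
  set O := Cfsg.pCore 2 ↥M with hO
  set E : Subgroup G := O.map M.subtype with hE
  have hEM : E ≤ M := map_subtype_le _
  have hEc : Nat.card E = 8 := by rw [hE, card_map_of_injective M.subtype_injective, hOcard]
  have hEsq : ∀ u ∈ E, u * u = 1 := by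
    rintro _ ⟨o, ho, rfl⟩
    rw [← map_mul, ← pow_two, hEpow o ho, map_one]
  have hEcm : ∀ u ∈ E, ∀ v ∈ E, u * v = v * u := by
    rintro _ ⟨o, ho, rfl⟩ _ ⟨o', ho', rfl⟩
    haveI := hEcom
    rw [← map_mul, mul_comm_of_mem_isMulCommutative (H := O) ho ho', map_mul]
  have hEconj : ∀ g ∈ M, ∀ u ∈ E, g * u * g⁻¹ ∈ E := by
    rintro g hg _ ⟨o, ho, rfl⟩
    exact mem_map.2 ⟨⟨g, hg⟩ * o * (⟨g, hg⟩ : M)⁻¹, hOM.conj_mem o ho _, rfl⟩
  have hMc : Nat.card M = 1344 := by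
    rw [card_eq_card_quotient_mul_card_subgroup O, Nat.card_congr e.toEquiv, hc168, hOcard]
  -- the stabiliser of `z`
  set S : Subgroup M := H.subgroupOf M with hS
  have hmemS : ∀ g : M, g ∈ S ↔ (g : G) * z * (g : G)⁻¹ = z := fun g => by
    rw [hS, mem_subgroupOf, hH, mem_centralizer_singleton_iff, mul_inv_eq_iff_eq_mul]
  let f : M ⧸ S → {u : E // (u : G) ≠ 1} := fun q => Quotient.liftOn' q
    (fun g => ⟨⟨(g : G) * z * (g : G)⁻¹, hEconj g g.2 z hzE⟩, fun h => hz1 (conj_eq_one_iff.1 h)⟩)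
    (fun g h hgh => by
      rw [QuotientGroup.leftRel_apply, hmemS] at hgh
      refine Subtype.ext (Subtype.ext ?_)
      show (g : G) * z * (g : G)⁻¹ = (h : G) * z * (h : G)⁻¹
      conv_lhs => rw [← hgh]
      rw [Subgroup.coe_mul, Subgroup.coe_inv]; group)
  have hfinj : Function.Injective f := fun p q => QuotientGroup.induction_on p fun g =>
    QuotientGroup.induction_on q fun h hgh => by
      rw [QuotientGroup.eq, hmemS]
      have : (g : G) * z * (g : G)⁻¹ = (h : G) * z * (h : G)⁻¹ :=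
        congrArg (fun u : {u : E // (u : G) ≠ 1} => ((u : E) : G)) hgh
      rw [Subgroup.coe_mul, Subgroup.coe_inv]
      calc (g : G)⁻¹ * h * z * ((g : G)⁻¹ * h)⁻¹ = (g : G)⁻¹ * ((h : G) * z * (h : G)⁻¹) * g := by group
        _ = z := by rw [← this]; group
  have h7 : Nat.card {u : E // (u : G) ≠ 1} = 7 := by
    haveI := Fintype.ofFinite E
    rw [Nat.card_congr (Equiv.subtypeEquivRight (q := fun u : E => ¬ u = 1) (fun u => by simp)),
      Nat.card_eq_fintype_card, Fintype.card_subtype_compl, Fintype.card_subtype_eq,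
      ← Nat.card_eq_fintype_card, hEc]
  have hSle : Nat.card S ∣ 576 := by
    rw [← hcH, hS, ← card_map_of_injective M.subtype_injective]
    exact card_dvd_of_le (by rw [subgroupOf_map_subtype]; exact inf_le_left)
  have hSi := S.card_mul_index
  rw [hMc] at hSi
  have hi7 : S.index = 7 := by
    refine le_antisymm ?_ ?_
    · rw [index_eq_card, ← h7]; exact Nat.card_le_card_of_injective f hfinj
    · refine Nat.le_of_dvd (Nat.pos_of_ne_zero S.index_ne_zero_of_finite) ?_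
      have hco : Nat.Coprime 7 (Nat.card S) :=
        Nat.Coprime.coprime_dvd_right hSle (by decide)
      exact hco.dvd_of_dvd_mul_left (hSi ▸ by norm_num)
  have hS192 : Nat.card S = 192 := by rw [hi7] at hSi; omega
  have htrans : ∀ u ∈ E, u ≠ 1 → ∃ g ∈ M, g * z * g⁻¹ = u := by
    intro u hu hu1
    have hbij : Function.Bijective f := (Nat.bijective_iff_injective_and_card f).2
      ⟨hfinj, by rw [← index_eq_card, hi7, h7]⟩
    obtain ⟨q, hq⟩ := hbij.2 ⟨⟨u, hu⟩, hu1⟩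
    obtain ⟨g, rfl⟩ := QuotientGroup.mk_surjective q
    exact ⟨g, g.2, congrArg (fun u : {u : E // (u : G) ≠ 1} => ((u : E) : G)) hq⟩
  -- the kernel of the action
  have hkerE : ∀ g ∈ M, (∀ u ∈ E, g * u = u * g) → g ∈ E := by
    set K : Subgroup M := (centralizer (E : Set G)).subgroupOf M with hK
    have hKn : K.Normal := ⟨fun k hk g => by
      rw [hK, mem_subgroupOf, mem_centralizer_iff] at hk ⊢
      intro u hu
      have h := hk ((g : G)⁻¹ * u * g) (by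
        have := hEconj _ (inv_mem g.2) u hu
        rwa [inv_inv] at this)
      rw [Subgroup.coe_mul, Subgroup.coe_mul, Subgroup.coe_inv]
      calc u * ((g : G) * k * (g : G)⁻¹) = (g : G) * ((g : G)⁻¹ * u * g * k) * (g : G)⁻¹ := by group
        _ = (g : G) * k * (g : G)⁻¹ * u := by rw [h]; group⟩
    haveI := hKn
    have hKim : (K.map (e.toMonoidHom.comp (QuotientGroup.mk' O))).Normal :=
      hKn.map _ (e.surjective.comp (QuotientGroup.mk'_surjective O))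
    rcases hKim.eq_bot_or_eq_top with h | h
    · intro g hg hcomm
      have hgK : (⟨g, hg⟩ : M) ∈ K := mem_subgroupOf.2 (mem_centralizer_iff.2 fun u hu => (hcomm u hu).symm)
      have := mem_map_of_mem (e.toMonoidHom.comp (QuotientGroup.mk' O)) hgK
      rw [h, mem_bot, MonoidHom.comp_apply] at this
      have h1 : (QuotientGroup.mk' O) ⟨g, hg⟩ = 1 := e.injective (this.trans (map_one e).symm)
      exact mem_map.2 ⟨_, (QuotientGroup.eq_one_iff _).1 h1, rfl⟩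
    · exfalso
      have hd : Nat.card (K.map (e.toMonoidHom.comp (QuotientGroup.mk' O))) ∣ Nat.card K := card_map_dvd _ _
      rw [h, card_top, hc168] at hd
      have hKS : K ≤ S := fun k hk => (hmemS k).2 (by
        rw [← mem_centralizer_iff.1 (mem_subgroupOf.1 hk) z hzE, mul_inv_cancel_right])
      have := hd.trans (card_dvd_of_le hKS)
      rw [hS192] at this
      norm_num at this
  -- a basis
  obtain ⟨x, hxE, hx1, hxz⟩ : ∃ x ∈ E, x ≠ 1 ∧ x ≠ z := by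
    by_contra hcon
    push Not at hcon
    have hsub : (E : Set G) ⊆ {1, z} := fun u hu => by
      by_cases h : u = 1
      · exact Or.inl h
      · exact Or.inr (hcon u hu h)
    have := Set.ncard_le_ncard hsub (Set.toFinite _)
    rw [← Nat.card_coe_set_eq, show Nat.card (E : Set G) = 8 from hEc, Set.ncard_pair hz1.symm] at this
    omega
  obtain ⟨y, hyE, hy1, hyz, hyx, hyzx⟩ : ∃ y ∈ E, y ≠ 1 ∧ y ≠ z ∧ y ≠ x ∧ y ≠ z * x := by
    by_contra hcon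
    push Not at hcon
    have hsub : (E : Set G) ⊆ {1, z, x, z * x} := fun u hu => by
      by_cases h : u = 1; · exact Or.inl h
      by_cases h' : u = z; · exact Or.inr (Or.inl h')
      by_cases h'' : u = x; · exact Or.inr (Or.inr (Or.inl h''))
      exact Or.inr (Or.inr (Or.inr (hcon u hu h h' h'')))
    have h4 := Set.ncard_le_ncard hsub (Set.toFinite _)
    rw [← Nat.card_coe_set_eq, show Nat.card (E : Set G) = 8 from hEc] at h4
    have a1 := Set.ncard_insert_le (1 : G) {z, x, z * x}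
    have a2 := Set.ncard_insert_le z {x, z * x}
    have a3 := Set.ncard_insert_le x {z * x}
    rw [Set.ncard_singleton] at a3
    omega
  have hzy : z * y = y * z := hEcm z hzE y hyE
  have hzx : z * x = x * z := hEcm z hzE x hxE
  have hxy : x * y = y * x := hEcm x hxE y hyE
  have cancel : ∀ u : G, z * (z * u) = u := fun u => by rw [← mul_assoc, hz2, one_mul]
  have cancel' : ∀ u : G, x * (x * u) = u := fun u => by rw [← mul_assoc, hEsq x hxE, one_mul]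
  have hEspan : ∀ u ∈ E, u = 1 ∨ u = z ∨ u = x ∨ u = z * x ∨ u = y ∨ u = z * y ∨ u = x * y ∨
      u = z * (x * y) := by
    intro u hu
    haveI := Fintype.ofFinite E
    letI : CommGroup E :=
      { (inferInstance : Group E) with mul_comm := fun u v => Subtype.ext (hEcm u u.2 v v.2) }
    have h := span8 (E := E) (by rw [← Nat.card_eq_fintype_card, hEc]) (fun u => Subtype.ext (hEsq u u.2))
      ⟨z, hzE⟩ ⟨x, hxE⟩ ⟨y, hyE⟩ (fun h => hz1 (congrArg Subtype.val h))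
      (fun h => hx1 (congrArg Subtype.val h)) (fun h => hxz (congrArg Subtype.val h))
      (fun h => hy1 (congrArg Subtype.val h)) (fun h => hyz (congrArg Subtype.val h))
      (fun h => hyx (congrArg Subtype.val h)) (fun h => hyzx (congrArg Subtype.val h)) ⟨u, hu⟩
    simpa [Subtype.ext_iff] using h
  -- counting the stabiliser on pairs
  haveI := Fintype.ofFinite E
  let zE : E := ⟨z, hzE⟩
  let U : Finset E := Finset.univ.filter fun u => u ≠ 1 ∧ u ≠ zE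
  let T : Finset (Σ _ : E, E) := U.sigma fun u => Finset.univ \ {1, zE, u, zE * u}
  have hT : T.card ≤ 24 := by
    rw [Finset.card_sigma]
    have h4 : ∀ u ∈ U, (Finset.univ \ ({1, zE, u, zE * u} : Finset E)).card = 4 := by
      intro u hu
      rw [Finset.mem_filter] at hu
      rw [Finset.card_sdiff_of_subset (Finset.subset_univ _), Finset.card_univ, ← Nat.card_eq_fintype_card,
        hEc]
      have hn : zE ≠ 1 := fun h => hz1 (congrArg Subtype.val h)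
      have hzz : zE * zE = 1 := Subtype.ext hz2
      rw [Finset.card_insert_of_notMem, Finset.card_insert_of_notMem, Finset.card_insert_of_notMem,
        Finset.card_singleton]
      · simp only [Finset.mem_singleton]
        intro h; exact hn (mul_right_cancel (h.symm.trans (one_mul u).symm))
      · simp only [Finset.mem_insert, Finset.mem_singleton, not_or]
        refine ⟨fun h => hu.2.2 h.symm, fun h => ?_⟩
        exact hu.2.1 (mul_left_cancel (h.symm.trans (mul_one zE).symm))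
      · simp only [Finset.mem_insert, Finset.mem_singleton, not_or]
        exact ⟨hn.symm, fun h => hu.2.1 h.symm, fun h => hu.2.2 (mul_left_cancel (h.symm.trans hzz.symm))⟩
    rw [Finset.sum_congr rfl h4, Finset.sum_const, smul_eq_mul]
    have hU : U.card ≤ 6 := by
      have hsub : U ⊆ (Finset.univ.erase 1).erase zE := fun u hu => by
        simp only [U, Finset.mem_filter] at hu
        simp [hu.2.1, hu.2.2]
      refine (Finset.card_le_card hsub).trans ?_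
      rw [Finset.card_erase_of_mem (by simp [Finset.mem_erase]; exact fun h => hz1 (congrArg Subtype.val h)),
        Finset.card_erase_of_mem (Finset.mem_univ _), Finset.card_univ, ← Nat.card_eq_fintype_card, hEc]
    omega
  have hreal : ∀ u v : G, u ∈ E → v ∈ E → u ≠ 1 → u ≠ z → v ≠ 1 → v ≠ z → v ≠ u → v ≠ z * u →
      ∃ g ∈ H, g * x * g⁻¹ = u ∧ g * y * g⁻¹ = v := by
    intro u v hu hv u1 uz v1 vz vu vzu
    set K : Subgroup S := (O.subgroupOf S) with hK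
    have hcz : ∀ g : S, ((g : M) : G) * z * ((g : M) : G)⁻¹ = z := fun g => (hmemS g.1).1 g.2
    let F : S ⧸ K → {p // p ∈ T} := fun q => Quotient.liftOn' q
      (fun g => ⟨⟨⟨((g : M) : G) * x * ((g : M) : G)⁻¹, hEconj _ g.1.2 x hxE⟩,
          ⟨((g : M) : G) * y * ((g : M) : G)⁻¹, hEconj _ g.1.2 y hyE⟩⟩, by
        simp only [T, U, Finset.mem_sigma, Finset.mem_filter, Finset.mem_univ, true_and, Finset.mem_sdiff,
          Finset.mem_insert, Finset.mem_singleton, not_or, ne_eq, Subtype.ext_iff, Subgroup.coe_mul,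
          Subgroup.coe_one]
        have inj : ∀ a b : G, ((g : M) : G) * a * ((g : M) : G)⁻¹ = ((g : M) : G) * b * ((g : M) : G)⁻¹ →
            a = b := fun a b h => mul_left_cancel (mul_right_cancel h)
        refine ⟨⟨fun h => hx1 (conj_eq_one_iff.1 h), fun h => hxz (inj _ _ (h.trans (hcz g).symm))⟩,
          fun h => hy1 (conj_eq_one_iff.1 h), fun h => hyz (inj _ _ (h.trans (hcz g).symm)),
          fun h => hyx (inj _ _ h), fun h => hyzx (inj _ _ (h.trans ?_))⟩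
        show z * (((g : M) : G) * x * ((g : M) : G)⁻¹) = _
        nth_rw 1 [← hcz g]
        group⟩)
      (fun g h hgh => by
        rw [QuotientGroup.leftRel_apply, hK, mem_subgroupOf] at hgh
        have hm : ((g : M) : G)⁻¹ * ((h : M) : G) ∈ E := mem_map.2 ⟨_, hgh, rfl⟩
        have c : ∀ a ∈ E, ((g : M) : G) * a * ((g : M) : G)⁻¹ = ((h : M) : G) * a * ((h : M) : G)⁻¹ := by
          intro a ha
          have hc := hEcm _ hm a ha
          calc ((g : M) : G) * a * ((g : M) : G)⁻¹ =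
              ((g : M) : G) * (a * (((g : M) : G)⁻¹ * ((h : M) : G))) * ((h : M) : G)⁻¹ := by group
            _ = _ := by rw [← hc]; group
        exact Subtype.ext (Sigma.ext (Subtype.ext (c x hxE)) (heq_of_eq (Subtype.ext (c y hyE)))))
    have hFinj : Function.Injective F := fun p q => QuotientGroup.induction_on p fun g =>
      QuotientGroup.induction_on q fun h hgh => by
        have h0 := congrArg Subtype.val hgh
        have e1 : ((g : M) : G) * x * ((g : M) : G)⁻¹ = ((h : M) : G) * x * ((h : M) : G)⁻¹ :=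
          congrArg (fun p : Σ _ : E, E => (p.1 : G)) h0
        have e2 : ((g : M) : G) * y * ((g : M) : G)⁻¹ = ((h : M) : G) * y * ((h : M) : G)⁻¹ :=
          congrArg (fun p : Σ _ : E, E => (p.2 : G)) h0
        have e3 : ((g : M) : G) * z * ((g : M) : G)⁻¹ = ((h : M) : G) * z * ((h : M) : G)⁻¹ :=
          (hcz g).trans (hcz h).symm
        rw [QuotientGroup.eq, hK, mem_subgroupOf]
        have cm : ∀ a, ((g : M) : G) * a * ((g : M) : G)⁻¹ = ((h : M) : G) * a * ((h : M) : G)⁻¹ →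
            Commute (((g : M) : G)⁻¹ * ((h : M) : G)) a := fun a ha => by
          show ((g : M) : G)⁻¹ * ((h : M) : G) * a = a * (((g : M) : G)⁻¹ * ((h : M) : G))
          calc ((g : M) : G)⁻¹ * ((h : M) : G) * a =
              ((g : M) : G)⁻¹ * (((h : M) : G) * a * ((h : M) : G)⁻¹) * ((h : M) : G) := by group
            _ = _ := by rw [← ha]; group
        have hm := hkerE (((g : M) : G)⁻¹ * ((h : M) : G)) (mul_mem (inv_mem g.1.2) h.1.2) fun a ha => by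
          have cx := cm x e1
          have cy := cm y e2
          have cz := cm z e3
          rcases hEspan a ha with rfl | rfl | rfl | rfl | rfl | rfl | rfl | rfl
          exacts [(Commute.one_right _).eq, cz.eq, cx.eq, (cz.mul_right cx).eq, cy.eq,
            (cz.mul_right cy).eq, (cx.mul_right cy).eq, (cz.mul_right (cx.mul_right cy)).eq]
        obtain ⟨o, ho, eo⟩ := mem_map.1 hm
        have : o = (g : M)⁻¹ * (h : M) := Subtype.ext eo
        rw [this] at ho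
        exact ho
    have hOS : O ≤ S := fun o ho => (hmemS o).2 (by
      rw [hEcm (o : G) (mem_map_of_mem M.subtype ho) z hzE]
      exact mul_inv_cancel_right z _)
    have hq : Nat.card (S ⧸ K) = 24 := by
      have := K.card_mul_index
      rw [hK, Nat.card_congr (subgroupOfEquivOfLe hOS).toEquiv, hOcard, hS192, index_eq_card, ← hK] at this
      omega
    have hsurj : Function.Surjective F := (Nat.bijective_iff_injective_and_card F).2
      ⟨hFinj, le_antisymm (Nat.card_le_card_of_injective F hFinj) (by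
        rw [hq, Nat.card_eq_fintype_card, Fintype.card_coe]; exact hT)⟩ |>.2
    have hmem : (⟨⟨u, hu⟩, ⟨v, hv⟩⟩ : Σ _ : E, E) ∈ T := by
      simp only [T, U, Finset.mem_sigma, Finset.mem_filter, Finset.mem_univ, true_and, Finset.mem_sdiff,
        Finset.mem_insert, Finset.mem_singleton, not_or, ne_eq, Subtype.ext_iff, Subgroup.coe_mul,
        Subgroup.coe_one]
      exact ⟨⟨u1, uz⟩, v1, vz, vu, vzu⟩
    obtain ⟨q, hq'⟩ := hsurj ⟨_, hmem⟩
    obtain ⟨g, rfl⟩ := QuotientGroup.mk_surjective q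
    have h0 := congrArg Subtype.val hq'
    exact ⟨((g : M) : G), mem_subgroupOf.1 g.2, congrArg (fun p : Σ _ : E, E => (p.1 : G)) h0,
      congrArg (fun p : Σ _ : E, E => (p.2 : G)) h0⟩
  have hEH : E ≤ H := fun u hu => by
    rw [hH, mem_centralizer_singleton_iff]; exact hEcm u hu z hzE
  refine ⟨x, y, hEsq x hxE, hEsq y hyE, hx1, hxz, hy1, hyz, hyx, hyzx, hEH hxE, hEH hyE, hxy, ?_, ?_, ?_⟩
  · exact hreal y x hyE hxE hy1 hyz hx1 hxz hyx.symm (fun h => hyzx (by rw [h, cancel]))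
  · refine hreal y (x * y) hyE (mul_mem hxE hyE) hy1 hyz ?_ ?_ ?_ ?_
    · exact fun h => hyx (mul_left_cancel (h.trans (hEsq x hxE).symm))
    · exact fun h => hyzx (by rw [← cancel' y, h, hzx])
    · exact fun h => hx1 (mul_right_cancel (h.trans (one_mul y).symm))
    · exact fun h => hxz (mul_right_cancel h)
  · obtain ⟨g, hgM, hg⟩ := htrans x hxE hx1
    refine ⟨g, hg, ?_⟩
    have hmem : g⁻¹ * z * g ∈ E := by
      have := hEconj _ (inv_mem hgM) z hzE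
      rwa [inv_inv] at this
    rcases hEspan _ hmem with h | h | h | h | h | h | h | h
    · exfalso
      have h' : g⁻¹ * z * g⁻¹⁻¹ = 1 := by rwa [inv_inv]
      exact hz1 (conj_eq_one_iff.1 h')
    · exfalso
      refine hxz (hg.symm.trans ?_)
      conv_lhs => rw [← h]
      group
    all_goals tauto

/-- The model of the involution centraliser, with the two fusions. -/
theorem exists_phi (h1 : H₁ ≤ H) (h2 : H₂ ≤ H) (hn1 : (H₁.subgroupOf H).Normal)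
    (hn2 : (H₂.subgroupOf H).Normal)
    (hiso1 : Nonempty (↥H₁ ≃* Matrix.SpecialLinearGroup (Fin 2) (ZMod 3)))
    (hiso2 : Nonempty (↥H₂ ≃* Matrix.SpecialLinearGroup (Fin 2) (ZMod 3)))
    (hidx : (H₁ ⊔ H₂).relIndex H = 2)
    (hint1 : H₁ ⊓ H₂ = H₁ ⊓ centralizer (H₁ : Set G)) (hint2 : H₁ ⊓ H₂ = H₂ ⊓ centralizer (H₂ : Set G))
    (hHC : H = centralizer ((H₁ ⊓ H₂ : Subgroup G) : Set G)) [hOM : (Cfsg.pCore 2 ↥M).Normal]
    (hM : Nonempty ((↥M ⧸ Cfsg.pCore 2 ↥M) ≃* Matrix.SpecialLinearGroup (Fin 3) (ZMod 2)))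
    (hOel : Cfsg.IsElementaryAbelian 2 (Cfsg.pCore 2 ↥M)) (hOcard : Nat.card ↥(Cfsg.pCore 2 ↥M) = 8)
    (hZin : H₁ ⊓ H₂ ≤ (Cfsg.pCore 2 ↥M).map M.subtype) :
    ∃ φ : Mod →* G, Function.Injective φ ∧ φ.range = centralizer {φ zM} ∧ IsConj (φ zM) (φ kM) ∧
      IsConj (φ zM) (φ qM) := by
  obtain ⟨ψ₁, ψ₂, z, i1, i2, r1, r2, z1, z2, hz1, hz2, hI, hc⟩ :=
    exists_factors H H₁ H₂ h1 h2 hn1 hn2 hiso1 hiso2 hint1 hint2
  have hH : H = centralizer {z} := by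
    rw [hHC]
    ext g
    rw [mem_centralizer_iff, mem_centralizer_singleton_iff]
    refine ⟨fun h => (h z ((hI z).2 (Or.inr rfl))).symm, fun h u hu => ?_⟩
    rcases (hI u).1 hu with rfl | rfl
    · simp
    · exact h.symm
  obtain ⟨φ₀, hφ₀i, hφ₀⟩ := exists_half ψ₁ ψ₂ hc (z1.trans z2.symm) (by rw [z1]; exact hz2) i1 i2
    fun l m h => by
      have hm : ψ₁ l ∈ H₁ ⊓ H₂ := ⟨r1 ▸ ⟨l, rfl⟩, h ▸ (r2 ▸ ⟨m, rfl⟩ : ψ₂ m ∈ H₂)⟩
      rcases (hI _).1 hm with e | e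
      · exact Or.inl (i1 (e.trans (map_one ψ₁).symm))
      · exact Or.inr (congrArg Subtype.val (i1 (e.trans z1.symm)))
  have hmemM0 : ∀ l m : LM, swapM (l : Mod) * m ∈ M0 := fun l m =>
    mem_M0.2 (swap_commute _ (mem_LList.2 l.2) _ (mem_LList.2 m.2)).2
  have hdec : ∀ x : M0, ∃ l m : LM, (x : Mod) = swapM (l : Mod) * m := fun x => by
    obtain ⟨m, hm, hl⟩ := decomp_check x.1 (mem_M0List.2 x.2)
    refine ⟨⟨_, mem_LList.1 hl⟩, ⟨m, mem_LList.1 hm⟩, ?_⟩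
    show (x : Mod) = swapM (swapM ((x : Mod) * m⁻¹)) * m
    rw [show swapM (swapM ((x : Mod) * m⁻¹)) = (x : Mod) * m⁻¹ from swapM.left_inv _, inv_mul_cancel_right]
  have hzM0 : zM ∈ M0 := mem_M0.2 (by decide +kernel)
  have hφz : φ₀ ⟨zM, hzM0⟩ = z := by
    rw [show (⟨zM, hzM0⟩ : M0) = ⟨swapM ((1 : LM) : Mod) * ((⟨zM, zM_mem⟩ : LM) : Mod), hmemM0 _ _⟩ from
      Subtype.ext (by simp), hφ₀, map_one, one_mul, z2]
  have hrange : φ₀.range = H₁ ⊔ H₂ := by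
    refine le_antisymm ?_ (sup_le ?_ ?_)
    · rintro _ ⟨x, rfl⟩
      obtain ⟨l, m, e⟩ := hdec x
      rw [show x = ⟨_, hmemM0 l m⟩ from Subtype.ext e, hφ₀]
      exact mul_mem (mem_sup_left (r1 ▸ ⟨l, rfl⟩)) (mem_sup_right (r2 ▸ ⟨m, rfl⟩))
    · rw [← r1]; rintro _ ⟨l, rfl⟩
      exact ⟨⟨_, hmemM0 l 1⟩, by rw [hφ₀, map_one, mul_one]⟩
    · rw [← r2]; rintro _ ⟨m, rfl⟩
      exact ⟨⟨_, hmemM0 1 m⟩, by rw [hφ₀, map_one, one_mul]⟩
  have hH0 : H₁ ⊔ H₂ ≤ H := sup_le h1 h2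
  have hcard0 : Nat.card M0 = 288 := by
    rw [Nat.card_congr (Equiv.subtypeEquivRight (fun x => (show x ∈ M0 ↔ x ∈ M0List.toFinset by
      rw [List.mem_toFinset, mem_M0List, mem_M0])))]
    rw [Nat.card_eq_finsetCard, List.toFinset_card_of_nodup (show M0List.Nodup by unfold M0List; exact allMod_nodup.filter _)]
    decide +kernel
  have hcH : Nat.card H = 576 := by
    have h := ((H₁ ⊔ H₂).subgroupOf H).card_mul_index
    rw [Nat.card_congr (subgroupOfEquivOfLe hH0).toEquiv, ← hrange,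
      ← Nat.card_congr (MonoidHom.ofInjective hφ₀i).toEquiv, hcard0] at h
    change 288 * φ₀.range.relIndex H = Nat.card H at h
    rw [hrange, hidx] at h
    exact h.symm
  have hidx' : ((H₁ ⊔ H₂).subgroupOf H).index = 2 := hidx
  have hconjH : ∀ g ∈ H, ∀ u ∈ H₁ ⊔ H₂, g * u * g⁻¹ ∈ H₁ ⊔ H₂ := by
    intro g hg u hu
    haveI : ((H₁ ⊔ H₂).subgroupOf H).Normal := normal_of_index_eq_two hidx'
    exact mem_subgroupOf.1 (this.conj_mem ⟨u, hH0 hu⟩ (mem_subgroupOf.2 hu) ⟨g, hg⟩)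
  have hout2 : ∀ a ∈ H, ∀ b ∈ H, (a * b ∈ H₁ ⊔ H₂ ↔ (a ∈ H₁ ⊔ H₂ ↔ b ∈ H₁ ⊔ H₂)) := by
    intro a ha b hb
    have := mul_mem_iff_of_index_two hidx' (a := (⟨a, ha⟩ : H)) (b := ⟨b, hb⟩)
    simpa [mem_subgroupOf] using this
  -- the action of `M`
  obtain ⟨x, y, hx2, hy2, hx1, hxz, hy1, hyz, hyx, hyzx, hxH, hyH, hxy, ⟨h, hh, hhx, hhy⟩,
      ⟨g, hg, hgx, hgy⟩, g₀, hg₀, hg₀'⟩ :=
    exists_moves H M z hz2 hz1 hH hcH hM hOel hOcard (hZin ((hI z).2 (Or.inr rfl)))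
  have hx0 : x ∈ H₁ ⊔ H₂ := by
    by_contra hxn
    have hiff : ∀ u ∈ H, (g * u * g⁻¹ ∈ H₁ ⊔ H₂ ↔ u ∈ H₁ ⊔ H₂) := fun u hu => by
      refine ⟨fun h => ?_, hconjH g hg u⟩
      have := hconjH _ (inv_mem hg) _ h
      rwa [show g⁻¹ * (g * u * g⁻¹) * g⁻¹⁻¹ = u by group] at this
    have hyn : y ∉ H₁ ⊔ H₂ := fun h => hxn ((hiff x hxH).1 (by rwa [hgx]))
    have hxy0 : x * y ∈ H₁ ⊔ H₂ :=
      (hout2 x hxH y hyH).2 ⟨fun h => absurd h hxn, fun h => absurd h hyn⟩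
    exact hyn ((hiff y hyH).1 (by rwa [hgy]))
  have hy0 : y ∈ H₁ ⊔ H₂ := hgx ▸ hconjH g hg x hx0
  obtain ⟨ux, hux⟩ : ∃ u, φ₀ u = x := by rw [← MonoidHom.mem_range, hrange]; exact hx0
  obtain ⟨uy, huy⟩ : ∃ u, φ₀ u = y := by rw [← MonoidHom.mem_range, hrange]; exact hy0
  -- images of the involutions
  have hInv : ∀ u : M0, φ₀ u * φ₀ u = 1 → φ₀ u ≠ 1 → φ₀ u ≠ z → (u : Mod) ∈ Inv0 := by
    intro u a b c
    refine mem_Inv0.2 ⟨u.2, ?_, fun e => b ?_, fun e => c ?_⟩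
    · exact congrArg Subtype.val (hφ₀i ((map_mul φ₀ u u).trans (a.trans (map_one φ₀).symm)) : u * u = 1)
    · rw [show u = 1 from Subtype.ext e, map_one]
    · rw [← hφz]; exact congrArg φ₀ (Subtype.ext e)
  have hIx := hInv ux (by rw [hux]; exact hx2) (hux ▸ hx1) (hux ▸ hxz)
  have hq0 : swapM wM * wM ∈ M0 := mem_M0.2 (by decide +kernel)
  set q₀ : M0 := ⟨swapM wM * wM, hq0⟩ with hq₀
  have hclass : ∀ u : M0, (u : Mod) ∈ Inv0 → IsConj (φ₀ q₀) (φ₀ u) := by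
    intro u hu
    obtain ⟨⟨c, hc0, e⟩, -⟩ := inv0_check _ hu
    refine isConj_iff.2 ⟨φ₀ ⟨c, mem_M0.2 (mem_M0List.1 hc0)⟩, ?_⟩
    rw [← map_inv, ← map_mul, ← map_mul]
    exact congrArg φ₀ (Subtype.ext e)
  have hzq : IsConj z (φ₀ q₀) := by
    have h' : IsConj z x := isConj_iff.2 ⟨g₀, hg₀⟩
    exact h'.trans (hux ▸ (hclass ux hIx).symm)
  -- the outer element
  have hparts : ∀ u : M0, (u : Mod) ∈ Inv0 → ∀ l m : LM, (u : Mod) = swapM (l : Mod) * m →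
      (l : Mod) ∈ Q6 ∧ (m : Mod) ∈ Q6 := by
    intro u hu l m e
    obtain ⟨-, a, b, c⟩ := mem_Inv0.1 hu
    exact invol_parts _ (mem_LList.2 l.2) _ (mem_LList.2 m.2) (e ▸ a) (e ▸ b) (e ▸ c)
  obtain ⟨lx, mx, hlx⟩ := hdec ux
  obtain ⟨ly, my, hly⟩ := hdec uy
  have hIy := hInv uy (by rw [huy]; exact hy2) (huy ▸ hy1) (huy ▸ hyz)
  obtain ⟨qlx, qmx⟩ := hparts ux hIx lx mx hlx
  obtain ⟨qly, qmy⟩ := hparts uy hIy ly my hly
  have hgraph : (ly : Mod) ≠ lx ∧ (ly : Mod) ≠ zM * lx ∧ (my : Mod) ≠ mx ∧ (my : Mod) ≠ zM * mx := by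
    refine graph_check _ qlx _ qmx _ qly _ qmy ?_ ?_ ?_ <;> rw [← hlx, ← hly]
    · exact congrArg Subtype.val (hφ₀i (by rw [map_mul, map_mul, hux, huy, hxy]) : ux * uy = uy * ux)
    · exact fun e => hyx (by rw [← hux, ← huy, show uy = ux from Subtype.ext e])
    · intro e
      refine hyzx ?_
      rw [← hux, ← huy, ← hφz, ← map_mul]
      exact congrArg φ₀ (Subtype.ext e)
  have hconjF : ∀ (ψ : LM →* G) (K : Subgroup G), ψ.range = K → (K.subgroupOf H).Normal → K ≤ H →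
      ∀ a ∈ H, ∀ l : LM, ∃ m : LM, ψ m = a * ψ l * a⁻¹ := by
    intro ψ K hr hn hK a ha l
    have : ψ l ∈ K := hr ▸ ⟨l, rfl⟩
    rw [← MonoidHom.mem_range, hr]
    exact mem_subgroupOf.1 (hn.conj_mem ⟨ψ l, hK this⟩ (mem_subgroupOf.2 this) ⟨a, ha⟩)
  obtain ⟨a₁, ha₁, ea₁⟩ := exists_aut ψ₁ i1 h (hconjF ψ₁ H₁ r1 hn1 h1 h hh)
  obtain ⟨a₂, ha₂, ea₂⟩ := exists_aut ψ₂ i2 h (hconjF ψ₂ H₂ r2 hn2 h2 h hh)
  have hswapped : ∀ (u v : M0) (l m l' m' : LM), (u : Mod) = swapM (l : Mod) * m →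
      (v : Mod) = swapM (l' : Mod) * m' → h * φ₀ u * h⁻¹ = φ₀ v →
      ((conjL a₁ ha₁ l : Mod) = l' ∨ (conjL a₁ ha₁ l : Mod) = zM * l') ∧
        ((conjL a₂ ha₂ m : Mod) = m' ∨ (conjL a₂ ha₂ m : Mod) = zM * m') := by
    intro u v l m l' m' eu ev huv
    rw [show u = ⟨_, hmemM0 l m⟩ from Subtype.ext eu, show v = ⟨_, hmemM0 l' m'⟩ from Subtype.ext ev, hφ₀,
      hφ₀, show h * (ψ₁ l * ψ₂ m) * h⁻¹ = h * ψ₁ l * h⁻¹ * (h * ψ₂ m * h⁻¹) by group, ea₁, ea₂] at huv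
    have h2' : ψ₁ (l'⁻¹ * conjL a₁ ha₁ l) = ψ₂ (m' * (conjL a₂ ha₂ m)⁻¹) := by
      rw [map_mul, map_mul, map_inv, map_inv, inv_mul_eq_iff_eq_mul, ← mul_assoc, ← huv,
        mul_inv_cancel_right]
    have hm : ψ₁ (l'⁻¹ * conjL a₁ ha₁ l) ∈ H₁ ⊓ H₂ :=
      ⟨r1 ▸ ⟨_, rfl⟩, h2' ▸ (r2 ▸ ⟨_, rfl⟩ : ψ₂ (m' * (conjL a₂ ha₂ m)⁻¹) ∈ H₂)⟩
    rcases (hI _).1 hm with e | e
    · have e1 : (l' : Mod)⁻¹ * (conjL a₁ ha₁ l : Mod) = 1 :=
        congrArg Subtype.val (i1 (e.trans (map_one ψ₁).symm))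
      have e2 : (m' : Mod) * (conjL a₂ ha₂ m : Mod)⁻¹ = 1 :=
        congrArg Subtype.val (i2 ((h2'.symm.trans e).trans (map_one ψ₂).symm))
      exact ⟨Or.inl (inv_mul_eq_one.1 e1).symm, Or.inl (mul_inv_eq_one.1 e2).symm⟩
    · have e1 : (l' : Mod)⁻¹ * (conjL a₁ ha₁ l : Mod) = zM := congrArg Subtype.val (i1 (e.trans z1.symm))
      have e2 : (m' : Mod) * (conjL a₂ ha₂ m : Mod)⁻¹ = zM :=
        congrArg Subtype.val (i2 ((h2'.symm.trans e).trans z2.symm))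
      rw [inv_mul_eq_iff_eq_mul] at e1
      rw [mul_inv_eq_iff_eq_mul] at e2
      refine ⟨Or.inr (e1.trans (zM_comm _).symm), Or.inr ?_⟩
      rw [e2, ← mul_assoc, model_basic.1, one_mul]
  have hxy' := hswapped ux uy lx mx ly my hlx hly (by rw [hux, huy, hhx])
  have hyx' := hswapped uy ux ly my lx mx hly hlx (by rw [hux, huy, hhy])
  have hout₁ : Outer a₁ := parity_check a₁ ha₁ _ qlx _ qly hgraph.1 hgraph.2.1 hxy'.1 hyx'.1
  have hout₂ : Outer a₂ := parity_check a₂ ha₂ _ qmx _ qmy hgraph.2.2.1 hgraph.2.2.2 hxy'.2 hyx'.2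
  have hh0 : h ∉ H₁ ⊔ H₂ := by
    intro hmem
    obtain ⟨c, hch⟩ : ∃ c, φ₀ c = h := by rw [← MonoidHom.mem_range, hrange]; exact hmem
    obtain ⟨cl, cm, ec⟩ := hdec c
    rw [show c = ⟨_, hmemM0 cl cm⟩ from Subtype.ext ec, hφ₀] at hch
    have hb : (cm : Mod) ∈ bor := (bor_facts.2.1 _ (mem_LList.2 cm.2)).1
    have e : ∀ l : LM, conjL a₂ ha₂ l = conjL (cm : Mod) hb l := fun l => i2 (by
      rw [← ea₂, ← hch]
      rw [show ψ₁ cl * ψ₂ cm * ψ₂ l * (ψ₁ cl * ψ₂ cm)⁻¹ =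
        ψ₁ cl * (ψ₂ cm * ψ₂ l * (ψ₂ cm)⁻¹) * (ψ₁ cl)⁻¹ by group, ← map_mul, ← map_inv, ← map_mul,
        (hc cl _).eq, mul_inv_cancel_right]
      rfl)
    have hc1 : ((conjL (cm : Mod) hb mx : LM) : Mod) = my ∨ ((conjL (cm : Mod) hb mx : LM) : Mod) = zM * my := by
      rw [← e]; exact hxy'.2
    have hc2 : ((conjL (cm : Mod) hb my : LM) : Mod) = mx ∨ ((conjL (cm : Mod) hb my : LM) : Mod) = zM * mx := by
      rw [← e]; exact hyx'.2
    exact (bor_facts.2.1 _ (mem_LList.2 cm.2)).2.1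
      (parity_check _ hb _ qmx _ qmy hgraph.2.2.1 hgraph.2.2.2 hc1 hc2)
  -- an involution outside
  obtain ⟨w, hw0, hw⟩ : ∃ w : M0, (w : Mod) ∈ Inv0 ∧ φ₀ w = g₀⁻¹ * z * g₀ := by
    have hmem : g₀⁻¹ * z * g₀ ∈ H₁ ⊔ H₂ := by
      have hz0 : z ∈ H₁ ⊔ H₂ := mem_sup_left ((hI z).2 (Or.inr rfl)).1
      rcases hg₀' with e | e | e | e | e | e <;> rw [e]
      exacts [hx0, mul_mem hz0 hx0, hy0, mul_mem hz0 hy0, mul_mem hx0 hy0, mul_mem hz0 (mul_mem hx0 hy0)]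
    obtain ⟨w, hw⟩ : ∃ u, φ₀ u = g₀⁻¹ * z * g₀ := by rw [← MonoidHom.mem_range, hrange]; exact hmem
    refine ⟨w, hInv w ?_ ?_ ?_, hw⟩
    · rw [hw]
      rw [show g₀⁻¹ * z * g₀ * (g₀⁻¹ * z * g₀) = g₀⁻¹ * (z * z) * g₀ by group, hz2]
      group
    · rw [hw]
      intro e
      apply hz1
      have e' : g₀⁻¹ * z * g₀⁻¹⁻¹ = 1 := by rwa [inv_inv]
      exact conj_eq_one_iff.1 e'
    · rw [hw]
      intro e
      refine hxz (hg₀.symm.trans ?_)
      conv_lhs => rw [← e]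
      group
  obtain ⟨-, P, hP, Q, hQ, hPw, hQw, hPQ⟩ := inv0_check _ hw0
  set P₀ : M0 := ⟨P, mem_M0.2 (mem_Inv0.1 hP).1⟩
  set Q₀ : M0 := ⟨Q, mem_M0.2 (mem_Inv0.1 hQ).1⟩
  set p := g₀ * φ₀ P₀ * g₀⁻¹ with hp
  set q := g₀ * φ₀ Q₀ * g₀⁻¹ with hq
  have hcomz : ∀ R : M0, (R : Mod) * w = (w : Mod) * R → g₀ * φ₀ R * g₀⁻¹ ∈ H := by
    intro R hR
    rw [hH, mem_centralizer_singleton_iff]
    have e : φ₀ R * φ₀ w = φ₀ w * φ₀ R := by
      rw [← map_mul, ← map_mul]; exact congrArg φ₀ (Subtype.ext hR)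
    rw [hw] at e
    calc g₀ * φ₀ R * g₀⁻¹ * z = g₀ * (φ₀ R * (g₀⁻¹ * z * g₀)) * g₀⁻¹ := by group
      _ = z * (g₀ * φ₀ R * g₀⁻¹) := by rw [e]; group
  have hsqP : ∀ R : M0, (R : Mod) ∈ Inv0 → g₀ * φ₀ R * g₀⁻¹ * (g₀ * φ₀ R * g₀⁻¹) = 1 := by
    intro R hR
    rw [show g₀ * φ₀ R * g₀⁻¹ * (g₀ * φ₀ R * g₀⁻¹) = g₀ * (φ₀ R * φ₀ R) * g₀⁻¹ by group, ← map_mul,
      show R * R = 1 from Subtype.ext (mem_Inv0.1 hR).2.1, map_one]
    group
  have hout : p ∉ H₁ ⊔ H₂ ∨ q ∉ H₁ ⊔ H₂ := by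
    by_contra hcon
    push Not at hcon
    obtain ⟨⟨u, hu⟩, ⟨v, hv⟩⟩ : (∃ u, φ₀ u = p) ∧ ∃ v, φ₀ v = q := by
      rw [← MonoidHom.mem_range, ← MonoidHom.mem_range, hrange]; exact hcon
    have h4 : ∀ (u : M0), φ₀ u * φ₀ u = 1 → (u : Mod) ∈ O4 := fun u e => mem_O4.2 ⟨u.2, by
      have e' : u * u = 1 := hφ₀i (by rw [map_mul, map_one]; exact e)
      have e'' : (u : Mod) * u = 1 := congrArg Subtype.val e'
      rw [show (4 : ℕ) = 2 * 2 from rfl, pow_mul, pow_two (u : Mod), e'', one_pow]⟩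
    have hpq : p * q * p⁻¹ * q⁻¹ = x := by
      have hcomm : (P : Mod) * Q * P⁻¹ * Q⁻¹ = zM :=
        (comm_O P (mem_O4.2 ⟨(mem_Inv0.1 hP).1, by
            rw [show (4 : ℕ) = 2 * 2 from rfl, pow_mul, pow_two P, (mem_Inv0.1 hP).2.1, one_pow]⟩) Q
          (mem_O4.2 ⟨(mem_Inv0.1 hQ).1, by
            rw [show (4 : ℕ) = 2 * 2 from rfl, pow_mul, pow_two Q, (mem_Inv0.1 hQ).2.1, one_pow]⟩)).resolve_left
          fun e => hPQ (mul_inv_eq_iff_eq_mul.1 (mul_inv_eq_one.1 e))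
      have e : φ₀ P₀ * φ₀ Q₀ * (φ₀ P₀)⁻¹ * (φ₀ Q₀)⁻¹ = z := by
        rw [← map_inv, ← map_inv, ← map_mul, ← map_mul, ← map_mul, ← hφz]
        exact congrArg φ₀ (Subtype.ext hcomm)
      rw [hp, hq, ← hg₀, ← e]
      group
    have hc := comm_O _ (h4 u (by rw [hu]; exact hsqP P₀ hP)) _ (h4 v (by rw [hv]; exact hsqP Q₀ hQ))
    rw [← hu, ← hv, ← map_inv, ← map_inv, ← map_mul, ← map_mul, ← map_mul] at hpq
    rcases hc with e | e
    · rw [show u * v * u⁻¹ * v⁻¹ = 1 from Subtype.ext e, map_one] at hpq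
      exact hx1 hpq.symm
    · rw [show u * v * u⁻¹ * v⁻¹ = ⟨zM, hzM0⟩ from Subtype.ext e, hφz] at hpq
      exact hxz hpq.symm
  obtain ⟨t, htH, ht2, htout, htz⟩ : ∃ t ∈ H, t * t = 1 ∧ t ∉ H₁ ⊔ H₂ ∧ IsConj z t := by
    rcases hout with e | e
    · exact ⟨p, hcomz P₀ hPw, hsqP P₀ hP, e, (hzq.trans (hclass P₀ hP)).trans (isConj_iff.2 ⟨g₀, rfl⟩)⟩
    · exact ⟨q, hcomz Q₀ hQw, hsqP Q₀ hQ, e, (hzq.trans (hclass Q₀ hQ)).trans (isConj_iff.2 ⟨g₀, rfl⟩)⟩
  -- its automorphisms are outer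
  have hti : t⁻¹ = t := inv_eq_of_mul_eq_one_left ht2
  obtain ⟨c, hc'⟩ : ∃ c, φ₀ c = h⁻¹ * t := by
    rw [← MonoidHom.mem_range, hrange]
    exact (hout2 _ (inv_mem hh) t htH).2
      ⟨fun e => absurd (inv_mem_iff.1 e) hh0, fun e => absurd e htout⟩
  obtain ⟨cl, cm, ec⟩ := hdec c
  rw [show c = ⟨_, hmemM0 cl cm⟩ from Subtype.ext ec, hφ₀] at hc'
  have ht : t = h * (ψ₁ cl * ψ₂ cm) := by rw [hc', mul_inv_cancel_left]
  have hb₁ : a₁ * (cl : Mod) ∈ bor := (bor_facts.1 a₁ ha₁ _ (mem_LList.2 cl.2)).2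
  have hb₂ : a₂ * (cm : Mod) ∈ bor := (bor_facts.1 a₂ ha₂ _ (mem_LList.2 cm.2)).2
  have et₁ : ∀ l, t * ψ₁ l * t = ψ₁ (conjL _ hb₁ l) := fun l => by
    nth_rw 2 [← hti]
    rw [ht, show h * (ψ₁ cl * ψ₂ cm) * ψ₁ l * (h * (ψ₁ cl * ψ₂ cm))⁻¹ =
      h * (ψ₁ cl * (ψ₂ cm * ψ₁ l * (ψ₂ cm)⁻¹) * (ψ₁ cl)⁻¹) * h⁻¹ by group,
      ← (hc l cm).eq, mul_inv_cancel_right, ← map_mul, ← map_inv, ← map_mul, ea₁]
    refine congrArg ψ₁ (Subtype.ext ?_)
    show a₁ * ((cl : Mod) * l * (cl : Mod)⁻¹) * a₁⁻¹ = a₁ * (cl : Mod) * l * (a₁ * (cl : Mod))⁻¹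
    group
  have et₂ : ∀ l, t * ψ₂ l * t = ψ₂ (conjL _ hb₂ l) := fun l => by
    nth_rw 2 [← hti]
    rw [ht, show h * (ψ₁ cl * ψ₂ cm) * ψ₂ l * (h * (ψ₁ cl * ψ₂ cm))⁻¹ =
      h * (ψ₁ cl * (ψ₂ cm * ψ₂ l * (ψ₂ cm)⁻¹) * (ψ₁ cl)⁻¹) * h⁻¹ by group,
      ← map_mul, ← map_inv, ← map_mul, (hc cl _).eq, mul_inv_cancel_right, ea₂]
    refine congrArg ψ₂ (Subtype.ext ?_)
    show a₂ * ((cm : Mod) * l * (cm : Mod)⁻¹) * a₂⁻¹ = a₂ * (cm : Mod) * l * (a₂ * (cm : Mod))⁻¹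
    group
  obtain ⟨c₁, hc₁, f₁⟩ := exists_adjust ψ₁ i1 t ht2 _ hb₁
    ((outer_mul a₁ ha₁ _ (mem_LList.2 cl.2)).2 hout₁) et₁
  obtain ⟨c₂, hc₂, f₂⟩ := exists_adjust ψ₂ i2 t ht2 _ hb₂
    ((outer_mul a₂ ha₂ _ (mem_LList.2 cm.2)).2 hout₂) et₂
  -- adjusted factors
  have cinj : ∀ (d : Mod) (hd : d ∈ bor), Function.Injective (conjL d hd) := fun d hd l m e =>
    Subtype.ext (mul_left_cancel (mul_right_cancel (congrArg Subtype.val e)))
  have cz : ∀ (d : Mod) (hd : d ∈ bor), conjL d hd ⟨zM, zM_mem⟩ = ⟨zM, zM_mem⟩ := fun d hd =>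
    Subtype.ext (show d * zM * d⁻¹ = zM by rw [← zM_comm, mul_inv_cancel_right])
  have crange : ∀ (ψ : LM →* G) (d : Mod) (hd : d ∈ bor), (ψ.comp (conjL d hd)).range = ψ.range :=
    fun ψ d hd => by
      rw [MonoidHom.range_comp, MonoidHom.range_eq_top.2 (Finite.surjective_of_injective (cinj d hd)),
        ← MonoidHom.range_eq_map]
  set χ₁ := ψ₁.comp (conjL c₁ hc₁) with hχ₁
  set χ₂ := ψ₂.comp (conjL c₂ hc₂) with hχ₂
  have y1 : χ₁ ⟨zM, zM_mem⟩ = z := by rw [hχ₁, MonoidHom.comp_apply, cz, z1]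
  have y2 : χ₂ ⟨zM, zM_mem⟩ = z := by rw [hχ₂, MonoidHom.comp_apply, cz, z2]
  obtain ⟨θ₀, hθi, hθ⟩ := exists_half χ₁ χ₂ (fun l m => hc _ _) (y1.trans y2.symm)
    (by rw [y1]; exact hz2) (i1.comp (cinj _ _)) (i2.comp (cinj _ _)) fun l m e => by
      have hm : χ₁ l ∈ H₁ ⊓ H₂ :=
        ⟨r1 ▸ ⟨_, rfl⟩, e ▸ (r2 ▸ ⟨_, rfl⟩ : χ₂ m ∈ H₂)⟩
      rcases (hI _).1 hm with e' | e'
      · exact Or.inl ((i1.comp (cinj _ _)) (e'.trans (map_one χ₁).symm))
      · exact Or.inr (congrArg Subtype.val ((i1.comp (cinj _ _)) (e'.trans y1.symm)))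
  have hθrange : ∀ u, θ₀ u ∈ H₁ ⊔ H₂ := fun u => by
    obtain ⟨l, m, e⟩ := hdec u
    rw [show u = ⟨_, hmemM0 l m⟩ from Subtype.ext e, hθ]
    exact mul_mem (mem_sup_left (r1 ▸ ⟨_, rfl⟩)) (mem_sup_right (r2 ▸ ⟨_, rfl⟩))
  obtain ⟨φ, hφi, hφ0, hφk⟩ := exists_ext χ₁ χ₂ θ₀ hθi hθ t ht2
    (fun u e => htout (e ▸ hθrange u)) f₁ f₂
  have hφz' : φ zM = z := by
    rw [show φ zM = θ₀ ⟨zM, hzM0⟩ from hφ0 ⟨zM, hzM0⟩, show (⟨zM, hzM0⟩ : M0) =
      ⟨swapM ((1 : LM) : Mod) * ((⟨zM, zM_mem⟩ : LM) : Mod), hmemM0 _ _⟩ from Subtype.ext (by simp),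
      hθ, map_one, one_mul, y2]
  have hφrange : φ.range = H := by
    refine eq_of_le_of_card_ge ?_ (by
      rw [hcH, ← Nat.card_congr (MonoidHom.ofInjective hφi).toEquiv, Nat.card_eq_fintype_card, card_Mod])
    rw [hH]
    rintro _ ⟨u, rfl⟩
    rw [mem_centralizer_singleton_iff, ← hφz', ← map_mul, ← map_mul, zM_comm]
  refine ⟨φ, hφi, by rw [hφrange, hφz', hH], by rw [hφz', hφk]; exact htz, ?_⟩
  -- the inner involution
  have hqInv : qM ∈ Inv0 := by decide +kernel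
  have hqmem : qM ∈ M0 := mem_M0.2 (mem_Inv0.1 hqInv).1
  obtain ⟨v, hv⟩ : ∃ v, φ₀ v = θ₀ ⟨qM, hqmem⟩ := by
    rw [← MonoidHom.mem_range, hrange]; exact hθrange _
  rw [hφz', show φ qM = θ₀ ⟨qM, hqmem⟩ from hφ0 ⟨qM, hqmem⟩, ← hv]
  obtain ⟨-, hq1, hq2, hq3⟩ := mem_Inv0.1 hqInv
  refine hzq.trans (hclass v (hInv v ?_ ?_ ?_))
  · rw [hv, ← map_mul, show (⟨qM, hqmem⟩ : M0) * ⟨qM, hqmem⟩ = 1 from Subtype.ext hq1, map_one]
  · rw [hv]; exact fun e => hq2 (congrArg Subtype.val (hθi (e.trans (map_one θ₀).symm)))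
  · rw [hv]
    intro e
    refine hq3 (congrArg Subtype.val (hθi (e.trans ?_) : (⟨qM, hqmem⟩ : M0) = ⟨zM, hzM0⟩))
    rw [← hφz']; exact hφ0 ⟨zM, hzM0⟩

end Iota

end Cfsg.Agent.G23Two
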