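import Cfsg.Agent.Lib.G23Two.Iota

/-!
All data needed from the hypotheses of the two-local recognition of `G₂(3)`.
-/

set_option autoImplicit false
set_option maxRecDepth 100000

namespace Cfsg.Agent.G23Two

theorem swap_qM : swapM qM = qM := by decide +kernel

end Cfsg.Agent.G23Two
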