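import Cfsg.Agent.Lib.G23Two.ParaModel

/-!
Finite facts on the model used to identify the involution centraliser with it.
-/

set_option autoImplicit false
set_option maxRecDepth 100000
set_option maxHeartbeats 4000000
set_option linter.style.haveILetI false

namespace Cfsg.Agent.G23Two.Iota

open Subgroup

/-- The second generator of the second factor. -/
def vM : Mod := mk' ((1, 0, 0, 1), (1, 0, 1, 1))

/-- Conjugating elements: the normaliser of `⟨aM⟩`. -/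
def bor : List Mod := allMod.filter fun x => x.1.1.2.1 == 0 && x.1.1.2.2.1 == 0 && x.1.1.1 == 1

/-- The elements of determinant two. -/
def Outer (x : Mod) : Prop := detV x.1.2 = 2

instance : DecidablePred Outer := fun x => inferInstanceAs (Decidable (detV x.1.2 = 2))

/-- The elements of the second factor squaring to `zM`. -/
def Q6 : List Mod := LList.filter fun x => x * x == zM

/-- The elements of determinant one. -/
def M0List : List Mod := allMod.filter fun x => !decide (Outer x)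

/-- The involutions of determinant one outside the centre. -/
def Inv0 : List Mod := M0List.filter fun x => x * x == 1 && !(x == 1) && !(x == zM)

theorem vM_facts : vM ∈ LList ∧ vM ^ 3 = 1 ∧ (bM * vM) * (bM * vM) = zM ∧ bM * bM * bM = 1 ∧
    vM * vM * vM = 1 := by decide +kernel

theorem bM_facts : bM ∈ LList ∧ bM ^ 3 = 1 ∧ bM ≠ 1 ∧ vM * bM ≠ bM * vM := by decide +kernel

theorem bor_facts : (∀ g ∈ bor, ∀ l ∈ LList, g * l * g⁻¹ ∈ LList ∧ g * l ∈ bor) ∧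
    (∀ l ∈ LList, l ∈ bor ∧ ¬ Outer l ∧ kM * l * kM ∈ LList) ∧ kM ∈ bor := by decide +kernel

theorem outer_mul : ∀ g ∈ bor, ∀ l ∈ LList, (Outer (g * l) ↔ Outer g) := by decide +kernel

theorem gen_check : ∀ x ∈ LList, ∃ i : Fin 3, ∃ j : Fin 3, ∃ k : Fin 3, ∃ l : Fin 3,
    x = bM ^ (i : ℕ) * vM ^ (j : ℕ) * (bM ^ (k : ℕ) * vM ^ (l : ℕ)) := by decide +kernel

theorem center_check : ∀ x ∈ LList, x * bM = bM * x → x * vM = vM * x → x = 1 ∨ x = zM := by
  decide +kernel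

theorem aut_check : ∀ x ∈ LList, ∀ y ∈ LList, x ≠ 1 → x ^ 3 = 1 → y ^ 3 = 1 →
    (x * y) * (x * y) = zM → ∃ g ∈ bor, g * bM * g⁻¹ = x ∧ g * vM * g⁻¹ = y := by decide +kernel

theorem aut_pair : (bM * vM) * (bM * vM) = zM := by decide +kernel

theorem outer_sq_check : ∀ g ∈ bor, Outer g → g * g * bM = bM * (g * g) → g * g * vM = vM * (g * g) →
    ∃ c ∈ bor, c * (kM * (c⁻¹ * bM * c) * kM) * c⁻¹ = g * bM * g⁻¹ ∧
      c * (kM * (c⁻¹ * vM * c) * kM) * c⁻¹ = g * vM * g⁻¹ := by decide +kernel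

theorem parity_check : ∀ g ∈ bor, ∀ q ∈ Q6, ∀ r ∈ Q6, r ≠ q → r ≠ zM * q →
    (g * q * g⁻¹ = r ∨ g * q * g⁻¹ = zM * r) → (g * r * g⁻¹ = q ∨ g * r * g⁻¹ = zM * q) → Outer g := by
  decide +kernel

theorem invol_parts : ∀ l ∈ LList, ∀ m ∈ LList, (swapM l * m) * (swapM l * m) = 1 →
    swapM l * m ≠ 1 → swapM l * m ≠ zM → l ∈ Q6 ∧ m ∈ Q6 := by decide +kernel

theorem graph_check : ∀ l₁ ∈ Q6, ∀ l₂ ∈ Q6, ∀ m₁ ∈ Q6, ∀ m₂ ∈ Q6,
    (swapM l₁ * l₂) * (swapM m₁ * m₂) = (swapM m₁ * m₂) * (swapM l₁ * l₂) →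
    swapM m₁ * m₂ ≠ swapM l₁ * l₂ → swapM m₁ * m₂ ≠ zM * (swapM l₁ * l₂) →
    m₁ ≠ l₁ ∧ m₁ ≠ zM * l₁ ∧ m₂ ≠ l₂ ∧ m₂ ≠ zM * l₂ := by decide +kernel

theorem swap_kernel : ∀ l ∈ LList, ∀ m ∈ LList, swapM l * m = 1 →
    (l = 1 ∧ m = 1) ∨ (l = zM ∧ m = zM) := by decide +kernel

theorem swap_commute : ∀ l ∈ LList, ∀ m ∈ LList, swapM l * m = m * swapM l ∧
    ¬ Outer (swapM l * m) := by decide +kernel

theorem decomp_check : ∀ x ∈ M0List, ∃ m ∈ LList, swapM (x * m⁻¹) ∈ LList := by decide +kernel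

theorem outer_check : (allMod.all fun x => decide (Outer x → x * kM ∈ M0List)) = true := by
  decide +kernel

theorem outer_kM : Outer kM ∧ kM ∉ M0List ∧ swapM kM = kM := by decide +kernel

/-- The 2-elements of determinant one. -/
def O4 : List Mod := M0List.filter fun x => x ^ 4 == 1

theorem comm_O : ∀ x ∈ O4, ∀ y ∈ O4, x * y * x⁻¹ * y⁻¹ = 1 ∨ x * y * x⁻¹ * y⁻¹ = zM := by
  decide +kernel

theorem inv0_check : ∀ x ∈ Inv0, (∃ g ∈ M0List, g * (swapM wM * wM) * g⁻¹ = x) ∧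
    ∃ p ∈ Inv0, ∃ q ∈ Inv0, p * x = x * p ∧ q * x = x * q ∧ p * q ≠ q * p := by decide +kernel

theorem mem_M0List {x : Mod} : x ∈ M0List ↔ ¬ Outer x := by
  simp [M0List, mem_allMod]

theorem mem_Inv0 {x : Mod} : x ∈ Inv0 ↔ ¬ Outer x ∧ x * x = 1 ∧ x ≠ 1 ∧ x ≠ zM := by
  simp [Inv0, mem_M0List, and_assoc]

theorem mem_O4 {x : Mod} : x ∈ O4 ↔ ¬ Outer x ∧ x ^ 4 = 1 := by
  simp [O4, mem_M0List]

theorem mem_Q6 {x : Mod} : x ∈ Q6 ↔ x ∈ LList ∧ x * x = zM := by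
  simp [Q6]

theorem det_mul_check : ∀ x : Mod, ∀ y : Mod, detV (x * y).1.2 = detV x.1.2 * detV y.1.2 % 3 := by
  intro x y
  rw [Mod.mul_val, nm]
  split
  · exact (mulV_mem _ x.2.2.1 _ y.2.2.1).2
  · show detV (negV (mulV x.1.2 y.1.2)) = _
    rw [(unit_spec _ (mulV_mem _ x.2.2.1 _ y.2.2.1).1).2.1, (mulV_mem _ x.2.2.1 _ y.2.2.1).2]

theorem det_two_cases (x : Mod) : detV x.1.2 = 1 ∨ detV x.1.2 = 2 := (det_cases _ x.2.2.1).1

theorem outer_mul_iff (x y : Mod) : Outer (x * y) ↔ (Outer x ↔ ¬ Outer y) := by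
  unfold Outer
  rw [det_mul_check]
  rcases det_two_cases x with h | h <;> rcases det_two_cases y with h' | h' <;> simp [h, h']

/-- The elements of determinant one, as a subgroup. -/
def M0 : Subgroup Mod where
  carrier := {x | ¬ Outer x}
  one_mem' := by show ¬ Outer 1; decide
  mul_mem' := by
    intro x y hx hy h
    rw [outer_mul_iff] at h
    exact hx (h.2 hy)
  inv_mem' := by
    intro x hx h
    have h1 := (outer_mul_iff x⁻¹ x).2 ⟨fun _ => hx, fun _ => h⟩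
    rw [inv_mul_cancel] at h1
    revert h1; decide

theorem mem_M0 {x : Mod} : x ∈ M0 ↔ ¬ Outer x := Iff.rfl

end Cfsg.Agent.G23Two.Iota
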