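import Mathlib.Data.ZMod.Basic
import Mathlib.Data.Fintype.Basic
import Mathlib.Algebra.BigOperators.Fin
import Mathlib.Tactic.Ring
import Mathlib.Tactic.NormNum

/-!
The model of the centraliser of an involution in `G₂(3)`: pairs of invertible `2 × 2` matrices over the
field with three elements with equal determinants, taken modulo the simultaneous sign.  Matrices are
quadruples of natural numbers below three; a pair is normalised so that the first nonzero entry of the
first matrix is one.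
-/

set_option autoImplicit false
set_option maxRecDepth 100000
set_option maxHeartbeats 1000000

namespace Cfsg.Agent.G23Two

/-- A matrix, by entries. -/
abbrev V : Type := ℕ × ℕ × ℕ × ℕ

/-- A pair of matrices. -/
abbrev P : Type := V × V

def mulV (x y : V) : V :=
  ((x.1 * y.1 + x.2.1 * y.2.2.1) % 3, (x.1 * y.2.1 + x.2.1 * y.2.2.2) % 3,
   (x.2.2.1 * y.1 + x.2.2.2 * y.2.2.1) % 3, (x.2.2.1 * y.2.1 + x.2.2.2 * y.2.2.2) % 3)

def negV (x : V) : V := ((2 * x.1) % 3, (2 * x.2.1) % 3, (2 * x.2.2.1) % 3, (2 * x.2.2.2) % 3)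

def detV (x : V) : ℕ := (x.1 * x.2.2.2 + 2 * (x.2.1 * x.2.2.1)) % 3

def oneV : V := (1, 0, 0, 1)

def invV (x : V) : V :=
  ((detV x * x.2.2.2) % 3, (detV x * (2 * x.2.1)) % 3, (detV x * (2 * x.2.2.1)) % 3, (detV x * x.1) % 3)

/-- The first nonzero entry. -/
def lead (x : V) : ℕ :=
  if x.1 = 0 then (if x.2.1 = 0 then (if x.2.2.1 = 0 then x.2.2.2 else x.2.2.1) else x.2.1) else x.1

def mulP (p q : P) : P := (mulV p.1 q.1, mulV p.2 q.2)

def negP (p : P) : P := (negV p.1, negV p.2)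

/-- The normal form of a pair. -/
def nm (p : P) : P := if lead p.1 = 1 then p else negP p

/-- The matrix with given code. -/
def decV (n : ℕ) : V := (n % 3, n / 3 % 3, n / 9 % 3, n / 27 % 3)

/-- The invertible matrices. -/
def units : List V := ((List.range 81).map decV).filter fun x => !(detV x == 0)

/-- The normalised pairs. -/
def elems : List P :=
  ((units.filter fun x => lead x == 1).flatMap fun a => units.map fun b => (a, b)).filter
    fun p => detV p.1 == detV p.2

/-- The defining conditions. -/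
def OK (p : P) : Prop := p.1 ∈ units ∧ p.2 ∈ units ∧ detV p.1 = detV p.2 ∧ lead p.1 = 1

instance : DecidablePred OK := fun p => inferInstanceAs (Decidable (_ ∧ _ ∧ _ ∧ _))

theorem mem_elems {p : P} : p ∈ elems ↔ OK p := by
  simp only [elems, List.mem_filter, List.mem_flatMap, List.mem_map, OK, beq_iff_eq]
  constructor
  · rintro ⟨⟨a, ⟨ha, hl⟩, b, hb, rfl⟩, hd⟩
    exact ⟨ha, hb, hd, hl⟩
  · rintro ⟨ha, hb, hd, hl⟩
    exact ⟨⟨p.1, ⟨ha, hl⟩, p.2, hb, rfl⟩, hd⟩

theorem mulV_mem : ∀ x ∈ units, ∀ y ∈ units,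
    mulV x y ∈ units ∧ detV (mulV x y) = detV x * detV y % 3 := by decide +kernel

theorem unit_spec : ∀ x ∈ units, negV x ∈ units ∧ detV (negV x) = detV x ∧ negV (negV x) = x ∧
    (lead x = 1 ∨ lead (negV x) = 1) ∧ (lead x = 1 → lead (negV x) ≠ 1) ∧
    mulV oneV x = x ∧ mulV x oneV = x ∧ invV x ∈ units ∧ detV (invV x) = detV x ∧
    mulV (invV x) x = oneV := by decide +kernel

theorem one_mem_units : oneV ∈ units ∧ detV oneV = 1 ∧ lead oneV = 1 := by decide +kernel

theorem mulV_assoc (x y z : V) : mulV (mulV x y) z = mulV x (mulV y z) := by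
  simp only [mulV, Prod.mk.injEq]
  refine ⟨?_, ?_, ?_, ?_⟩ <;>
    refine (ZMod.natCast_eq_natCast_iff' _ _ 3).mp ?_ <;>
    push_cast [ZMod.natCast_mod] <;> ring

theorem mulV_negV_left (x y : V) : mulV (negV x) y = negV (mulV x y) := by
  simp only [mulV, negV, Prod.mk.injEq]
  refine ⟨?_, ?_, ?_, ?_⟩ <;>
    refine (ZMod.natCast_eq_natCast_iff' _ _ 3).mp ?_ <;>
    push_cast [ZMod.natCast_mod] <;> ring

theorem mulV_negV_right (x y : V) : mulV x (negV y) = negV (mulV x y) := by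
  simp only [mulV, negV, Prod.mk.injEq]
  refine ⟨?_, ?_, ?_, ?_⟩ <;>
    refine (ZMod.natCast_eq_natCast_iff' _ _ 3).mp ?_ <;>
    push_cast [ZMod.natCast_mod] <;> ring

/-- Pairs before normalisation. -/
def Pre (p : P) : Prop := p.1 ∈ units ∧ p.2 ∈ units ∧ detV p.1 = detV p.2

theorem pre_mul {p q : P} (hp : Pre p) (hq : Pre q) : Pre (mulP p q) := by
  obtain ⟨a, b, c⟩ := hp
  obtain ⟨a', b', c'⟩ := hq
  exact ⟨(mulV_mem _ a _ a').1, (mulV_mem _ b _ b').1,
    by simp only [mulP, (mulV_mem _ a _ a').2, (mulV_mem _ b _ b').2, c, c']⟩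

theorem pre_neg {p : P} (hp : Pre p) : Pre (negP p) := by
  obtain ⟨a, b, c⟩ := hp
  exact ⟨(unit_spec _ a).1, (unit_spec _ b).1,
    by simp only [negP, (unit_spec _ a).2.1, (unit_spec _ b).2.1, c]⟩

theorem ok_nm {p : P} (hp : Pre p) : OK (nm p) := by
  by_cases h : lead p.1 = 1
  · rw [nm, if_pos h]; exact ⟨hp.1, hp.2.1, hp.2.2, h⟩
  · rw [nm, if_neg h]
    obtain ⟨a, b, c⟩ := pre_neg hp
    exact ⟨a, b, c, ((unit_spec _ hp.1).2.2.2.1).resolve_left h⟩

theorem nm_negP {p : P} (hp : Pre p) : nm (negP p) = nm p := by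
  by_cases h : lead p.1 = 1
  · have h' : lead (negP p).1 ≠ 1 := (unit_spec _ hp.1).2.2.2.2.1 h
    rw [nm, if_neg h', nm, if_pos h]
    exact Prod.ext (unit_spec _ hp.1).2.2.1 (unit_spec _ hp.2.1).2.2.1
  · have h' : lead (negP p).1 = 1 := ((unit_spec _ hp.1).2.2.2.1).resolve_left h
    rw [nm, if_pos h', nm, if_neg h]

theorem nm_mul_left {p q : P} (hp : Pre p) (hq : Pre q) :
    nm (mulP (nm p) q) = nm (mulP p q) := by
  by_cases h : lead p.1 = 1
  · rw [show nm p = p from if_pos h]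
  · rw [show nm p = negP p from if_neg h,
      show mulP (negP p) q = negP (mulP p q) from Prod.ext (mulV_negV_left _ _) (mulV_negV_left _ _),
      nm_negP (pre_mul hp hq)]

theorem nm_mul_right {p q : P} (hp : Pre p) (hq : Pre q) :
    nm (mulP p (nm q)) = nm (mulP p q) := by
  by_cases h : lead q.1 = 1
  · rw [show nm q = q from if_pos h]
  · rw [show nm q = negP q from if_neg h,
      show mulP p (negP q) = negP (mulP p q) from Prod.ext (mulV_negV_right _ _) (mulV_negV_right _ _),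
      nm_negP (pre_mul hp hq)]

theorem OK.pre {p : P} (h : OK p) : Pre p := ⟨h.1, h.2.1, h.2.2.1⟩

/-- The model group. -/
def Mod : Type := {p : P // OK p}

instance : DecidableEq Mod := inferInstanceAs (DecidableEq {p : P // OK p})

instance : Group Mod where
  mul x y := ⟨nm (mulP x.1 y.1), ok_nm (pre_mul x.2.pre y.2.pre)⟩
  one := ⟨(oneV, oneV), one_mem_units.1, one_mem_units.1, rfl, one_mem_units.2.2⟩
  inv x := ⟨nm (invV x.1.1, invV x.1.2), ok_nm ⟨(unit_spec _ x.2.1).2.2.2.2.2.2.2.1,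
    (unit_spec _ x.2.2.1).2.2.2.2.2.2.2.1, by
      simp only [(unit_spec _ x.2.1).2.2.2.2.2.2.2.2.1, (unit_spec _ x.2.2.1).2.2.2.2.2.2.2.2.1, x.2.2.2.1]⟩⟩
  mul_assoc x y z := Subtype.ext <| by
    show nm (mulP (nm (mulP x.1 y.1)) z.1) = nm (mulP x.1 (nm (mulP y.1 z.1)))
    rw [nm_mul_left (pre_mul x.2.pre y.2.pre) z.2.pre, nm_mul_right x.2.pre (pre_mul y.2.pre z.2.pre)]
    simp only [mulP, mulV_assoc]
  one_mul x := Subtype.ext <| by
    show nm (mulP (oneV, oneV) x.1) = x.1
    have e : mulP (oneV, oneV) x.1 = x.1 :=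
      Prod.ext (unit_spec _ x.2.1).2.2.2.2.2.1 (unit_spec _ x.2.2.1).2.2.2.2.2.1
    rw [e, nm, if_pos x.2.2.2.2]
  mul_one x := Subtype.ext <| by
    show nm (mulP x.1 (oneV, oneV)) = x.1
    have e : mulP x.1 (oneV, oneV) = x.1 :=
      Prod.ext (unit_spec _ x.2.1).2.2.2.2.2.2.1 (unit_spec _ x.2.2.1).2.2.2.2.2.2.1
    rw [e, nm, if_pos x.2.2.2.2]
  inv_mul_cancel x := Subtype.ext <| by
    show nm (mulP (nm (invV x.1.1, invV x.1.2)) x.1) = (oneV, oneV)
    rw [nm_mul_left ⟨(unit_spec _ x.2.1).2.2.2.2.2.2.2.1, (unit_spec _ x.2.2.1).2.2.2.2.2.2.2.1, by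
      simp only [(unit_spec _ x.2.1).2.2.2.2.2.2.2.2.1, (unit_spec _ x.2.2.1).2.2.2.2.2.2.2.2.1, x.2.2.2.1]⟩
      x.2.pre]
    have e : mulP (invV x.1.1, invV x.1.2) x.1 = (oneV, oneV) :=
      Prod.ext (unit_spec _ x.2.1).2.2.2.2.2.2.2.2.2 (unit_spec _ x.2.2.1).2.2.2.2.2.2.2.2.2
    rw [e, nm, if_pos one_mem_units.2.2]

/-- All elements of the model, as a list. -/
def allMod : List Mod := elems.attach.map fun p => ⟨p.1, mem_elems.1 p.2⟩

theorem mem_allMod (x : Mod) : x ∈ allMod :=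
  List.mem_map.2 ⟨⟨x.1, mem_elems.2 x.2⟩, List.mem_attach _ _, rfl⟩

theorem elems_nodup : elems.Nodup := by decide +kernel

theorem allMod_nodup : allMod.Nodup := by
  refine List.Nodup.map (fun a b h => ?_) (List.nodup_attach.2 elems_nodup)
  exact Subtype.ext (congrArg (fun x : Mod => x.1) h)

instance : Fintype Mod := ⟨⟨(allMod : Multiset Mod), allMod_nodup⟩, mem_allMod⟩

theorem card_Mod : Fintype.card Mod = 576 := by
  show allMod.length = 576
  refine ((List.length_map ..).trans List.length_attach).trans ?_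
  decide +kernel

/-- A universal statement from a check along the list. -/
theorem forall_of_elems {Q : P → Prop} (h : ∀ p ∈ elems, Q p) (x : Mod) : Q x.1 :=
  h _ (mem_elems.2 x.2)

/-- The element with given code. -/
def dec (n : ℕ) : P := (decV n, decV (n / 81))

/-- The class of an invertible matrix. -/
def kind (x : V) : ℕ :=
  let t := (x.1 + x.2.2.2) % 3
  if detV x = 1 then
    (if x = oneV then 0 else if x = (2, 0, 0, 2) then 1 else if t = 0 then 2 else if t = 2 then 3 else 4)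
  else (if t = 1 then 5 else if t = 2 then 6 else 7)

/-- The two classes of unipotent elements of determinant one are told apart by a square class. -/
def sig (x : V) : ℕ := if x.2.1 = 0 then (2 * x.2.2.1) % 3 else x.2.1

/-- The key of a pair. -/
def key (p : P) : ℕ :=
  let a := kind p.1
  let b := kind p.2
  16 * a + 2 * b +
    if (a = 3 ∨ a = 4) ∧ (b = 3 ∨ b = 4) ∧ sig p.1 = sig p.2 then 1 else 0

/-- The class of a key. -/
def classTable : List ℕ :=
  [18, 20, 19, 20, 15, 20, 17, 20, 16, 20, 20, 20, 20, 20, 20, 20, 19, 20, 18, 20, 15, 20, 16, 20,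
   17, 20, 20, 20, 20, 20, 20, 20, 7, 20, 7, 20, 5, 20, 6, 20, 6, 20, 20, 20, 20, 20, 20, 20, 14, 20,
   13, 20, 8, 20, 11, 9, 12, 10, 20, 20, 20, 20, 20, 20, 13, 20, 14, 20, 8, 20, 12, 10, 11, 9, 20, 20,
   20, 20, 20, 20, 20, 20, 20, 20, 20, 20, 20, 20, 20, 20, 3, 20, 4, 20, 2, 20, 20, 20, 20, 20, 20,
   20, 20, 20, 20, 20, 4, 20, 3, 20, 2, 20, 20, 20, 20, 20, 20, 20, 20, 20, 20, 20, 1, 20, 1, 20, 0,
   20]

/-- The class of an element, as a number below twenty. -/
def clP (p : P) : ℕ := classTable.getD (key p) 20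

/-- Codes of the class representatives. -/
def repCode : List ℕ :=
  [984, 3171, 1011, 3198, 5385, 1722, 3909, 2289, 1749, 3936, 6123, 3450, 5637, 2316, 4584, 1729, 3916,
   6103, 2296, 4564]

/-- The representative of a class. -/
def repP (c : ℕ) : P := dec (repCode.getD c 0)

/-- The sizes of the classes. -/
def sizes : List ℕ :=
  [72, 72, 72, 36, 36, 18, 48, 6, 48, 32, 32, 32, 32, 8, 8, 6, 8, 8, 1, 1]

theorem kind_conj : ∀ x ∈ units, ∀ y ∈ units, kind (mulV (mulV y x) (invV y)) = kind x ∧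
    (kind x = 3 ∨ kind x = 4 → sig (mulV (mulV y x) (invV y)) = detV y * sig x % 3) := by
  decide +kernel

theorem kind_neg : ∀ x ∈ units, ∀ y ∈ units, detV x = detV y →
    classTable.getD (key (negV x, negV y)) 20 = classTable.getD (key (x, y)) 20 := by decide +kernel

theorem sig_scale : ∀ d ∈ [1, 2], ∀ s < 3, ∀ t < 3, (d * s % 3 = d * t % 3 ↔ s = t) := by decide

theorem det_cases : ∀ x ∈ units, (detV x = 1 ∨ detV x = 2) ∧ sig x < 3 := by decide +kernel

theorem clP_nm {p : P} (hp : Pre p) : clP (nm p) = clP p := by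
  by_cases h : lead p.1 = 1
  · rw [show nm p = p from if_pos h]
  · rw [show nm p = negP p from if_neg h]
    exact kind_neg _ hp.1 _ hp.2.1 hp.2.2

theorem clP_conj (x y : Mod) : clP (y * x * y⁻¹).1 = clP x.1 := by
  obtain ⟨hy1, hy2, hyd, -⟩ := y.2
  obtain ⟨hx1, hx2, hxd, -⟩ := x.2
  set q : P := (mulV (mulV y.1.1 x.1.1) (invV y.1.1), mulV (mulV y.1.2 x.1.2) (invV y.1.2)) with hq
  have hinv : Pre (invV y.1.1, invV y.1.2) :=
    ⟨(unit_spec _ hy1).2.2.2.2.2.2.2.1, (unit_spec _ hy2).2.2.2.2.2.2.2.1, by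
      simp only [(unit_spec _ hy1).2.2.2.2.2.2.2.2.1, (unit_spec _ hy2).2.2.2.2.2.2.2.2.1, hyd]⟩
  have he : (y * x * y⁻¹).1 = nm q := by
    show nm (mulP (nm (mulP y.1 x.1)) (nm (invV y.1.1, invV y.1.2))) = nm q
    rw [nm_mul_right (ok_nm (pre_mul y.2.pre x.2.pre)).pre hinv,
      nm_mul_left (pre_mul y.2.pre x.2.pre) hinv]
    rfl
  have hqp : Pre q := by
    have := pre_mul (pre_mul y.2.pre x.2.pre) hinv
    exact this
  rw [he, clP_nm hqp]
  obtain ⟨k1, s1⟩ := kind_conj _ hx1 _ hy1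
  obtain ⟨k2, s2⟩ := kind_conj _ hx2 _ hy2
  have hk : key q = key x.1 := by
    simp only [key, hq, k1, k2]
    congr 1
    by_cases h1 : kind x.1.1 = 3 ∨ kind x.1.1 = 4
    · by_cases h2 : kind x.1.2 = 3 ∨ kind x.1.2 = 4
      · refine if_congr ?_ rfl rfl
        rw [s1 h1, s2 h2, ← hyd]
        have hd : detV y.1.1 ∈ [1, 2] := by simpa using (det_cases _ hy1).1
        have := sig_scale _ hd _ (det_cases _ hx1).2 _ (det_cases _ hx2).2
        simp [this]
      · simp [h2]
    · simp [h1]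
  simp only [clP, hk]

theorem clP_lt : ∀ p ∈ elems, clP p < 20 := by decide +kernel

/-- The class of an element. -/
def cl (x : Mod) : Fin 20 := ⟨clP x.1, forall_of_elems clP_lt x⟩

theorem cl_val (x : Mod) : (cl x).val = clP x.1 := by simp only [cl]

theorem cl_conj (x y : Mod) : cl (y * x * y⁻¹) = cl x :=
  Fin.ext ((cl_val _).trans ((clP_conj x y).trans (cl_val x).symm))

theorem repP_check : ((List.range 20).all fun c => decide (repP c ∈ elems ∧ clP (repP c) = c)) =
    true := by decide +kernel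

theorem repP_mem (c : ℕ) (hc : c < 20) : repP c ∈ elems ∧ clP (repP c) = c :=
  of_decide_eq_true (List.all_eq_true.1 repP_check c (List.mem_range.2 hc))

/-- The representative. -/
def rep (c : Fin 20) : Mod := ⟨repP c, mem_elems.1 (repP_mem c c.2).1⟩

theorem cl_rep (c : Fin 20) : cl (rep c) = c := Fin.ext ((cl_val _).trans (repP_mem c c.2).2)

theorem conj_repP : (elems.all fun p => elems.any fun k =>
    nm (mulP (nm (mulP k (repP (clP p)))) (nm (invV k.1, invV k.2))) == p) = true := by decide +kernel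

theorem conj_rep (x : Mod) : ∃ k : Mod, k * rep (cl x) * k⁻¹ = x := by
  have h := List.all_eq_true.1 conj_repP x.1 (mem_elems.2 x.2)
  obtain ⟨k, hk, hk'⟩ := List.any_eq_true.1 h
  exact ⟨⟨k, mem_elems.1 hk⟩, Subtype.ext (beq_iff_eq.1 hk')⟩

theorem size_check : (sizes.zipIdx.all fun s => (elems.filter fun p => clP p == s.2).length == s.1) =
    true := by decide +kernel

/-- The central involution. -/
def zM : Mod := rep 19

/-- The classes with a power equal to the central involution. -/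
def special : List ℕ := [1, 2, 6, 7, 8, 10, 12, 13, 15, 16, 19]

/-- The special elements. -/
def Dset (x : Mod) : Prop := clP x.1 ∈ special

instance : DecidablePred Dset := fun x => inferInstanceAs (Decidable (_ ∈ _))

theorem special_pow : ∀ c : Fin 20, (c : ℕ) ∈ special → ∃ k : Fin 13, rep c ^ (k : ℕ) = zM := by
  decide +kernel

theorem real_rep : ∀ c : Fin 20, cl (rep c)⁻¹ = c := by decide +kernel

theorem zM_central : ∀ p ∈ elems, nm (mulP (repP 19) p) = nm (mulP p (repP 19)) := by decide +kernel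

theorem zM_comm (x : Mod) : zM * x = x * zM := Subtype.ext (forall_of_elems zM_central x)

end Cfsg.Agent.G23Two
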