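import Cfsg.Agent.Lib.G23Two.Rows

/-!
The order of the group: four combinations of the virtual characters involve eight characters only, and the sums of
their degrees and the counts of pairs of involutions determine the order.
-/

set_option autoImplicit false
set_option maxRecDepth 100000
set_option maxHeartbeats 1000000
set_option linter.style.haveILetI false
set_option linter.unusedSectionVars false

namespace Cfsg.Agent.G23Two

open Cfsg Cfsg.Agent.Char Cfsg.Agent.LocalTI

universe u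

/-! ## Arithmetic -/

/-- A nonzero sum of the second pair of degrees is impossible. -/
theorem no_sum {U S B C R X : ℚ} {s t : ℚ} (hst : (s = 36 ∧ t = 4) ∨ (s = 4 ∧ t = 36))
    (hU : U ≠ 0) (hS : S ≠ 0) (hB : B ≠ 0) (hC : C ≠ 0) (hR : R ≠ 0) (hX : X ≠ 0)
    (h0 : R + U + S = 0) (h4 : X + B = C) (h15 : U = C + S + B)
    (hT : 64 / R + t / U + s / S + (64 / X + s / B - t / C) = 0)
    (hP : t / U - t / C = s / S + s / B) : B = -S := by
  by_contra hne
  have hP0 : S + B ≠ 0 := fun h => hne (by linarith)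
  have hprod : s * R * X = 64 * S * B := by
    have h1 : 64 / R + 64 / X + 2 * (s / S + s / B) = 0 := by linear_combination hT - hP
    field_simp at h1
    have h2 : R + X = -2 * (S + B) := by linarith
    refine mul_left_cancel₀ hP0 ?_
    linear_combination (1 / 2 : ℚ) * h1 - 32 * (S * B) * h2
  have hUC : s * (U * C) = -(t * (S * B)) := by
    have h1 := hP
    field_simp at h1
    refine mul_left_cancel₀ hP0 ?_
    have h2 : C - U = -(S + B) := by linarith
    linear_combination -h1 + t * (S * B) * h2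
  obtain rfl : U = C + S + B := h15
  obtain rfl : X = C - B := by linarith
  obtain rfl : R = -(C + S + B + S) := by linarith
  have key : B * (4 * S * (S + B) ^ 2) = 0 := by
    rcases hst with ⟨rfl, rfl⟩ | ⟨rfl, rfl⟩
    · have hQ : 9 * C ^ 2 + 9 * C * S + 9 * C * B + S * B = 0 := by linear_combination (1 / 4 : ℚ) * hUC
      have hL : 3 * C * (B - S) + 3 * B ^ 2 + S * B = 0 := by
        linear_combination (1 / 12 : ℚ) * hprod + (1 / 12 : ℚ) * hUC
      linear_combination (B - S) ^ 2 * hQ -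
        ((3 * C * (B - S) + 3 * B ^ 2 + S * B) - 2 * (3 * B ^ 2 + S * B) + 3 * (S + B) * (B - S)) * hL
    · have hQ : C ^ 2 + C * S + C * B + 9 * S * B = 0 := by linear_combination (1 / 4 : ℚ) * hUC
      have hL : C * (B - S) + B ^ 2 - 5 * S * B = 0 := by
        linear_combination (1 / 4 : ℚ) * hprod + (1 / 4 : ℚ) * hUC
      linear_combination (B - S) ^ 2 * hQ -
        ((C * (B - S) + B ^ 2 - 5 * S * B) - 2 * (B ^ 2 - 5 * S * B) + (S + B) * (B - S)) * hL
  have h1 : B * (4 * S * (S + B) ^ 2) ≠ 0 :=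
    mul_ne_zero hB (mul_ne_zero (mul_ne_zero (by norm_num) hS) (pow_ne_zero 2 hP0))
  exact h1 key

/-- The divisors of a small number. -/
def divsOf (n : ℕ) : List ℕ := (List.range (n + 1)).filter fun d => n % d == 0

/-- The possible values of `|x + 8|`. -/
def kList : List ℕ :=
  (divsOf 512).flatMap fun a => (divsOf 81).flatMap fun b => (divsOf 5).map fun c => a * b * c

/-- Moduli showing that a number is not a square. -/
def moduli : List ℕ := [5, 7, 11, 13, 17, 19, 23, 29, 31, 37, 41, 43, 47]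

/-- Not a square for a reason visible modulo a small number. -/
def notSq (d : ℤ) : Bool :=
  decide (d < 0) || moduli.any fun p => (List.range p).all fun i => d % (p : ℤ) != ((i * i % p : ℕ) : ℤ)

theorem not_sq_of {d r : ℤ} (h : notSq d = true) : r * r ≠ d := by
  rintro rfl
  rw [notSq, Bool.or_eq_true, decide_eq_true_eq] at h
  rcases h with h | h
  · exact absurd (mul_self_nonneg r) (not_le.2 h)
  · obtain ⟨p, hp, h⟩ := List.any_eq_true.1 h
    have hp0 : 0 < p := by
      have : ∀ q ∈ moduli, 0 < q := by decide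
      exact this p hp
    have hm : 0 ≤ r % (p : ℤ) := Int.emod_nonneg _ (by omega)
    have hlt : r % (p : ℤ) < p := Int.emod_lt_of_pos _ (by omega)
    obtain ⟨i, hi⟩ := Int.eq_ofNat_of_zero_le hm
    have h1 := List.all_eq_true.1 h i (List.mem_range.2 (by omega))
    rw [bne_iff_ne] at h1
    refine h1 ?_
    rw [Int.mul_emod, hi, Int.natCast_mod, Int.natCast_mul]

/-- The candidate value of `x` gives no admissible order. -/
def deadX (k : ℕ) (x s t : ℤ) : Bool :=
  let num := 4147200 * (x * (x - 1))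
  let N := num / ((k * k : ℕ) : ℤ)
  let a := 64 * N - 497664 * x
  let b := a * x + N * x * (s - t)
  let c := N * x * x * s
  x == 0 || x == 1 || x == -728 || num % ((k * k : ℕ) : ℤ) != 0 || N % 576 != 0 ||
    notSq (b * b - 4 * a * c) ||
    (x == -13 && b * b - 4 * a * c == 1261578240 * 1261578240 &&
      (-b + 1261578240) % (2 * a) != 0 && (-b - 1261578240) % (2 * a) != 0)

theorem deadX_check : (kList.all fun k => ([(36, 4), (4, 36)] : List (ℤ × ℤ)).all fun st =>
    deadX k ((k : ℤ) - 8) st.1 st.2 && deadX k (-(k : ℤ) - 8) st.1 st.2) = true := by decide +kernel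

theorem kList_mem {k : ℕ} (h : k ∣ 512 * 81 * 5) : k ∈ kList := by
  obtain ⟨ab, c, hab, hc, rfl⟩ := Nat.dvd_mul.1 h
  obtain ⟨a, b, ha, hb, rfl⟩ := Nat.dvd_mul.1 hab
  have e : ∀ n d : ℕ, 0 < n → d ∣ n → d ∈ divsOf n := fun n d hn hd =>
    List.mem_filter.2 ⟨List.mem_range.2 (Nat.lt_succ_of_le (Nat.le_of_dvd hn hd)),
      beq_iff_eq.2 (Nat.mod_eq_zero_of_dvd hd)⟩
  simp only [kList, List.mem_flatMap, List.mem_map]
  exact ⟨a, e _ _ (by norm_num) ha, b, e _ _ (by norm_num) hb, c, e _ _ (by norm_num) hc, rfl⟩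

/-- The order and the first degree. -/
theorem arith_final {N x B : ℤ} {s t : ℤ} (hst : (s = 36 ∧ t = 4) ∨ (s = 4 ∧ t = 36))
    (hN : 0 < N) (h576 : 576 ∣ N) (hx0 : x ≠ 0) (hx1 : x ≠ 1)
    (h1 : N * ((x + 8) * (x + 8)) = 4147200 * (x * (x - 1)))
    (h2 : N * (64 * B * (B + x) + s * x * (B + x) - t * x * B) = 497664 * (x * B * (B + x))) :
    N = 4245696 ∧ x = -728 ∧
      ((s = 36 ∧ (B = 182 ∨ B = 702)) ∨ (s = 4 ∧ (B = 26 ∨ B = 546))) := by
  have hne : x + 8 ≠ 0 := by
    intro h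
    rw [h, mul_zero, mul_zero] at h1
    rcases mul_eq_zero.1 h1.symm with h | h
    · norm_num at h
    · rcases mul_eq_zero.1 h with h | h <;> omega
  set k := (x + 8).natAbs with hk
  have hkk : ((k * k : ℕ) : ℤ) = (x + 8) * (x + 8) := by rw [Nat.cast_mul, Int.natAbs_mul_self']
  have hkdvd : k ∣ 512 * 81 * 5 := by
    have h3 : (x + 8) * (x + 8) ∣ 4147200 * 5184 := by
      refine ⟨N * (72 + 17 * (x + 8)) - 4147200 * (72 + 17 * (x + 8)) + 4147200 * 289, ?_⟩
      linear_combination -(72 + 17 * (x + 8)) * h1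
    rw [← hkk] at h3
    have h4 : k * k ∣ 4147200 * 5184 := by exact_mod_cast h3
    have h5 : k ^ 2 ∣ (512 * 81 * 5) ^ 2 := (pow_two k) ▸ h4.trans (by norm_num)
    exact (Nat.pow_dvd_pow_iff two_ne_zero).1 h5
  have hdead := List.all_eq_true.1 deadX_check k (kList_mem hkdvd)
  have hd : deadX k x s t = true := by
    have h3 := List.all_eq_true.1 hdead (s, t) (by
      rcases hst with ⟨rfl, rfl⟩ | ⟨rfl, rfl⟩ <;> simp)
    rw [Bool.and_eq_true] at h3
    rcases Int.natAbs_eq (x + 8) with e | e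
    · rw [show x = (k : ℤ) - 8 by omega]; exact h3.1
    · rw [show x = -(k : ℤ) - 8 by omega]; exact h3.2
  have hnum : 4147200 * (x * (x - 1)) = N * ((k * k : ℕ) : ℤ) := by rw [hkk, h1]
  have hk0 : ((k * k : ℕ) : ℤ) ≠ 0 := by rw [hkk]; exact mul_ne_zero hne hne
  have hNe : 4147200 * (x * (x - 1)) / ((k * k : ℕ) : ℤ) = N := by
    rw [hnum, Int.mul_ediv_cancel _ hk0]
  simp only [deadX, Bool.or_eq_true, Bool.and_eq_true, beq_iff_eq, bne_iff_ne, hNe] at hd
  set a := 64 * N - 497664 * x with ha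
  set b := a * x + N * x * (s - t) with hb
  have hquad : (2 * a * B + b) * (2 * a * B + b) = b * b - 4 * a * (N * x * x * s) := by
    simp only [hb, ha]
    linear_combination (4 * (64 * N - 497664 * x)) * h2
  rcases hd with (((((h | h) | h) | h) | h) | h) | h
  · exact absurd h hx0
  · exact absurd h hx1
  · subst h
    have hN' : N = 4245696 := by norm_num at h1 ⊢; omega
    subst hN'
    refine ⟨rfl, rfl, ?_⟩
    rcases hst with ⟨rfl, rfl⟩ | ⟨rfl, rfl⟩
    · have h3 : (B - 182) * (B - 702) = 0 := by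
        refine (mul_eq_zero.1 (show (634023936 : ℤ) * ((B - 182) * (B - 702)) = 0 from ?_)).resolve_left
          (by norm_num)
        linear_combination h2
      rcases mul_eq_zero.1 h3 with e | e
      · exact Or.inl ⟨rfl, Or.inl (by omega)⟩
      · exact Or.inl ⟨rfl, Or.inr (by omega)⟩
    · have h3 : (B - 26) * (B - 546) = 0 := by
        refine (mul_eq_zero.1 (show (634023936 : ℤ) * ((B - 26) * (B - 546)) = 0 from ?_)).resolve_left
          (by norm_num)
        linear_combination h2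
      rcases mul_eq_zero.1 h3 with e | e
      · exact Or.inr ⟨rfl, Or.inl (by omega)⟩
      · exact Or.inr ⟨rfl, Or.inr (by omega)⟩
  · exact absurd (by rw [hnum]; exact Int.mul_emod_left _ _) h
  · exact absurd (Int.emod_eq_zero_of_dvd h576) h
  · exact absurd hquad (not_sq_of h)
  · obtain ⟨⟨⟨-, hd2⟩, hp⟩, hm⟩ := h
    rw [hd2] at hquad
    rcases mul_self_eq_mul_self_iff.1 hquad with e | e
    · exact absurd (Int.emod_eq_zero_of_dvd ⟨B, by linarith⟩) hp
    · exact absurd (Int.emod_eq_zero_of_dvd ⟨B, by linarith⟩) hm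

/-! ## The eight characters -/

/-- The four combinations. -/
def proj (r : List ℤ) : List ℤ :=
  [-r.getD 1 0, -r.getD 0 0, -r.getD 3 0, -(r.getD 2 0 + r.getD 4 0)]

/-- The first nonzero entry is negative. -/
def firstNeg : List ℤ → Bool
  | [] => false
  | a :: l => if a < 0 then true else if 0 < a then false else firstNeg l

/-- The sign normalising the four combinations. -/
def projSign (r : List ℤ) : ℤ := if firstNeg (proj r) then -1 else 1

/-- The normalised combinations with the square of the value at the involution. -/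
def projKey (r : List ℤ) : List ℤ × ℤ :=
  ((proj r).map fun e => projSign r * e, rowVal 10 r * rowVal 10 r)

/-- The expected keys. -/
def template (s t : ℤ) : List (List ℤ × ℤ) :=
  [([0, 1, 0, 0], 81), ([0, 0, 1, 0], 64), ([1, 0, 0, 0], 64), ([0, 0, 1, -1], s), ([0, 1, -1, -1], t),
   ([1, 0, 0, 1], t), ([1, 1, 0, -1], s)]

/-- The shape of a configuration. -/
def hasShape (S : List (List ℤ)) : Bool :=
  match S with
  | [] => false
  | h :: T => proj h == [0, 1, 0, 0] && rowVal 10 h == 1 &&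
      (decide (((T.filter fun r => proj r != [0, 0, 0, 0]).map projKey).Perm (template 36 4)) ||
        decide (((T.filter fun r => proj r != [0, 0, 0, 0]).map projKey).Perm (template 4 36)))

theorem finals_shape : (finals.all hasShape) = true := by decide +kernel

/-- The degree with the sign of the column. -/
noncomputable def sdeg {G : Type u} [Group G] (p : IrrCharacter G × ℤ) : ℤ :=
  p.2 * (charDegree (p.1 : G → ℂ) : ℤ)

variable {G : Type u} [Group G] [Fintype G] {φ : Mod →* G}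

/-- The combination of the coordinates. -/
noncomputable def comb (φ : Mod →* G) (w : Fin 4) (χ : IrrCharacter G) : ℤ :=
  ![-F φ 1 χ, -F φ 0 χ, -F φ 3 χ, -(F φ 2 χ + F φ 4 χ)] w

theorem proj_rowOf (w : Fin 4) (p : IrrCharacter G × ℤ) :
    (proj (rowOf (F φ) 11 p)).getD w.val 0 = p.2 * comb φ w p.1 := by
  have e : ∀ j, j < 11 → (rowOf (F φ) 11 p).getD j 0 = p.2 * F φ j p.1 := fun j hj => by
    rw [rowOf, getD_map_range _ hj]
  simp only [proj, comb, e 0 (by norm_num), e 1 (by norm_num), e 2 (by norm_num), e 3 (by norm_num),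
    e 4 (by norm_num)]
  fin_cases w <;> simp [mul_add]

theorem Hyp.comb_degree (H : Hyp φ) (w : Fin 4) :
    ∑ χ : IrrCharacter G, comb φ w χ * (charDegree (χ : G → ℂ) : ℤ) = 0 := by
  have h0 := H.F_degree 0
  have h1 := H.F_degree 1
  have h2 := H.F_degree 2
  have h3 := H.F_degree 3
  have h4 := H.F_degree 4
  fin_cases w <;>
    simp only [comb, Fin.zero_eta, Fin.mk_one, Fin.reduceFinMk, Matrix.cons_val, neg_mul, add_mul,
      Finset.sum_neg_distrib, Finset.sum_add_distrib] <;>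
    simp only [Fin.val_zero, Fin.val_one, Fin.val_two, show ((3 : Fin 11) : ℕ) = 3 from rfl,
      show ((4 : Fin 11) : ℕ) = 4 from rfl] at h0 h1 h2 h3 h4 <;> linarith

/-- The value at the involution as an integer. -/
noncomputable def zval (φ : Mod →* G) (χ : IrrCharacter G) : ℤ := rowVal 10 (rowOf (F φ) 11 (χ, 1))

theorem zval_spec (χ : IrrCharacter G) : (zval φ χ : ℂ) = (χ : G → ℂ) (φ zM) := by
  rw [zval, rowVal_spec, Int.cast_one, one_mul]
  rfl

theorem rowVal_ten (p : IrrCharacter G × ℤ) : rowVal 10 (rowOf (F φ) 11 p) = p.2 * zval φ p.1 := by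
  have h : (rowVal 10 (rowOf (F φ) 11 p) : ℂ) = ((p.2 * zval φ p.1 : ℤ) : ℂ) := by
    rw [show p = (p.1, p.2) from rfl, rowVal_spec, Int.cast_mul, zval_spec]
    rfl
  exact_mod_cast h

/-- The pair counts in each coordinate. -/
theorem Hyp.pair_coord (H : Hyp φ) (k : Fin 11) :
    (Nat.card G : ℚ) * ∑ χ : IrrCharacter G,
      (F φ k χ : ℚ) * (zval φ χ : ℚ) ^ 2 / (charDegree (χ : G → ℂ) : ℚ) = 576 * (pairTot k : ℚ) := by
  have h := H.pair_eq k
  simp only [← F_eq, ← zval_spec, CharX.irr_deg] at h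
  apply (Rat.cast_injective (α := ℂ))
  push_cast
  rw [← h]
  congr 1
  exact Finset.sum_congr rfl fun χ _ => by ring

theorem Hyp.comb_pairs (H : Hyp φ) (w : Fin 4) :
    (Nat.card G : ℚ) * ∑ χ : IrrCharacter G,
      (comb φ w χ : ℚ) * (zval φ χ : ℚ) ^ 2 / (charDegree (χ : G → ℂ) : ℚ) =
      576 * ![864, 8064, -864, 0] w := by
  have h0 := H.pair_coord 0
  have h1 := H.pair_coord 1
  have h2 := H.pair_coord 2
  have h3 := H.pair_coord 3
  have h4 := H.pair_coord 4
  simp only [pairTot_eq, Fin.val_zero, Fin.val_one, Fin.val_two, show ((3 : Fin 11) : ℕ) = 3 from rfl,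
    show ((4 : Fin 11) : ℕ) = 4 from rfl, List.getD_cons_zero, List.getD_cons_succ] at h0 h1 h2 h3 h4
  fin_cases w <;>
    simp only [comb, Fin.zero_eta, Fin.mk_one, Fin.reduceFinMk, Matrix.cons_val, Int.cast_neg, Int.cast_add,
      neg_mul, add_mul, neg_div, add_div, Finset.sum_neg_distrib, Finset.sum_add_distrib, mul_neg, mul_add] <;>
    push_cast at h0 h1 h2 h3 h4 ⊢ <;> linarith

/-- The eight characters of the four combinations. -/
theorem Hyp.exists_eight (H : Hyp φ) (o : IrrCharacter G) (L : List (IrrCharacter G × ℤ))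
    {S : List (List ℤ)} (hS : S ∈ finals) (hL : ((o, 1) :: L).map (rowOf (F φ) 11) = S)
    (hnd : (((o, 1) :: L).map Prod.fst).Nodup) (hsgn : ∀ p ∈ L, p.2 = 1 ∨ p.2 = -1)
    (hout : ∀ i, i ∉ ((o, 1) :: L).map Prod.fst → ∀ j < 11, F φ j i = 0) :
    ∃ s t : ℤ, ((s = 36 ∧ t = 4) ∨ (s = 4 ∧ t = 36)) ∧ ∃ l : List (IrrCharacter G × ℤ),
      l.Perm (L.filter fun p => proj (rowOf (F φ) 11 p) != [0, 0, 0, 0]) ∧
      l.map (fun p => projKey (rowOf (F φ) 11 p)) = template s t ∧
      proj (rowOf (F φ) 11 (o, 1)) = [0, 1, 0, 0] ∧ rowVal 10 (rowOf (F φ) 11 (o, 1)) = 1 := by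
  have h := List.all_eq_true.1 finals_shape S hS
  rw [← hL, List.map_cons] at h
  simp only [hasShape, Bool.and_eq_true, Bool.or_eq_true, decide_eq_true_eq, beq_iff_eq,
    List.filter_map, List.map_map, Function.comp_def] at h
  obtain ⟨⟨hp, hv⟩, h | h⟩ := h
  · obtain ⟨l, h1, h2⟩ := exists_perm_map _ h
    exact ⟨36, 4, Or.inl ⟨rfl, rfl⟩, l, h1.symm, h2, hp, hv⟩
  · obtain ⟨l, h1, h2⟩ := exists_perm_map _ h
    exact ⟨4, 36, Or.inr ⟨rfl, rfl⟩, l, h1.symm, h2, hp, hv⟩

/-- The signed degree of a column, after normalising the four combinations. -/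
noncomputable def ndeg (φ : Mod →* G) (p : IrrCharacter G × ℤ) : ℤ :=
  projSign (rowOf (F φ) 11 p) * sdeg p

theorem projSign_cases (r : List ℤ) : projSign r = 1 ∨ projSign r = -1 := by
  unfold projSign
  split_ifs <;> simp

/-- The order, and the degree of the first character of the eight. -/
theorem Hyp.order_and_degrees (H : Hyp φ) (o : IrrCharacter G) (ho : ∀ g, (o : G → ℂ) g = 1)
    (L : List (IrrCharacter G × ℤ)) {S : List (List ℤ)} (hS : S ∈ finals)
    (hL : ((o, 1) :: L).map (rowOf (F φ) 11) = S)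
    (hnd : (((o, 1) :: L).map Prod.fst).Nodup) (hsgn : ∀ p ∈ L, p.2 = 1 ∨ p.2 = -1)
    (hout : ∀ i, i ∉ ((o, 1) :: L).map Prod.fst → ∀ j < 11, F φ j i = 0) :
    (Nat.card G : ℤ) = 4245696 ∧ ∃ (s t y : ℤ) (l : List (IrrCharacter G × ℤ)),
      ((s = 36 ∧ t = 4 ∧ (y = 182 ∨ y = 702)) ∨ (s = 4 ∧ t = 36 ∧ (y = 26 ∨ y = 546))) ∧
      l.Perm (L.filter fun p => proj (rowOf (F φ) 11 p) != [0, 0, 0, 0]) ∧
      l.map (fun p => projKey (rowOf (F φ) 11 p)) = template s t ∧
      l.map (ndeg φ) = [-729, 728, -728, -y, 728 - y, 728 - y, y] := by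
  classical
  obtain ⟨s, t, hst, l, hperm, hkey, hop, hov⟩ := H.exists_eight o L hS hL hnd hsgn hout
  obtain ⟨pE, pX, pR, pB, pC, pU, pS, rfl⟩ : ∃ a b c d e f g, l = [a, b, c, d, e, f, g] := by
    have hlen := congrArg List.length hkey
    simp only [List.length_map, template, List.length_cons, List.length_nil] at hlen
    match l, hlen with
    | [a, b, c, d, e, f, g], _ => exact ⟨a, b, c, d, e, f, g, rfl⟩
  simp only [List.map_cons, List.map_nil, template, List.cons.injEq, projKey, Prod.mk.injEq, and_true] at hkey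
  obtain ⟨⟨kE, vE⟩, ⟨kX, vX⟩, ⟨kR, vR⟩, ⟨kB, vB⟩, ⟨kC, vC⟩, ⟨kU, vU⟩, kS, vS⟩ := hkey
  set row : IrrCharacter G × ℤ → List ℤ := fun p => rowOf (F φ) 11 p with hrow
  have hmem : ∀ p ∈ [pE, pX, pR, pB, pC, pU, pS], p.2 = 1 ∨ p.2 = -1 := fun p hp =>
    hsgn p (List.mem_of_mem_filter (hperm.mem_iff.1 hp))
  -- sums over the characters reduce to the eight
  have hsum : ∀ f : IrrCharacter G → ℚ, (∀ χ, (∀ w, comb φ w χ = 0) → f χ = 0) →
      ∑ χ, f χ = f o + (f pE.1 + f pX.1 + f pR.1 + f pB.1 + f pC.1 + f pU.1 + f pS.1) := by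
    intro f hf
    rw [sum_cover ((o, (1 : ℤ)) :: L) hnd f fun χ hχ => hf χ fun w => by
      have e : ∀ j, j < 11 → F φ j χ = 0 := hout χ hχ
      fin_cases w <;> simp [comb, e 0, e 1, e 2, e 3, e 4]]
    rw [List.map_cons, List.sum_cons]
    congr 1
    have hz : ∀ p ∈ L, proj (rowOf (F φ) 11 p) = [0, 0, 0, 0] → f p.1 = 0 := by
      intro p hp h0
      refine hf _ fun w => ?_
      have h1 := proj_rowOf (φ := φ) w p
      rw [h0] at h1
      have h2 : ([0, 0, 0, 0] : List ℤ).getD w.val 0 = 0 := by fin_cases w <;> rfl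
      rw [h2] at h1
      rcases hsgn p hp with e | e <;> rw [e] at h1 <;> linarith
    have hsplit : ∀ M : List (IrrCharacter G × ℤ), (∀ p ∈ M, proj (rowOf (F φ) 11 p) = [0, 0, 0, 0] → f p.1 = 0) →
        (M.map fun p => f p.1).sum =
          ((M.filter fun p => proj (rowOf (F φ) 11 p) != [0, 0, 0, 0]).map fun p => f p.1).sum := by
      intro M hM
      induction M with
      | nil => rfl
      | cons q M ih =>
        rw [List.map_cons, List.sum_cons, ih fun p hp => hM p (List.mem_cons_of_mem _ hp), List.filter_cons]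
        by_cases hq : proj (rowOf (F φ) 11 q) = [0, 0, 0, 0]
        · simp [hq, hM q List.mem_cons_self hq]
        · simp [hq]
    rw [hsplit L hz, ← (hperm.map fun p => f p.1).sum_eq]
    simp only [List.map_cons, List.map_nil, List.sum_cons, List.sum_nil, add_zero, add_assoc]
  -- one term
  have hterm : ∀ p ∈ [pE, pX, pR, pB, pC, pU, pS], ∀ (k : List ℤ) (v : ℤ),
      (proj (row p)).map (fun e => projSign (row p) * e) = k → rowVal 10 (row p) * rowVal 10 (row p) = v →
      ∀ w : Fin 4, (comb φ w p.1 : ℚ) * (charDegree (p.1 : G → ℂ) : ℚ) = (k.getD w.val 0 : ℚ) * (ndeg φ p : ℚ) ∧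
        (comb φ w p.1 : ℚ) * (zval φ p.1 : ℚ) ^ 2 / (charDegree (p.1 : G → ℂ) : ℚ) =
          (k.getD w.val 0 : ℚ) * (v / (ndeg φ p : ℚ)) := by
    intro p hp k v hk hv w
    have h1 : k.getD w.val 0 = projSign (row p) * (p.2 * comb φ w p.1) := by
      rw [← hk, ← proj_rowOf]
      fin_cases w <;> simp [proj, hrow]
    have hd : (charDegree (p.1 : G → ℂ) : ℚ) ≠ 0 := Nat.cast_ne_zero.2 (CharX.irr_deg_pos p.1).ne'
    have hv' : (v : ℚ) = (zval φ p.1 : ℚ) ^ 2 := by
      rw [← hv, show rowVal 10 (row p) = p.2 * zval φ p.1 from rowVal_ten p]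
      rcases hmem p hp with e | e <;> rw [e] <;> push_cast <;> ring
    rw [hv', h1, ndeg, sdeg]
    rcases hmem p hp with e | e <;> rcases projSign_cases (row p) with e' | e' <;>
      · simp only [hrow] at e'
        simp only [hrow, e, e']
        push_cast
        constructor <;> field_simp
  have ho1 : charDegree (o : G → ℂ) = 1 := by
    have h := CharX.irr_deg o
    rw [ho 1] at h
    exact_mod_cast h.symm
  have hoz : zval φ o = 1 := by
    have h := rowVal_ten (φ := φ) (o, 1)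
    rw [hov, one_mul] at h
    exact h.symm
  have hoc : ∀ w, comb φ w o = ([0, 1, 0, 0] : List ℤ).getD w.val 0 := by
    intro w
    rw [← hop, proj_rowOf, one_mul]
  have lin : ∀ w, ((comb φ w o : ℚ) + ((comb φ w pE.1 : ℚ) * charDegree (pE.1 : G → ℂ) +
      (comb φ w pX.1 : ℚ) * charDegree (pX.1 : G → ℂ) + (comb φ w pR.1 : ℚ) * charDegree (pR.1 : G → ℂ) +
      (comb φ w pB.1 : ℚ) * charDegree (pB.1 : G → ℂ) + (comb φ w pC.1 : ℚ) * charDegree (pC.1 : G → ℂ) +
      (comb φ w pU.1 : ℚ) * charDegree (pU.1 : G → ℂ) + (comb φ w pS.1 : ℚ) * charDegree (pS.1 : G → ℂ))) = 0 := by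
    intro w
    have h := hsum (fun χ => (comb φ w χ : ℚ) * charDegree (χ : G → ℂ)) (fun χ hχ => by simp [hχ w])
    have h0 : ∑ χ : IrrCharacter G, (comb φ w χ : ℚ) * charDegree (χ : G → ℂ) = 0 := by
      exact_mod_cast H.comb_degree w
    rw [h0] at h
    simp only [ho1, Nat.cast_one, mul_one] at h
    linarith
  have quad : ∀ w, (Nat.card G : ℚ) * ((comb φ w o : ℚ) +
      ((comb φ w pE.1 : ℚ) * (zval φ pE.1 : ℚ) ^ 2 / charDegree (pE.1 : G → ℂ) +
      (comb φ w pX.1 : ℚ) * (zval φ pX.1 : ℚ) ^ 2 / charDegree (pX.1 : G → ℂ) +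
      (comb φ w pR.1 : ℚ) * (zval φ pR.1 : ℚ) ^ 2 / charDegree (pR.1 : G → ℂ) +
      (comb φ w pB.1 : ℚ) * (zval φ pB.1 : ℚ) ^ 2 / charDegree (pB.1 : G → ℂ) +
      (comb φ w pC.1 : ℚ) * (zval φ pC.1 : ℚ) ^ 2 / charDegree (pC.1 : G → ℂ) +
      (comb φ w pU.1 : ℚ) * (zval φ pU.1 : ℚ) ^ 2 / charDegree (pU.1 : G → ℂ) +
      (comb φ w pS.1 : ℚ) * (zval φ pS.1 : ℚ) ^ 2 / charDegree (pS.1 : G → ℂ))) =
      576 * ![864, 8064, -864, 0] w := by
    intro w
    have h := H.comb_pairs w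
    rw [hsum _ (fun χ hχ => by simp [hχ w]), ho1, hoz] at h
    simpa using h
  have tE := hterm pE (by simp) _ _ kE vE
  have tX := hterm pX (by simp) _ _ kX vX
  have tR := hterm pR (by simp) _ _ kR vR
  have tB := hterm pB (by simp) _ _ kB vB
  have tC := hterm pC (by simp) _ _ kC vC
  have tU := hterm pU (by simp) _ _ kU vU
  have tS := hterm pS (by simp) _ _ kS vS
  simp only [fun w => (tE w).1, fun w => (tX w).1, fun w => (tR w).1, fun w => (tB w).1, fun w => (tC w).1,
    fun w => (tU w).1, fun w => (tS w).1, hoc] at lin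
  simp only [fun w => (tE w).2, fun w => (tX w).2, fun w => (tR w).2, fun w => (tB w).2, fun w => (tC w).2,
    fun w => (tU w).2, fun w => (tS w).2, hoc] at quad
  have l0 := lin 0
  have l1 := lin 1
  have l2 := lin 2
  have l3 := lin 3
  have q0 := quad 0
  have q1 := quad 1
  have q2 := quad 2
  have q3 := quad 3
  simp only [Fin.val_zero, Fin.val_one, Fin.val_two, show ((3 : Fin 4) : ℕ) = 3 from rfl,
    List.getD_cons_zero, List.getD_cons_succ, Matrix.cons_val, Int.cast_zero, Int.cast_one, Int.cast_neg,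
    zero_mul, one_mul, neg_mul, zero_add, add_zero, Int.cast_ofNat] at l0 l1 l2 l3 q0 q1 q2 q3
  -- the signed degrees
  have hne : ∀ p ∈ [pE, pX, pR, pB, pC, pU, pS], (ndeg φ p : ℚ) ≠ 0 := by
    intro p hp
    rw [ndeg, sdeg]
    have h1 := CharX.irr_deg_pos p.1
    rcases hmem p hp with e | e <;> rcases projSign_cases (rowOf (F φ) 11 p) with e' | e' <;>
      rw [e, e'] <;> push_cast <;> simp <;> omega
  have nE := hne pE (by simp)
  have nX := hne pX (by simp)
  have nR := hne pR (by simp)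
  have nB := hne pB (by simp)
  have nC := hne pC (by simp)
  have nU := hne pU (by simp)
  have nS := hne pS (by simp)
  have hGpos : (0 : ℚ) < Nat.card G := Nat.cast_pos.2 Nat.card_pos
  have hsq : ((s : ℚ) = 36 ∧ (t : ℚ) = 4) ∨ ((s : ℚ) = 4 ∧ (t : ℚ) = 36) := by
    rcases hst with ⟨rfl, rfl⟩ | ⟨rfl, rfl⟩
    · left; norm_num
    · right; norm_num
  set K : ℚ := 576 / (Nat.card G : ℚ) with hK
  have div_eq : ∀ X T : ℚ, (Nat.card G : ℚ) * X = 576 * T → X = K * T := fun X T h => by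
    rw [hK, div_mul_eq_mul_div, eq_div_iff hGpos.ne']; linarith
  have e0 := div_eq _ _ q0
  have e1 := div_eq _ _ q1
  have e2 := div_eq _ _ q2
  have e3 := div_eq _ _ q3
  have hBS : -(ndeg φ pB : ℚ) = - -(ndeg φ pS : ℚ) :=
    no_sum (U := -(ndeg φ pU : ℚ)) (S := -(ndeg φ pS : ℚ)) (B := -(ndeg φ pB : ℚ)) (C := -(ndeg φ pC : ℚ))
      (R := -(ndeg φ pR : ℚ)) (X := -(ndeg φ pX : ℚ)) hsq (neg_ne_zero.2 nU) (neg_ne_zero.2 nS)
      (neg_ne_zero.2 nB) (neg_ne_zero.2 nC) (neg_ne_zero.2 nR) (neg_ne_zero.2 nX) (by linarith) (by linarith) (by linarith)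
      (by simp only [div_neg]; linarith) (by simp only [div_neg]; linarith)
  obtain ⟨B, hB⟩ : ∃ B : ℤ, B = -ndeg φ pB := ⟨_, rfl⟩
  obtain ⟨x, hx⟩ : ∃ x : ℤ, x = -ndeg φ pX := ⟨_, rfl⟩
  have zS : ndeg φ pS = B := by
    have : (ndeg φ pS : ℚ) = ((-ndeg φ pB : ℤ) : ℚ) := by push_cast; linarith
    rw [hB]; exact_mod_cast this
  have zC : ndeg φ pC = -(x + B) := by
    have : (ndeg φ pC : ℚ) = ((-(-ndeg φ pX + -ndeg φ pB) : ℤ) : ℚ) := by push_cast; linarith
    rw [hB, hx]; exact_mod_cast this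
  have zU : ndeg φ pU = -(x + B) := by
    have : (ndeg φ pU : ℚ) = ((-(-ndeg φ pX + -ndeg φ pB) : ℤ) : ℚ) := by push_cast; linarith
    rw [hB, hx]; exact_mod_cast this
  have zR : ndeg φ pR = x := by
    have : (ndeg φ pR : ℚ) = ((-ndeg φ pX : ℤ) : ℚ) := by push_cast; linarith
    rw [hx]; exact_mod_cast this
  have zE : ndeg φ pE = x - 1 := by
    have : (ndeg φ pE : ℚ) = ((-ndeg φ pX - 1 : ℤ) : ℚ) := by push_cast; linarith
    rw [hx]; exact_mod_cast this
  have zX : ndeg φ pX = -x := by omega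
  have zB : ndeg φ pB = -B := by omega
  have hx0 : x ≠ 0 := fun h => nX (by rw [zX, h]; simp)
  have hx1 : x ≠ 1 := fun h => nE (by rw [zE, h]; simp)
  have hB0 : B ≠ 0 := fun h => nB (by rw [zB, h]; simp)
  have hC0 : x + B ≠ 0 := fun h => nC (by rw [zC, h]; simp)
  simp only [zS, zC, zE, zX, zR, zB, zU] at e1 e2
  push_cast at e1 e2
  have qx : (x : ℚ) ≠ 0 := Int.cast_ne_zero.2 hx0
  have qx1 : (x : ℚ) - 1 ≠ 0 := sub_ne_zero.2 (by exact_mod_cast hx1)
  have qB : (B : ℚ) ≠ 0 := Int.cast_ne_zero.2 hB0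
  have qC : (x : ℚ) + B ≠ 0 := by exact_mod_cast hC0
  have d1 : 1 + 81 / ((x : ℚ) - 1) - 64 / (x : ℚ) = K * 7200 := by
    simp only [div_neg] at e1 e2
    linarith
  have d2 : 64 / (x : ℚ) + s / (B : ℚ) - t / ((x : ℚ) + B) = K * 864 := by
    simp only [div_neg] at e1 e2
    linarith
  rw [hK, div_mul_eq_mul_div] at d1 d2
  field_simp at d1 d2
  have h1 : (Nat.card G : ℤ) * ((x + 8) * (x + 8)) = 4147200 * (x * (x - 1)) := by
    have : (((Nat.card G : ℤ) * ((x + 8) * (x + 8)) : ℤ) : ℚ) = ((4147200 * (x * (x - 1)) : ℤ) : ℚ) := by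
      push_cast; linear_combination d1
    exact_mod_cast this
  have h2 : (Nat.card G : ℤ) * (64 * B * (B + x) + s * x * (B + x) - t * x * B) =
      497664 * (x * B * (B + x)) := by
    have : (((Nat.card G : ℤ) * (64 * B * (B + x) + s * x * (B + x) - t * x * B) : ℤ) : ℚ) =
        ((497664 * (x * B * (B + x)) : ℤ) : ℚ) := by
      push_cast; linear_combination d2
    exact_mod_cast this
  have h576 : (576 : ℤ) ∣ (Nat.card G : ℤ) := by
    have h := Subgroup.card_subgroup_dvd_card (Subgroup.centralizer ({φ zM} : Set G))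
    rw [H.card_centralizer] at h
    exact_mod_cast h
  obtain ⟨hN, hxv, hy⟩ := arith_final hst (by exact_mod_cast Nat.card_pos) h576 hx0 hx1 h1 h2
  subst hxv
  refine ⟨hN, s, t, B, [pE, pX, pR, pB, pC, pU, pS], ?_, hperm, ?_, ?_⟩
  · rcases hst with ⟨rfl, rfl⟩ | ⟨rfl, rfl⟩
    · rcases hy with ⟨-, h⟩ | ⟨h, -⟩
      · exact Or.inl ⟨rfl, rfl, h⟩
      · norm_num at h
    · rcases hy with ⟨h, -⟩ | ⟨-, h⟩
      · norm_num at h
      · exact Or.inr ⟨rfl, rfl, h⟩
  · simp [template, projKey, hrow, kE, kX, kR, kB, kC, kU, kS, vE, vX, vR, vB, vC, vU, vS]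
  · simp only [List.map_cons, List.map_nil, zE, zX, zR, zB, zC, zU, zS]
    norm_num
    ring

/-- The order of a group with this involution centraliser. -/
theorem card_of_data {G : Type u} [Group G] [Finite G] (φ : Mod →* G) (hinj : Function.Injective φ)
    (hrange : φ.range = Subgroup.centralizer {φ zM}) (hk : IsConj (φ zM) (φ kM))
    (hq : IsConj (φ zM) (φ qM)) : Nat.card G = 4245696 := by
  haveI := Fintype.ofFinite G
  obtain ⟨S, hS, L, hL, hnd, hsgn, hout⟩ := Hyp.exists_config (φ := φ) ⟨hinj, hrange, hk, hq⟩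
  have h := (Hyp.order_and_degrees (φ := φ) ⟨hinj, hrange, hk, hq⟩ _ (fun _ => rfl) L hS hL hnd hsgn hout).1
  exact_mod_cast h

end Cfsg.Agent.G23Two
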