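import Cfsg.Agent.Lib.G23Two.ParaRad
import Cfsg.Agent.Lib.Transfer.Basic

/-!
The normaliser of `⟨a⟩` as a parabolic subgroup `3⁵:GL(2,3)`.
-/

set_option autoImplicit false
set_option linter.unusedSectionVars false
set_option linter.style.haveILetI false

namespace Cfsg.Agent.G23Two.Para

open Subgroup
open scoped commutatorElement

/-- A side with its quotient map. -/
structure Loc (G : Type*) [Group G] [Finite G] extends Sec G where
  /-- the quotient map on the normaliser inside the involution centraliser -/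
  gl : ↥((centralizer {z} : Subgroup G) ⊓ normalizer ((zpowers a : Subgroup G) : Set G)) →* GL (Fin 2) (ZMod 3)
  gl_surj : Function.Surjective gl
  gl_ker : ∀ x, gl x = 1 ↔ (x : G) ∈ zpowers a

namespace Loc

variable {G : Type*} [Group G] [Finite G] (S : Loc G)
include S

theorem card_A : Nat.card S.A = 11664 := by
  have hi : (S.C.subgroupOf S.A).index = 2 := by
    rw [index_eq_two_iff]
    refine ⟨⟨S.k, S.k_mem_A⟩, fun b => ?_⟩
    simp only [mem_subgroupOf, Subgroup.coe_mul]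
    have hk : S.k ∉ S.C := fun h => by
      have h1 := S.k_a
      rw [S.mem_C.1 h, mul_inv_cancel_right] at h1
      refine S.a_ne ?_
      have h3 := S.a3
      rw [pow_succ, pow_two] at h3
      have h2 : S.a * S.a = 1 := by nth_rw 2 [h1]; exact mul_inv_cancel _
      rwa [h2, one_mul] at h3
    rcases S.A_cases b.2 with h | h
    · exact Or.inr ⟨h, fun h' => hk ((mul_mem_cancel_left h).1 h')⟩
    · refine Or.inl ⟨?_, fun h' => hk ((mul_mem_cancel_right h').1 h)⟩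
      have := S.C_conj (inv_mem S.k_mem_A) h
      rwa [show S.k⁻¹ * (S.k * (b : G)) * S.k⁻¹⁻¹ = b * S.k by group] at this
  have := (S.C.subgroupOf S.A).card_mul_index
  rw [Nat.card_congr (subgroupOfEquivOfLe S.C_le_A).toEquiv, S.card_C', hi] at this
  exact this.symm

theorem R_le_A : S.R ≤ S.A := S.R_le.trans S.C_le_A

/-- The normaliser inside the centraliser of the involution. -/
abbrev NH : Subgroup G := (centralizer {S.z} : Subgroup G) ⊓ normalizer ((zpowers S.a : Subgroup G) : Set G)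

theorem mem_NH {g : G} : g ∈ S.NH ↔ g * S.z = S.z * g ∧ g ∈ S.A := by
  rw [NH, mem_inf, mem_centralizer_singleton_iff]; rfl

theorem L_le_NH : S.L ≤ S.NH := fun l hl =>
  S.mem_NH.2 ⟨S.L_z l hl, S.C_le_A (S.L_le hl)⟩

theorem exists_RN {g : G} (hg : g ∈ S.A) : ∃ r ∈ S.R, ∃ h ∈ S.NH, g = r * h := by
  rcases S.A_cases hg with h | h
  · obtain ⟨r, hr, l, hl, rfl⟩ := S.exists_RL h
    exact ⟨r, hr, l, S.L_le_NH hl, rfl⟩
  · obtain ⟨r, hr, l, hl, e⟩ := S.exists_RL h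
    refine ⟨S.k * r * S.k⁻¹, S.R_A S.k_mem_A hr, S.k * l,
      mul_mem (S.mem_NH.2 ⟨S.k_z, S.k_mem_A⟩) (S.L_le_NH hl), ?_⟩
    calc g = S.k⁻¹ * (S.k * g) := by group
      _ = S.k * r * l := by rw [e, S.k_inv]; group
      _ = S.k * r * S.k⁻¹ * (S.k * l) := by group

theorem normal_R : (S.R.subgroupOf S.A).Normal := ⟨fun x hx g => by
  rw [mem_subgroupOf] at hx ⊢
  exact S.R_A g.2 hx⟩

theorem quotient_iso [(S.R.subgroupOf S.A).Normal] :
    Nonempty (↥S.A ⧸ S.R.subgroupOf S.A ≃* GL (Fin 2) (ZMod 3)) := by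
  let f : ↥S.NH →* ↥S.A ⧸ S.R.subgroupOf S.A :=
    (QuotientGroup.mk' _).comp (inclusion (fun g hg => (S.mem_NH.1 hg).2))
  have hf : Function.Surjective f := fun q => by
    refine QuotientGroup.induction_on q fun g => ?_
    obtain ⟨r, hr, h, hh, e⟩ := S.exists_RN g.2
    refine ⟨⟨h, hh⟩, QuotientGroup.eq.2 ?_⟩
    rw [mem_subgroupOf]
    show h⁻¹ * (g : G) ∈ S.R
    rw [e, ← mul_assoc]
    have := S.R_A (inv_mem (S.mem_NH.1 hh).2) hr
    rwa [inv_inv] at this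
  have hk : f.ker = S.gl.ker := by
    ext x
    rw [MonoidHom.mem_ker, MonoidHom.mem_ker, S.gl_ker]
    show ((QuotientGroup.mk (inclusion _ x)) : ↥S.A ⧸ S.R.subgroupOf S.A) = 1 ↔ _
    rw [QuotientGroup.eq_one_iff, mem_subgroupOf]
    exact ⟨fun h => S.R_fix h (S.mem_NH.1 x.2).1, fun h => S.A0_le_R h⟩
  exact ⟨(QuotientGroup.quotientKerEquivOfSurjective f hf).symm.trans
    ((QuotientGroup.quotientMulEquivOfEq hk).trans
      (QuotientGroup.quotientKerEquivOfSurjective S.gl S.gl_surj))⟩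

theorem three_le_C {K : Subgroup G} (hK : K ≤ S.A) (h3 : IsPGroup 3 K) : K ≤ S.C := fun g hg => by
  haveI : Fact (Nat.Prime 3) := ⟨Nat.prime_three⟩
  obtain ⟨n, hn⟩ := h3 ⟨g, hg⟩
  have hn' : g ^ 3 ^ n = 1 := congrArg Subtype.val hn
  rcases S.mem_A.1 (hK hg) with e | e
  · exact S.mem_C.2 (mul_inv_eq_iff_eq_mul.1 e)
  · exfalso
    have hpow : ∀ m : ℕ, g ^ m * S.a * (g ^ m)⁻¹ = if Even m then S.a else S.a⁻¹ := by
      intro m
      induction m with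
      | zero => simp
      | succ m ih =>
        rw [pow_succ', show g * g ^ m * S.a * (g * g ^ m)⁻¹ = g * (g ^ m * S.a * (g ^ m)⁻¹) * g⁻¹ by group, ih]
        by_cases hm : Even m
        · rw [if_pos hm, if_neg (Nat.not_even_iff_odd.2 hm.add_one), e]
        · rw [if_neg hm, if_pos (Nat.not_even_iff_odd.1 hm).add_one, ← conj_inv, e, inv_inv]
    have h := hpow (3 ^ n)
    rw [hn', if_neg (Nat.not_even_iff_odd.2 ((by decide : Odd 3).pow))] at h
    simp only [one_mul, inv_one, mul_one] at h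
    refine S.a_ne ?_
    have h3 := S.a3
    rw [pow_succ, pow_two] at h3
    have h2 : S.a * S.a = 1 := by nth_rw 2 [h]; exact mul_inv_cancel _
    rwa [h2, one_mul] at h3

theorem pCoreOf_eq : Cfsg.pCoreOf 3 S.A = S.R := by
  haveI : Fact (Nat.Prime 3) := ⟨Nat.prime_three⟩
  have hle : Cfsg.pCoreOf 3 S.A ≤ S.A := map_subtype_le _
  have h3 : IsPGroup 3 (Cfsg.pCoreOf 3 S.A) := (PBasic.pCore_isPGroup 3 _).map _
  refine le_antisymm (S.le_R _ (S.three_le_C hle h3) h3 ?_) ?_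
  · intro g hg x hx
    obtain ⟨y, hy, rfl⟩ := mem_map.1 hx
    exact mem_map.2 ⟨⟨g, S.C_le_A hg⟩ * y * (⟨g, S.C_le_A hg⟩ : S.A)⁻¹,
      (Cfsg.pCore_normal 3 _).conj_mem y hy _, rfl⟩
  · intro r hr
    exact mem_map.2 ⟨⟨r, S.R_le_A hr⟩, PBasic.le_pCore S.normal_R
      (S.isPGroup_R.of_equiv (subgroupOfEquivOfLe S.R_le_A).symm) (mem_subgroupOf.2 hr), rfl⟩

theorem comm_R : ⁅S.R, S.R⁆ = zpowers S.a := by
  refine le_antisymm (commutator_le.2 fun x hx y hy => S.comm_mem hx hy) ?_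
  obtain ⟨r, hr, s, hs, hne⟩ := S.not_abelian
  have hm : ⁅r, s⁆ ∈ ⁅S.R, S.R⁆ := commutator_mem_commutator hr hs
  rcases S.A0_cases (S.comm_mem hr hs) with e | e | e
  · exact absurd (commutatorElement_eq_one_iff_mul_comm.1 e) hne
  · exact zpowers_le.2 (show S.a ∈ _ from e ▸ hm)
  · have := inv_mem (show S.a⁻¹ ∈ ⁅S.R, S.R⁆ from e ▸ hm)
    rw [inv_inv] at this
    exact zpowers_le.2 this

theorem index_Z : (S.Z.subgroupOf S.R).index = 9 := by
  have := (S.Z.subgroupOf S.R).card_mul_index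
  rw [Nat.card_congr (subgroupOfEquivOfLe (show S.Z ≤ S.R from inf_le_left)).toEquiv, S.card_Z, S.card_R] at this
  omega

theorem index_D : ((zpowers S.a).subgroupOf S.Z).index = 9 := by
  have := ((zpowers S.a).subgroupOf S.Z).card_mul_index
  rw [Nat.card_congr (subgroupOfEquivOfLe S.A0_le_Z).toEquiv, S.card_A0, S.card_Z] at this
  omega

/-- The elements of the normaliser acting trivially on a section. -/
theorem kernel (Top Bot : Subgroup G) (hT : Top ≤ S.R) (hA0 : zpowers S.a ≤ Bot)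
    (hTc : ∀ g ∈ S.A, ∀ x ∈ Top, g * x * g⁻¹ ∈ Top) (hBc : ∀ g ∈ S.A, ∀ x ∈ Bot, g * x * g⁻¹ ∈ Bot)
    (hcomm : ∀ r ∈ S.R, ∀ x ∈ Top, r * x * r⁻¹ * x⁻¹ ∈ Bot) (hne : ∃ x ∈ Top, x ∉ Bot)
    {g : G} (hg : g ∈ S.A) : g ∈ S.R ↔ ∀ x ∈ Top, g * x * g⁻¹ * x⁻¹ ∈ Bot := by
  refine ⟨fun h x hx => hcomm g h x hx, fun h => ?_⟩
  let T : Subgroup G :=
    { carrier := {u | u ∈ S.A ∧ ∀ x ∈ Top, u * x * u⁻¹ * x⁻¹ ∈ Bot}
      one_mem' := ⟨one_mem _, fun x _ => by simp⟩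
      mul_mem' := by
        rintro u v ⟨hu, u1⟩ ⟨hv, v1⟩
        refine ⟨mul_mem hu hv, fun x hx => ?_⟩
        have e : u * v * x * (u * v)⁻¹ * x⁻¹ =
            u * (v * x * v⁻¹ * x⁻¹) * u⁻¹ * (u * x * u⁻¹ * x⁻¹) := by group
        rw [e]; exact mul_mem (hBc u hu _ (v1 x hx)) (u1 x hx)
      inv_mem' := by
        rintro u ⟨hu, u1⟩
        refine ⟨inv_mem hu, fun x hx => ?_⟩
        have e : u⁻¹ * x * u⁻¹⁻¹ * x⁻¹ = u⁻¹ * (u * x * u⁻¹ * x⁻¹)⁻¹ * u⁻¹⁻¹ := by group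
        rw [e]; exact hBc _ (inv_mem hu) _ (inv_mem (u1 x hx)) }
  have hTn : ∀ c ∈ S.A, ∀ u ∈ T, c * u * c⁻¹ ∈ T := by
    rintro c hc u ⟨hu, u1⟩
    refine ⟨mul_mem (mul_mem hc hu) (inv_mem hc), fun x hx => ?_⟩
    have h1 := u1 _ (hTc _ (inv_mem hc) x hx)
    have e : c * u * c⁻¹ * x * (c * u * c⁻¹)⁻¹ * x⁻¹ =
        c * (u * (c⁻¹ * x * c⁻¹⁻¹) * u⁻¹ * (c⁻¹ * x * c⁻¹⁻¹)⁻¹) * c⁻¹ := by group
    rw [e]; exact hBc c hc _ h1
  have hRT : S.R ≤ T := fun r hr => ⟨S.R_le_A hr, fun x hx => hcomm r hr x hx⟩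
  have hzT : S.z ∉ T := fun hz => by
    obtain ⟨x, hx, hxB⟩ := hne
    have h1 := hz.2 x hx
    rw [S.z_inv] at h1
    have h2 := mul_mem (inv_mem h1) (hA0 (S.inverted (hT hx)))
    have e : (S.z * x * S.z * x⁻¹)⁻¹ * (S.z * x * S.z * x) = x * x := by group
    rw [e] at h2
    obtain ⟨m, hm⟩ := S.exists_half (hT hx)
    refine hxB ?_
    rw [← hm, ← (Commute.refl x).mul_pow]
    exact pow_mem h2 m
  have hTC : ∀ u ∈ T, u ∈ S.C → u ∈ S.R := by
    intro u hu huC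
    obtain ⟨r, hr, l, hl, rfl⟩ := S.exists_RL huC
    have hlT : l ∈ T := by
      have := mul_mem (inv_mem (hRT hr)) hu
      rwa [inv_mul_cancel_left] at this
    rw [S.inf_L T (fun l hl t ht => hTn l (S.C_le_A (S.L_le hl)) t ht) hzT hlT hl, mul_one]
    exact hr
  rcases S.A_cases hg with hgC | hgk
  · exact hTC g ⟨hg, h⟩ hgC
  · exfalso
    obtain ⟨r, hr, u, hu, e⟩ := S.exists_RN hg
    have huT : u ∈ T := by
      have := mul_mem (inv_mem (hRT hr)) (⟨hg, h⟩ : g ∈ T)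
      rwa [e, inv_mul_cancel_left] at this
    obtain ⟨huz, huA⟩ := S.mem_NH.1 hu
    have hua : u * S.a * u⁻¹ = S.a⁻¹ := by
      rcases S.mem_A.1 huA with h' | h'
      · exfalso
        have hgC : g ∈ S.C := by
          rw [e]; exact mul_mem (S.R_le hr) (S.mem_C.2 (mul_inv_eq_iff_eq_mul.1 h'))
        have hkC : S.k ∈ S.C := (mul_mem_cancel_right hgC).1 hgk
        have h1 := S.k_a
        rw [S.mem_C.1 hkC, mul_inv_cancel_right] at h1
        refine S.a_ne ?_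
        have h3 := S.a3
        rw [pow_succ, pow_two] at h3
        have h2 : S.a * S.a = 1 := by nth_rw 2 [h1]; exact mul_inv_cancel _
        rwa [h2, one_mul] at h3
      · exact h'
    obtain ⟨l, hl, hbad⟩ := S.k_L u huz hua
    refine hbad ?_
    have hm : u * l * u⁻¹ * l⁻¹ ∈ T := by
      rw [show u * l * u⁻¹ * l⁻¹ = u * (l * u⁻¹ * l⁻¹) by group]
      exact mul_mem huT (hTn l (S.C_le_A (S.L_le hl)) _ (inv_mem huT))
    have hmC : u * l * u⁻¹ * l⁻¹ ∈ S.C := mul_mem (S.C_conj huA (S.L_le hl)) (inv_mem (S.L_le hl))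
    refine S.R_fix (hTC _ hm hmC) ?_
    have c1 : Commute u S.z := huz
    have c2 : Commute l S.z := S.L_z l hl
    exact (((c1.mul_left c2).mul_left c1.inv_left).mul_left c2.inv_left).eq

theorem kernel_top {g : G} (hg : g ∈ S.A) :
    g ∈ S.R ↔ ∀ x ∈ S.R, g * x * g⁻¹ * x⁻¹ ∈ S.Z := by
  refine S.kernel S.R S.Z le_rfl S.A0_le_Z (fun _ h _ hx => S.R_A h hx) (fun _ h _ hx => S.Z_conj h hx)
    (fun r hr x hx => S.A0_le_Z (S.comm_mem hr hx)) ?_ hg
  obtain ⟨r, hr, s, hs, hne⟩ := S.not_abelian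
  exact ⟨s, hs, fun h => hne ((S.mem_Z.1 h).2 r hr)⟩

theorem kernel_bot {g : G} (hg : g ∈ S.A) :
    g ∈ S.R ↔ ∀ x ∈ S.Z, g * x * g⁻¹ * x⁻¹ ∈ zpowers S.a := by
  refine S.kernel S.Z (zpowers S.a) inf_le_left le_rfl (fun _ h _ hx => S.Z_conj h hx)
    (fun g h x hx => (mem_normalizer_iff.1 h x).1 hx)
    (fun r hr x hx => S.comm_mem hr (S.mem_Z.1 hx).1) ?_ hg
  by_contra h
  push Not at h
  exact S.Z_ne (le_antisymm h S.A0_le_Z)

/-- A normal subgroup of the radical centralised by an element outside lies in `⟨a⟩`. -/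
theorem cent_le {M : Subgroup G} (hM : M ≤ S.R) (hMc : ∀ g ∈ S.A, ∀ x ∈ M, g * x * g⁻¹ ∈ M)
    (hne : ¬ M ≤ zpowers S.a) {g : G} (hg : g ∈ S.A) (hc : ∀ x ∈ M, g * x = x * g) : g ∈ S.R := by
  refine (S.kernel (M ⊔ zpowers S.a) (zpowers S.a) (sup_le hM S.A0_le_R) le_rfl ?_
    (fun g h x hx => (mem_normalizer_iff.1 h x).1 hx)
    (fun r hr x hx => S.comm_mem hr (sup_le hM S.A0_le_R hx)) ?_ hg).2 ?_
  · intro c hc' x hx
    have hle : (M ⊔ zpowers S.a).map (MulAut.conj c).toMonoidHom ≤ M ⊔ zpowers S.a := by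
      rw [Subgroup.map_sup]
      refine sup_le_sup ?_ ?_
      · rintro _ ⟨y, hy, rfl⟩; exact hMc c hc' y hy
      · rintro _ ⟨y, hy, rfl⟩; exact (mem_normalizer_iff.1 hc' y).1 hy
    exact hle (mem_map.2 ⟨x, hx, rfl⟩)
  · obtain ⟨x, hx, hxn⟩ := SetLike.not_le_iff_exists.1 hne
    exact ⟨x, mem_sup_left hx, hxn⟩
  · let T : Subgroup G := centralizer {g}
    have hgC : M ≤ T := fun x hx => mem_centralizer_singleton_iff.2 (hc x hx).symm
    intro x hx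
    obtain ⟨m, hm, c, hcm, rfl⟩ : ∃ m ∈ M, ∃ c ∈ zpowers S.a, m * c = x := by
      have : x ∈ (↑(M ⊔ zpowers S.a) : Set G) := hx
      rw [coe_mul_of_left_le_normalizer_right] at this
      · exact Set.mem_mul.1 this
      · exact fun y hy => (hM.trans S.R_le_A) hy
    have e : g * (m * c) * g⁻¹ * (m * c)⁻¹ = (g * c * g⁻¹) * c⁻¹ := by
      have h1 : g * m * g⁻¹ = m := by rw [hc m hm, mul_inv_cancel_right]
      calc g * (m * c) * g⁻¹ * (m * c)⁻¹ = (g * m * g⁻¹) * ((g * c * g⁻¹) * c⁻¹) * m⁻¹ := by group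
        _ = _ := by
          rw [h1, S.A0_central (mul_mem ((mem_normalizer_iff.1 hg c).1 hcm) (inv_mem hcm))
            (S.R_le (hM hm)), mul_inv_cancel_right]
    rw [e]
    exact mul_mem ((mem_normalizer_iff.1 hg c).1 hcm) (inv_mem hcm)

/-- Nothing lies strictly between the centre and the radical with index three. -/
theorem no_between (Y : Subgroup G) (hY : Y ≤ S.R) (hZY : S.Z ≤ Y)
    (hYc : ∀ g ∈ S.A, ∀ x ∈ Y, g * x * g⁻¹ ∈ Y) (h : Nat.card Y = 81) : False := by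
  haveI : Fact (Nat.Prime 3) := ⟨Nat.prime_three⟩
  obtain ⟨x, hxY, hxZ⟩ : ∃ x ∈ Y, x ∉ S.Z := by
    by_contra hcon
    push Not at hcon
    have := card_le_of_le hcon
    rw [h, S.card_Z] at this
    omega
  obtain ⟨i, hi, hiz⟩ := S.z_sq
  have hiC := S.L_le hi
  have hcase : ∀ y ∈ Y, ∃ m : ℕ, (x ^ m)⁻¹ * y ∈ S.Z := by
    haveI : (S.Z.subgroupOf Y).Normal := ⟨fun y hy c => by
      rw [mem_subgroupOf] at hy ⊢
      exact S.Z_conj (S.R_le_A (hY c.2)) hy⟩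
    have hq : Nat.card (Y ⧸ S.Z.subgroupOf Y) = 3 := by
      have := (S.Z.subgroupOf Y).card_mul_index
      rw [Nat.card_congr (subgroupOfEquivOfLe hZY).toEquiv, S.card_Z, h, index_eq_card] at this
      omega
    intro y hy
    have hm := mem_powers_of_prime_card (p := 3) (g := (QuotientGroup.mk ⟨x, hxY⟩ : Y ⧸ S.Z.subgroupOf Y))
      (g' := QuotientGroup.mk ⟨y, hy⟩) hq
      (fun e => hxZ (mem_subgroupOf.1 ((QuotientGroup.eq_one_iff _).1 e)))
    obtain ⟨m, hm⟩ := (Submonoid.mem_powers_iff _ _).1 hm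
    rw [← QuotientGroup.mk_pow, QuotientGroup.eq, mem_subgroupOf] at hm
    exact ⟨m, hm⟩
  obtain ⟨m, hm⟩ := hcase _ (hYc i (S.C_le_A hiC) x hxY)
  have hx3 : x ^ 3 ∈ S.Z := by
    obtain ⟨n, hn⟩ := hcase _ (pow_mem hxY 2)
    have h' : (x ^ n)⁻¹ * x ^ 2 ∈ S.Z := hn
    haveI : (S.Z.subgroupOf Y).Normal := ⟨fun y hy c => by
      rw [mem_subgroupOf] at hy ⊢
      exact S.Z_conj (S.R_le_A (hY c.2)) hy⟩
    have hq : Nat.card (Y ⧸ S.Z.subgroupOf Y) = 3 := by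
      have := (S.Z.subgroupOf Y).card_mul_index
      rw [Nat.card_congr (subgroupOfEquivOfLe hZY).toEquiv, S.card_Z, h, index_eq_card] at this
      omega
    have h3 : ((⟨x, hxY⟩ : Y) ^ 3 : Y) ∈ S.Z.subgroupOf Y := by
      rw [← QuotientGroup.eq_one_iff, QuotientGroup.mk_pow, ← hq]
      exact pow_card_eq_one'
    exact mem_subgroupOf.1 h3
  -- the square of `i` is `z`, so `x` is sent to `x ^ (m * m)`
  have hzx : (x ^ (m * m))⁻¹ * (S.z * x * S.z⁻¹) ∈ S.Z := by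
    have h1 : (x ^ m)⁻¹ ^ m * (i * x * i⁻¹) ^ m ∈ S.Z := by
      obtain ⟨w, hw, hwe⟩ : ∃ w ∈ S.Z, i * x * i⁻¹ = x ^ m * w :=
        ⟨_, hm, by rw [mul_inv_cancel_left]⟩
      have hc : Commute (x ^ m) w := (S.mem_Z.1 hw).2 _ (pow_mem (hY hxY) m)
      rw [hwe, hc.mul_pow, inv_pow, inv_mul_cancel_left]
      exact pow_mem hw m
    have h2 := S.Z_conj (S.C_le_A hiC) hm
    have e : i * ((x ^ m)⁻¹ * (i * x * i⁻¹)) * i⁻¹ = ((i * x * i⁻¹) ^ m)⁻¹ * (S.z * x * S.z⁻¹) := by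
      rw [← hiz, conj_pow]; group
    rw [e] at h2
    have := mul_mem h1 h2
    rwa [mul_assoc, mul_inv_cancel_left, inv_pow, ← pow_mul] at this
  have h2 := S.A0_le_Z (S.inverted (hY hxY))
  rw [S.z_inv] at hzx
  have e : ((x ^ (m * m))⁻¹ * (S.z * x * S.z))⁻¹ * (x ^ (m * m))⁻¹ * (S.z * x * S.z * x) = x := by
    rw [show ((x ^ (m * m))⁻¹ * (S.z * x * S.z))⁻¹ = (S.z * x * S.z)⁻¹ * x ^ (m * m) by group]
    group
  have hxm : x ^ (m * m + 1) ∈ S.Z := by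
    obtain ⟨w, hw, hwe⟩ : ∃ w ∈ S.Z, S.z * x * S.z = x ^ (m * m) * w :=
      ⟨_, hzx, by rw [mul_inv_cancel_left]⟩
    have hc : Commute x w := (S.mem_Z.1 hw).2 _ (hY hxY)
    rw [hwe, mul_assoc, ← hc.eq, ← mul_assoc, ← pow_succ] at h2
    exact (mul_mem_cancel_right hw).1 h2
  refine hxZ ?_
  have hmm : (m * m + 1) % 3 = 1 ∨ (m * m + 1) % 3 = 2 := by
    rw [Nat.add_mod, Nat.mul_mod]
    rcases (by omega : m % 3 = 0 ∨ m % 3 = 1 ∨ m % 3 = 2) with e | e | e <;> simp [e]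
  rw [← Nat.mod_add_div (m * m + 1) 3, pow_add, pow_mul] at hxm
  have hr : x ^ ((m * m + 1) % 3) ∈ S.Z := (mul_mem_cancel_right (pow_mem hx3 _)).1 hxm
  rcases hmm with e | e <;> rw [e] at hr
  · rwa [pow_one] at hr
  · have := mul_mem hx3 (inv_mem hr)
    rwa [show x ^ 3 * (x ^ 2)⁻¹ = x by group] at this

end Loc

end Cfsg.Agent.G23Two.Para
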