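import Cfsg.Agent.Lib.G23Two.ParaSide
import Mathlib.GroupTheory.SpecificGroups.Cyclic
import Mathlib.Data.Nat.Totient

/-!
The radical of the normaliser of `⟨a⟩` is neither abelian nor extraspecial: its centre has order `3³`.
-/

set_option autoImplicit false
set_option linter.unusedSectionVars false
set_option linter.style.haveILetI false
set_option maxRecDepth 4000

namespace Cfsg.Agent.G23Two.Para

open Subgroup

/-- A side with the global information. -/
structure Sec (G : Type*) [Group G] [Finite G] extends Side G where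
  card_G : Nat.card G = 4245696
  card_H : Nat.card (centralizer {z} : Subgroup G) = 576
  k_conj : IsConj z k
  nine : ∀ W : Subgroup G, W ≤ centralizer {z} → Nat.card W = 9 → ∃ v ∈ W, IsConj a v
  /-- the other element of order three -/
  b : G
  b3 : b ^ 3 = 1
  card_Cb : Nat.card (centralizer {b} : Subgroup G) = 5832
  nc : ¬ IsConj a b
  nc' : ¬ IsConj a⁻¹ b

section
variable {M : Type*} [Group M] {t : M} (ht : t * t = 1)
include ht

theorem conj2_mul (x y : M) : t * (x * y) * t = t * x * t * (t * y * t) := by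
  simp only [mul_assoc]
  rw [← mul_assoc t t, ht, one_mul]

theorem conj2_inv (x : M) : t * x⁻¹ * t = (t * x * t)⁻¹ := by
  have h : t⁻¹ = t := inv_eq_of_mul_eq_one_left ht
  simp only [mul_inv_rev, h, mul_assoc]

theorem conj2_conj2 (x : M) : t * (t * x * t) * t = x := by
  simp only [mul_assoc, ht, mul_one]
  rw [← mul_assoc, ht, one_mul]

theorem commute_of_conj2 {x : M} (h : t * x * t = x) : Commute x t := by
  have h1 : t * x * t * t = x * t := by rw [h]
  rw [mul_assoc, ht, mul_one] at h1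
  exact h1.symm

end

namespace Side

variable {G : Type*} [Group G] [Finite G] (S : Side G)
include S

/-- The normaliser of `⟨a⟩`. -/
def A : Subgroup G := normalizer (zpowers S.a : Set G)

theorem mem_A {g : G} : g ∈ S.A ↔ g * S.a * g⁻¹ = S.a ∨ g * S.a * g⁻¹ = S.a⁻¹ := by
  rw [A, mem_normalizer_iff]
  constructor
  · intro h
    rcases S.A0_cases ((h S.a).1 (mem_zpowers _)) with e | e | e
    · exact absurd (conj_eq_one_iff.1 e) S.a_ne
    · exact Or.inl e
    · exact Or.inr e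
  · intro h x
    constructor
    · intro hx
      obtain ⟨n, rfl⟩ := mem_zpowers_iff.1 hx
      rw [← conj_zpow]
      rcases h with e | e <;> rw [e]
      exacts [zpow_mem (mem_zpowers _) _, zpow_mem (inv_mem (mem_zpowers _)) _]
    · intro hx
      have hg : g⁻¹ * S.a * g⁻¹⁻¹ ∈ zpowers S.a := by
        rcases h with e | e
        · have e' : g⁻¹ * S.a * g⁻¹⁻¹ = g⁻¹ * (g * S.a * g⁻¹) * g := by rw [e, inv_inv]
          rw [e', show g⁻¹ * (g * S.a * g⁻¹) * g = S.a by group]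
          exact mem_zpowers _
        · have e' : g⁻¹ * S.a * g⁻¹⁻¹ = (g⁻¹ * (g * S.a * g⁻¹) * g)⁻¹ := by
            rw [e]; group
          rw [e', show g⁻¹ * (g * S.a * g⁻¹) * g = S.a by group]
          exact inv_mem (mem_zpowers _)
      obtain ⟨n, hn⟩ := mem_zpowers_iff.1 hx
      rw [show x = g⁻¹ * (g * x * g⁻¹) * g⁻¹⁻¹ by group, ← hn, ← conj_zpow]
      exact zpow_mem hg _

theorem C_le_A : S.C ≤ S.A := fun g hg =>
  S.mem_A.2 (Or.inl (by rw [S.mem_C.1 hg, mul_inv_cancel_right]))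

theorem k_mem_A : S.k ∈ S.A := S.mem_A.2 (Or.inr S.k_a)

theorem k_inv : S.k⁻¹ = S.k := inv_eq_of_mul_eq_one_left S.k2

theorem A_cases {g : G} (hg : g ∈ S.A) : g ∈ S.C ∨ S.k * g ∈ S.C := by
  rcases S.mem_A.1 hg with e | e
  · refine Or.inl (S.mem_C.2 ?_)
    conv_rhs => rw [← e]
    group
  · refine Or.inr (S.mem_C.2 ?_)
    have h1 : S.k * g * S.a * (S.k * g)⁻¹ = S.a := by
      calc S.k * g * S.a * (S.k * g)⁻¹ = S.k * (g * S.a * g⁻¹) * S.k⁻¹ := by group
        _ = S.a := by rw [e, ← conj_inv, S.k_a, inv_inv]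
    conv_rhs => rw [← h1]
    group

theorem C_conj {g c : G} (hg : g ∈ S.A) (hc : c ∈ S.C) : g * c * g⁻¹ ∈ S.C := by
  rw [S.mem_C] at hc ⊢
  have key : g * c * g⁻¹ * (g * S.a * g⁻¹) = g * S.a * g⁻¹ * (g * c * g⁻¹) := by
    calc g * c * g⁻¹ * (g * S.a * g⁻¹) = g * (c * S.a) * g⁻¹ := by group
      _ = _ := by rw [hc]; group
  rcases S.mem_A.1 hg with e | e <;> rw [e] at key
  · exact key
  · exact (Commute.inv_right_iff.1 key)

theorem R_A {g r : G} (hg : g ∈ S.A) (hr : r ∈ S.R) : g * r * g⁻¹ ∈ S.R := by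
  refine S.le_R (S.R.map (MulAut.conj g).toMonoidHom) ?_ (S.isPGroup_R.map _) ?_
    (mem_map.2 ⟨r, hr, rfl⟩)
  · rintro _ ⟨x, hx, rfl⟩
    exact S.C_conj hg (S.R_le hx)
  · rintro h hh _ ⟨x, hx, rfl⟩
    have h1 : g⁻¹ * h * g ∈ S.C := by
      have := S.C_conj (inv_mem hg) hh
      rwa [inv_inv] at this
    refine mem_map.2 ⟨g⁻¹ * h * g * x * (g⁻¹ * h * g)⁻¹, S.R_conj h1 hx, ?_⟩
    simp [MulAut.conj_apply]
    group

/-- An abelian subgroup of `C` of order `3⁵` is the radical if that is abelian. -/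
theorem abelian_unique (hR : ∀ r ∈ S.R, ∀ s ∈ S.R, r * s = s * r) (M : Subgroup G) (hM : M ≤ S.C)
    (hMc : Nat.card M = 243) (hab : ∀ x ∈ M, ∀ y ∈ M, x * y = y * x) : M = S.R := by
  suffices h : M ≤ S.R from eq_of_le_of_card_ge h (by rw [hMc, S.card_R])
  intro m hm
  by_contra hmR
  obtain ⟨r, hr, l, hl, rfl⟩ := S.exists_RL (hM hm)
  have hl1 : l ≠ 1 := fun e => hmR (by rw [e, mul_one]; exact hr)
  have hidx : S.R.relIndex M ∣ 3 ∧ l ^ 3 = 1 := by
    haveI : (S.R.subgroupOf S.C).Normal := ⟨fun x hx g => by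
      rw [mem_subgroupOf] at hx ⊢; exact S.R_conj g.2 hx⟩
    set f := (QuotientGroup.mk' (S.R.subgroupOf S.C)).comp (inclusion hM) with hf
    have hk : f.ker = S.R.subgroupOf M := by
      ext x
      rw [MonoidHom.mem_ker, hf, MonoidHom.comp_apply, QuotientGroup.mk'_apply,
        QuotientGroup.eq_one_iff, mem_subgroupOf, mem_subgroupOf]
      rfl
    have h1 : S.R.relIndex M = Nat.card f.range := by rw [relIndex, ← hk, index_ker]
    have h2 := card_subgroup_dvd_card f.range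
    rw [← index_eq_card] at h2
    have h3 : (S.R.subgroupOf S.C).index = 24 := by
      have := (S.R.subgroupOf S.C).card_mul_index
      rw [Nat.card_congr (subgroupOfEquivOfLe S.R_le).toEquiv, S.card_R, S.card_C'] at this
      omega
    rw [h3] at h2
    have h4 := card_range_dvd f
    rw [hMc] at h4
    have h5 := Nat.dvd_gcd h2 h4
    rw [show Nat.gcd 24 243 = 3 by decide] at h5
    refine ⟨h1 ▸ h5, ?_⟩
    have h6 : f ⟨r * l, hm⟩ ^ 3 = 1 := by
      obtain ⟨t, ht⟩ := h5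
      have := pow_card_eq_one' (G := f.range) (x := ⟨f ⟨r * l, hm⟩, _, rfl⟩)
      have h7 := congrArg Subtype.val this
      change f ⟨r * l, hm⟩ ^ Nat.card f.range = 1 at h7
      rw [ht, pow_mul, h7, one_pow]
    rw [hf, MonoidHom.comp_apply, QuotientGroup.mk'_apply] at h6
    have h8 : (QuotientGroup.mk (⟨l, S.L_le hl⟩ : S.C) : S.C ⧸ S.R.subgroupOf S.C) =
        QuotientGroup.mk (inclusion hM ⟨r * l, hm⟩) := by
      rw [QuotientGroup.eq, mem_subgroupOf]
      show l⁻¹ * (r * l) ∈ S.R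
      rw [← mul_assoc]
      exact S.R_conj_inv (S.L_le hl) hr
    rw [← h8, ← QuotientGroup.mk_pow, QuotientGroup.eq_one_iff, mem_subgroupOf] at h6
    exact S.R_inf_L h6 (pow_mem hl 3)
  obtain ⟨h3, hl3⟩ := hidx
  have hlz : ¬ ∃ n : ℕ, l ^ n = S.z := by
    rintro ⟨n, hn⟩
    rw [← Nat.mod_add_div n 3, pow_add, pow_mul, hl3, one_pow, mul_one] at hn
    have h6 : S.z ^ 3 = 1 := by rw [← hn, ← pow_mul, mul_comm, pow_mul, hl3, one_pow]
    rw [pow_succ, pow_two, S.z2, one_mul] at h6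
    exact S.z_ne h6
  obtain ⟨-, y, hy, hz⟩ := (S.word l hl hl1).resolve_right hlz
  set F := S.R ⊓ centralizer {l} with hF
  set F' := S.R ⊓ centralizer {y * l * y⁻¹} with hF'
  have hFle : M ⊓ S.R ≤ F := fun x hx => by
    refine ⟨hx.2, mem_centralizer_singleton_iff.2 ?_⟩
    have e1 := hab x hx.1 (r * l) hm
    rw [← mul_assoc, hR x hx.2 r hr, mul_assoc, mul_assoc] at e1
    exact mul_left_cancel e1
  have hi : F.relIndex S.R ≤ 3 := by
    have e : (M ⊓ S.R).relIndex M ≤ 3 := by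
      rw [inf_relIndex_left]; exact Nat.le_of_dvd (by norm_num) h3
    have c1 := relIndex_mul_index (inf_le_left : M ⊓ S.R ≤ M)
    have h81 : 81 ≤ Nat.card (M ⊓ S.R : Subgroup G) := by
      have := (((M ⊓ S.R).subgroupOf M)).card_mul_index
      rw [Nat.card_congr (subgroupOfEquivOfLe (inf_le_left : M ⊓ S.R ≤ M)).toEquiv, hMc] at this
      change _ * (M ⊓ S.R).relIndex M = 243 at this
      nlinarith
    have := (F.subgroupOf S.R).card_mul_index
    rw [Nat.card_congr (subgroupOfEquivOfLe (inf_le_left : F ≤ S.R)).toEquiv, S.card_R] at this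
    change _ * F.relIndex S.R = 243 at this
    nlinarith [card_le_of_le hFle]
  have hi' : F'.relIndex S.R ≤ 3 := by
    have hmap : F' = F.map (MulAut.conj y).toMonoidHom := by
      ext x
      simp only [hF, hF', mem_inf, mem_map, mem_centralizer_singleton_iff]
      constructor
      · rintro ⟨hx, hc⟩
        refine ⟨y⁻¹ * x * y, ⟨S.R_conj_inv (S.L_le hy) hx, ?_⟩, by simp [mul_assoc]⟩
        calc y⁻¹ * x * y * l = y⁻¹ * (x * (y * l * y⁻¹)) * y := by group
          _ = l * (y⁻¹ * x * y) := by rw [hc]; group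
      · rintro ⟨u, ⟨hu, hc⟩, rfl⟩
        refine ⟨S.R_conj (S.L_le hy) hu, ?_⟩
        simp only [MulEquiv.coe_toMonoidHom, MulAut.conj_apply]
        calc y * u * y⁻¹ * (y * l * y⁻¹) = y * (u * l) * y⁻¹ := by group
          _ = _ := by rw [hc]; group
    have e : Nat.card F' = Nat.card F := by
      rw [hmap]; exact card_map_of_injective (MulAut.conj y).injective
    have a1 := (F.subgroupOf S.R).card_mul_index
    have a2 := (F'.subgroupOf S.R).card_mul_index
    rw [Nat.card_congr (subgroupOfEquivOfLe (inf_le_left : F ≤ S.R)).toEquiv] at a1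
    rw [Nat.card_congr (subgroupOfEquivOfLe (inf_le_left : F' ≤ S.R)).toEquiv, e, ← a1] at a2
    exact (Nat.eq_of_mul_eq_mul_left Nat.card_pos a2).le.trans hi
  have hinf := relIndex_inf_le (H := F) (K := F') (L := S.R)
  have hle : F ⊓ F' ≤ zpowers S.a := fun x hx => by
    refine S.R_fix hx.1.1 ?_
    have c1 : Commute x l := mem_centralizer_singleton_iff.1 hx.1.2
    have c2 : Commute x (y * l * y⁻¹) := mem_centralizer_singleton_iff.1 hx.2.2
    rw [← hz]
    exact ((c1.mul_right c2).pow_right 3).eq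
  have hcl := card_le_of_le hle
  rw [S.card_A0] at hcl
  have := ((F ⊓ F').subgroupOf S.R).card_mul_index
  rw [Nat.card_congr (subgroupOfEquivOfLe (inf_le_left.trans inf_le_left : F ⊓ F' ≤ S.R)).toEquiv,
    S.card_R] at this
  change _ * (F ⊓ F').relIndex S.R = 243 at this
  nlinarith

end Side

namespace Sec

variable {G : Type*} [Group G] [Finite G] (S : Sec G)
include S

/-- If `R` were abelian, an element outside `⟨a⟩` conjugate to `a` would lie in it. -/
theorem exists_conj_in_R (hR : ∀ r ∈ S.R, ∀ s ∈ S.R, r * s = s * r) :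
    ∃ v ∈ S.R, v ∉ zpowers S.a ∧ IsConj S.a v := by
  set F := S.R ⊓ centralizer {S.k} with hF
  set F' := S.R ⊓ centralizer {S.k * S.z} with hF'
  have hmap : F' = F.map (MulAut.conj S.w).toMonoidHom := by
    ext x
    simp only [hF, hF', mem_inf, mem_map, mem_centralizer_singleton_iff]
    constructor
    · rintro ⟨hx, hc⟩
      refine ⟨S.w⁻¹ * x * S.w, ⟨S.R_conj_inv (S.L_le S.w_mem) hx, ?_⟩, by simp [mul_assoc]⟩
      rw [← S.w_k] at hc
      calc S.w⁻¹ * x * S.w * S.k = S.w⁻¹ * (x * (S.w * S.k * S.w⁻¹)) * S.w := by group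
        _ = S.k * (S.w⁻¹ * x * S.w) := by rw [hc]; group
    · rintro ⟨u, ⟨hu, hc⟩, rfl⟩
      refine ⟨S.R_conj (S.L_le S.w_mem) hu, ?_⟩
      simp only [MulEquiv.coe_toMonoidHom, MulAut.conj_apply, ← S.w_k]
      calc S.w * u * S.w⁻¹ * (S.w * S.k * S.w⁻¹) = S.w * (u * S.k) * S.w⁻¹ := by group
        _ = _ := by rw [hc]; group
  have hcF : Nat.card F' = Nat.card F := by
    rw [hmap]; exact card_map_of_injective (MulAut.conj S.w).injective
  have hFz : ∀ x ∈ F, x ∈ zpowers S.a → x = 1 := by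
    intro x hx hxa
    have hc : x * S.k = S.k * x := mem_centralizer_singleton_iff.1 hx.2
    rcases S.A0_cases hxa with rfl | rfl | rfl
    · rfl
    · exfalso
      have h := S.k_a
      rw [← hc, mul_inv_cancel_right] at h
      exact S.a_ne (by
        have h3 := S.a3
        rw [pow_succ, pow_two] at h3
        have h2 : S.a * S.a = 1 := by nth_rw 2 [h]; exact mul_inv_cancel _
        rwa [h2, one_mul] at h3)
    · exfalso
      have h := S.k_a
      have hc' : S.k * S.a = S.a * S.k := (Commute.inv_left_iff.1 hc).eq.symm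
      rw [hc', mul_inv_cancel_right] at h
      exact S.a_ne (by
        have h3 := S.a3
        rw [pow_succ, pow_two] at h3
        have h2 : S.a * S.a = 1 := by nth_rw 2 [h]; exact mul_inv_cancel _
        rwa [h2, one_mul] at h3)
  have hcz : Commute S.k S.z := S.k_z
  have hkA : ∀ r ∈ S.R, S.k * r * S.k ∈ S.R := fun r hr => by
    have := S.R_A S.k_mem_A hr
    rwa [S.k_inv] at this
  let prodMap : F × F' × zpowers S.a → S.R := fun x =>
    ⟨x.1.1 * x.2.1.1 * x.2.2.1, mul_mem (mul_mem x.1.2.1 x.2.1.2.1) (S.A0_le_R x.2.2.2)⟩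
  -- `z` inverts both fixed groups
  have hFi : ∀ x ∈ F, S.z * x * S.z = x⁻¹ := by
    intro x hx
    have hc := S.inverted hx.1
    have hck : S.z * x * S.z * x ∈ F := by
      refine ⟨mul_mem (S.zconj_mem hx.1) hx.1, mem_centralizer_singleton_iff.2 ?_⟩
      have c : Commute x S.k := mem_centralizer_singleton_iff.1 hx.2
      exact (((hcz.symm.mul_left c).mul_left hcz.symm).mul_left c).eq
    exact eq_inv_of_mul_eq_one_left (hFz _ hck hc)
  have hF'i : ∀ x ∈ F', S.z * x * S.z = x⁻¹ := by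
    intro x hx
    rw [hmap] at hx
    obtain ⟨u, hu, rfl⟩ := mem_map.1 hx
    simp only [MulEquiv.coe_toMonoidHom, MulAut.conj_apply]
    have hw : Commute S.w S.z := S.L_z _ S.w_mem
    calc S.z * (S.w * u * S.w⁻¹) * S.z = (S.z * S.w) * u * (S.w⁻¹ * S.z) := by group
      _ = (S.w * S.z) * u * (S.z * S.w⁻¹) := by rw [hw.eq, hw.inv_left.eq]
      _ = S.w * (S.z * u * S.z) * S.w⁻¹ := by group
      _ = (S.w * u * S.w⁻¹)⁻¹ := by rw [hFi u hu]; group
  have hFF : ∀ x, x ∈ F → x ∈ F' → x = 1 := by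
    intro x h1 h2
    have c1 : Commute x S.k := mem_centralizer_singleton_iff.1 h1.2
    have c2 : Commute x (S.k * S.z) := mem_centralizer_singleton_iff.1 h2.2
    have c3 : Commute x S.z := by
      have := c1.inv_right.mul_right c2
      rwa [inv_mul_cancel_left] at this
    exact hFz x h1 (S.R_fix h1.1 c3)
  have hbij : Function.Bijective prodMap := by
    constructor
    · rintro ⟨f, f', c⟩ ⟨g, g', d⟩ h
      have h0 : (f : G) * f' * c = g * g' * d := congrArg Subtype.val h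
      have e : ((g : G) * g')⁻¹ * (f * f') = d * (c : G)⁻¹ := by
        rw [inv_mul_eq_iff_eq_mul, ← mul_assoc, ← h0, mul_inv_cancel_right]
      set q := ((g : G) * g')⁻¹ * (f * f') with hq
      have hqA : q ∈ zpowers S.a := e ▸ mul_mem d.2 (inv_mem c.2)
      have hqi : S.z * q * S.z = q⁻¹ := by
        have i1 := hFi _ f.2
        have i2 := hF'i _ f'.2
        have i3 := hFi _ g.2
        have i4 := hF'i _ g'.2
        have hfR : (f : G) ∈ S.R := (mem_inf.1 f.2).1
        have hf'R : (f' : G) ∈ S.R := (mem_inf.1 f'.2).1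
        have hgR : (g : G) ∈ S.R := (mem_inf.1 g.2).1
        have hg'R : (g' : G) ∈ S.R := (mem_inf.1 g'.2).1
        have hA : S.z * ((g : G) * g') * S.z = ((g : G) * g')⁻¹ := by
          rw [conj2_mul S.z2, i3, i4, mul_inv_rev, hR _ (inv_mem hgR) _ (inv_mem hg'R)]
        have hB : S.z * ((f : G) * f') * S.z = ((f : G) * f')⁻¹ := by
          rw [conj2_mul S.z2, i1, i2, mul_inv_rev, hR _ (inv_mem hfR) _ (inv_mem hf'R)]
        rw [hq, conj2_mul S.z2, conj2_inv S.z2, hA, hB, inv_inv,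
          hR _ (mul_mem hgR hg'R) _ (inv_mem (mul_mem hfR hf'R))]
        group
      have hq1 : q = 1 := by
        have h2 : S.z * q * S.z = q := by
          nth_rw 2 [← S.z_inv]
          rw [S.conj_A0 hqA S.z_mem_C]
        obtain ⟨m, hm⟩ := S.exists_half (S.A0_le_R hqA)
        rw [← hm, ← (Commute.refl q).mul_pow]
        nth_rw 2 [h2.symm.trans hqi]
        rw [mul_inv_cancel, one_pow]
      have e1 : (f : G) * f' = g * g' := (inv_mul_eq_one.1 hq1).symm
      have e2 : (g : G)⁻¹ * f = g' * (f' : G)⁻¹ := by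
        rw [inv_mul_eq_iff_eq_mul, ← mul_assoc, ← e1, mul_inv_cancel_right]
      have := hFF _ (mul_mem (inv_mem g.2) f.2) (e2 ▸ mul_mem g'.2 (inv_mem f'.2))
      have e3 : (g : G) = f := inv_mul_eq_one.1 this
      rw [e3, mul_left_cancel_iff] at e1
      rw [e3, e1, mul_left_cancel_iff] at h0
      exact Prod.ext (Subtype.ext e3.symm) (Prod.ext (Subtype.ext e1) (Subtype.ext h0))
    · intro x
      have key : ∀ r ∈ S.R, ∃ y, (prodMap y : G) = r ^ 4 := by
        intro r hr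
        have hc := S.inverted hr
        have hu : ∃ u ∈ S.R, S.z * u * S.z = u⁻¹ ∧ r ^ 2 = u * (S.z * r * S.z * r) := by
          refine ⟨r * (S.z * r * S.z)⁻¹, mul_mem hr (inv_mem (S.zconj_mem hr)), ?_, ?_⟩
          · rw [conj2_mul S.z2, conj2_inv S.z2, conj2_conj2 S.z2, mul_inv_rev, inv_inv]
          · rw [mul_assoc r, inv_mul_cancel_left, pow_two]
        obtain ⟨u, huR, hui, hdec⟩ := hu
        have hvR := hkA u huR
        have hcomm := hR _ huR _ hvR
        have hf : u * (S.k * u * S.k) ∈ F := by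
          refine ⟨mul_mem huR hvR, mem_centralizer_singleton_iff.2
            (commute_of_conj2 S.k2 ?_).eq⟩
          rw [conj2_mul S.k2, conj2_conj2 S.k2, hcomm]
        have hkv : S.z * (S.k * u * S.k) * S.z = (S.k * u * S.k)⁻¹ := by
          calc S.z * (S.k * u * S.k) * S.z = (S.z * S.k) * u * (S.k * S.z) := by group
            _ = (S.k * S.z) * u * (S.z * S.k) := by rw [hcz.eq]
            _ = S.k * (S.z * u * S.z) * S.k := by group
            _ = (S.k * u * S.k)⁻¹ := by rw [hui, conj2_inv S.k2]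
        have hkz : S.k * S.z * (S.k * S.z) = 1 := by
          rw [mul_assoc, ← mul_assoc S.z, ← hcz.eq, mul_assoc S.k, S.z2, mul_one, S.k2]
        have hf' : u * (S.k * u * S.k)⁻¹ ∈ F' := by
          refine mem_inf.2 ⟨mul_mem huR (inv_mem hvR), mem_centralizer_singleton_iff.2
            (commute_of_conj2 hkz ?_).eq⟩
          have e : ∀ x, S.k * S.z * x * (S.k * S.z) = S.k * (S.z * x * S.z) * S.k := fun x => by
            nth_rw 2 [hcz.eq]
            group
          rw [e, conj2_mul S.z2, conj2_inv S.z2, hui, hkv, inv_inv, conj2_mul S.k2, conj2_inv S.k2,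
            conj2_conj2 S.k2, hR _ (inv_mem hvR) _ huR]
        refine ⟨(⟨_, hf⟩, ⟨_, hf'⟩, ⟨(S.z * r * S.z * r) * (S.z * r * S.z * r), mul_mem hc hc⟩), ?_⟩
        show u * (S.k * u * S.k) * (u * (S.k * u * S.k)⁻¹) *
          ((S.z * r * S.z * r) * (S.z * r * S.z * r)) = r ^ 4
        have h1 : u * (S.k * u * S.k) * (u * (S.k * u * S.k)⁻¹) = u * u := by
          rw [mul_assoc, ← mul_assoc (S.k * u * S.k), ← hcomm, mul_assoc u, mul_inv_cancel, mul_one]
        rw [h1, show r ^ 4 = r ^ 2 * r ^ 2 by rw [← pow_add], hdec]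
        have hcu := hR _ (S.A0_le_R hc) _ huR
        generalize S.z * r * S.z * r = c at hcu ⊢
        rw [mul_assoc u c, ← mul_assoc c u, hcu]
        group
      obtain ⟨y, hy⟩ := key ((x : G) ^ 61) (pow_mem x.2 61)
      refine ⟨y, Subtype.ext ?_⟩
      rw [hy, ← pow_mul, show 61 * 4 = 243 + 1 by norm_num, pow_succ]
      have h243 : (x : S.R) ^ 243 = 1 := by rw [← S.card_R]; exact pow_card_eq_one'
      rw [show (x : G) ^ 243 = 1 from congrArg Subtype.val h243, one_mul]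
  have hc := Nat.card_congr (Equiv.ofBijective _ hbij)
  rw [Nat.card_prod, Nat.card_prod, hcF, S.card_A0, S.card_R] at hc
  have h9 : Nat.card F = 9 := by nlinarith
  obtain ⟨g, hg⟩ := isConj_iff.1 S.k_conj
  set W := F.map (MulAut.conj g⁻¹).toMonoidHom with hW
  have hWle : W ≤ centralizer {S.z} := by
    rintro _ ⟨x, hx, rfl⟩
    have c : x * S.k = S.k * x := mem_centralizer_singleton_iff.1 hx.2
    rw [← hg] at c
    rw [mem_centralizer_singleton_iff]
    simp only [MulEquiv.coe_toMonoidHom, MulAut.conj_apply, inv_inv]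
    calc g⁻¹ * x * g * S.z = g⁻¹ * (x * (g * S.z * g⁻¹)) * g := by group
      _ = S.z * (g⁻¹ * x * g) := by rw [c]; group
  obtain ⟨v, hv, hconj⟩ := S.nine W hWle (by
    rw [hW, card_map_of_injective (MulAut.conj g⁻¹).injective, h9])
  obtain ⟨x, hx, rfl⟩ := mem_map.1 hv
  refine ⟨x, hx.1, fun hxa => ?_, hconj.trans (isConj_iff.2 ⟨g, by simp [mul_assoc]⟩)⟩
  rw [hFz x hx hxa, map_one, isConj_one_left] at hconj
  exact S.a_ne hconj

omit S in
/-- The orbit count leaving only twenty-six. -/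
theorem orbit_arith : ∀ n ∈ Nat.divisors 728, n % 8 = 2 → n = 2 ∨ n = 26 := by decide +kernel

theorem not_abelian : ∃ r ∈ S.R, ∃ s ∈ S.R, r * s ≠ s * r := by
  by_contra hcon
  push Not at hcon
  obtain ⟨v, hvR, hva, hv⟩ := S.exists_conj_in_R hcon
  obtain ⟨g, hg⟩ := isConj_iff.1 hv
  -- the conjugator normalises `R`
  have hgN : g ∈ normalizer (S.R : Set G) := by
    have hMc : Nat.card (S.R.map (MulAut.conj g⁻¹).toMonoidHom) = 243 := by
      rw [card_map_of_injective (MulAut.conj g⁻¹).injective, S.card_R]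
    have e := S.abelian_unique hcon (S.R.map (MulAut.conj g⁻¹).toMonoidHom) ?_ hMc ?_
    · refine inv_mem_iff.1 (mem_normalizer_iff_map_conj_eq.2 ?_)
      exact e
    · rintro _ ⟨x, hx, rfl⟩
      rw [S.mem_C]
      have hc := hcon x hx v hvR
      rw [← hg] at hc
      simp only [MulEquiv.coe_toMonoidHom, MulAut.conj_apply, inv_inv]
      calc g⁻¹ * x * g * S.a = g⁻¹ * (x * (g * S.a * g⁻¹)) * g := by group
        _ = S.a * (g⁻¹ * x * g) := by rw [hc]; group
    · rintro _ ⟨x, hx, rfl⟩ _ ⟨y, hy, rfl⟩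
      rw [← map_mul, hcon x hx y hy, map_mul]
  set N := normalizer (S.R : Set G) with hN
  have hCN : S.C ≤ N := fun c hc => mem_normalizer_iff.2 fun x =>
    ⟨S.R_conj hc, fun h => by
      have := S.R_conj_inv hc h
      rwa [show c⁻¹ * (c * x * c⁻¹) * c = x by group] at this⟩
  -- the orbit of `a`
  let O : Set G := {x | ∃ n ∈ N, n * S.a * n⁻¹ = x}
  have hOR : ∀ x ∈ O, x ∈ S.R := by
    rintro x ⟨n, hn, rfl⟩
    exact (mem_normalizer_iff.1 hn _).1 S.a_mem_R
  have hOne : ∀ x ∈ O, x ≠ 1 := by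
    rintro x ⟨n, hn, rfl⟩ h
    exact S.a_ne (conj_eq_one_iff.1 h)
  have hkN : S.k ∈ N := mem_normalizer_iff.2 fun x =>
    ⟨S.R_A S.k_mem_A, fun h => by
      have := S.R_A (inv_mem S.k_mem_A) h
      rwa [show S.k⁻¹ * (S.k * x * S.k⁻¹) * S.k⁻¹⁻¹ = x by group] at this⟩
  have haO : S.a ∈ O := ⟨1, one_mem _, by simp⟩
  have haO' : S.a⁻¹ ∈ O := ⟨S.k, hkN, S.k_a⟩
  have hK : Nat.card O = (S.C.subgroupOf N).index := by
    let f : N → O := fun n => ⟨(n : G) * S.a * (n : G)⁻¹, n, n.2, rfl⟩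
    have hf : ∀ m n : N, f m = f n ↔ m⁻¹ * n ∈ S.C.subgroupOf N := fun m n => by
      rw [mem_subgroupOf, S.mem_C, Subtype.ext_iff]
      show (m : G) * S.a * (m : G)⁻¹ = n * S.a * (n : G)⁻¹ ↔ (m : G)⁻¹ * n * S.a = S.a * ((m : G)⁻¹ * n)
      constructor
      · intro h
        calc (m : G)⁻¹ * n * S.a = (m : G)⁻¹ * (n * S.a * (n : G)⁻¹) * n := by group
          _ = S.a * ((m : G)⁻¹ * n) := by rw [← h]; group
      · intro h
        calc (m : G) * S.a * (m : G)⁻¹ = m * (S.a * ((m : G)⁻¹ * n)) * (n : G)⁻¹ := by group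
          _ = n * S.a * (n : G)⁻¹ := by rw [← h]; group
    rw [index_eq_card]
    refine (Nat.card_congr (Equiv.ofBijective (fun q : N ⧸ S.C.subgroupOf N => Quotient.liftOn' q f
      (fun m n h => (hf m n).2 (QuotientGroup.leftRel_apply.1 h))) ⟨?_, ?_⟩)).symm
    · intro p q
      refine QuotientGroup.induction_on p fun m => QuotientGroup.induction_on q fun n h => ?_
      exact QuotientGroup.eq.2 ((hf m n).1 h)
    · rintro ⟨x, n, hn, rfl⟩
      exact ⟨QuotientGroup.mk ⟨n, hn⟩, rfl⟩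
  have hNR : Nat.card N = 5832 * Nat.card O := by
    have := (S.C.subgroupOf N).card_mul_index
    rw [Nat.card_congr (subgroupOfEquivOfLe hCN).toEquiv, S.card_C', ← hK] at this
    exact this.symm
  have hdvd : Nat.card O ∣ 728 := by
    have h := card_subgroup_dvd_card N
    rw [hNR, S.card_G, show 4245696 = 5832 * 728 by norm_num] at h
    exact Nat.dvd_of_mul_dvd_mul_left (by norm_num) h
  -- the orbit is two modulo eight
  haveI : Fact (Nat.Prime 2) := ⟨Nat.prime_two⟩
  obtain ⟨Q, hQ⟩ := Sylow.exists_subgroup_card_pow_prime (G := S.L) 2 (n := 3)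
    (by rw [S.card_L]; decide)
  let O' : Set G := O \ {S.a, S.a⁻¹}
  have hact : ∀ (q : Q) (x : G), x ∈ O' → (q : G) * x * (q : G)⁻¹ ∈ O' := by
    rintro q x ⟨⟨n, hn, rfl⟩, hx⟩
    have hqC : (q : G) ∈ S.C := S.L_le (q : S.L).2
    refine ⟨⟨(q : G) * n, mul_mem (hCN hqC) hn, by group⟩, fun h => hx ?_⟩
    have hA : (q : G) * (n * S.a * n⁻¹) * (q : G)⁻¹ ∈ zpowers S.a := by
      rcases h with h | h
      · rw [h]; exact mem_zpowers _
      · rw [Set.mem_singleton_iff] at h
        rw [h]; exact inv_mem (mem_zpowers _)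
    have e := S.conj_A0 hA (inv_mem hqC)
    rw [show (q : G)⁻¹ * ((q : G) * (n * S.a * n⁻¹) * (q : G)⁻¹) * (q : G)⁻¹⁻¹ = n * S.a * n⁻¹ by group]
      at e
    rwa [← e] at h
  letI : MulAction Q O' :=
    { smul := fun q x => ⟨(q : G) * x * (q : G)⁻¹, hact q x x.2⟩
      one_smul := fun x => Subtype.ext (show ((1 : Q) : G) * x * ((1 : Q) : G)⁻¹ = x by simp)
      mul_smul := fun p q x => Subtype.ext (show ((p * q : Q) : G) * x * ((p * q : Q) : G)⁻¹ =
        (p : G) * ((q : G) * x * (q : G)⁻¹) * (p : G)⁻¹ by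
          rw [show ((p * q : Q) : G) = (p : G) * q from rfl]; group) }
  have hst : ∀ x : O', MulAction.stabilizer Q x = ⊥ := by
    intro x
    rw [eq_bot_iff]
    intro q hq
    rw [mem_bot]
    by_contra hq1
    rw [MulAction.mem_stabilizer_iff] at hq
    have hqx : (q : G) * x * (q : G)⁻¹ = x := congrArg Subtype.val hq
    have hc : Commute (q : G) x := mul_inv_eq_iff_eq_mul.1 hqx
    have hq1' : (q : G) ≠ 1 := fun e => hq1 (Subtype.ext (Subtype.ext e))
    have h8 : (q : G) ^ 8 = 1 := by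
      have := pow_card_eq_one' (G := Q) (x := q)
      rw [hQ] at this
      exact congrArg (fun y : Q => (y : G)) this
    rcases S.word _ (q : S.L).2 hq1' with ⟨h3, -⟩ | ⟨n, hn⟩
    · refine hq1' ?_
      have : (q : G) ^ 9 = 1 := by rw [show 9 = 3 * 3 by norm_num, pow_mul, h3, one_pow]
      rwa [pow_succ, h8, one_mul] at this
    · have hxz : (x : G) * S.z = S.z * x := by
        rw [← hn]; exact (hc.pow_left n).eq.symm
      have hx0 := S.R_fix (hOR _ x.2.1) hxz
      rcases S.A0_cases hx0 with e | e | e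
      · exact hOne _ x.2.1 e
      · exact x.2.2 (Or.inl e)
      · exact x.2.2 (Or.inr e)
  have h8 : 8 ∣ Nat.card O' := by
    rw [Nat.card_congr (MulAction.selfEquivOrbitsQuotientProd hst), Nat.card_prod, hQ]
    exact Dvd.intro_left _ rfl
  have hne2 : S.a ≠ S.a⁻¹ := fun e => S.a_ne (by
    have h3 := S.a3
    rw [pow_succ, pow_two] at h3
    have h2 : S.a * S.a = 1 := by nth_rw 2 [e]; exact mul_inv_cancel _
    rwa [h2, one_mul] at h3)
  have hsum : Nat.card O = Nat.card O' + 2 := by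
    have hsub : ({S.a, S.a⁻¹} : Set G) ⊆ O := Set.insert_subset haO (Set.singleton_subset_iff.2 haO')
    have := Set.ncard_sdiff_add_ncard_of_subset hsub
    rw [Set.ncard_pair hne2] at this
    rw [Nat.card_coe_set_eq, Nat.card_coe_set_eq]
    exact this.symm
  have h3 : 0 < Nat.card O' := by
    haveI : Nonempty O' := ⟨⟨v, ⟨g, hgN, hg⟩, fun h => hva (by
      rcases h with h | h
      · rw [h]; exact mem_zpowers _
      · rw [Set.mem_singleton_iff] at h
        rw [h]; exact inv_mem (mem_zpowers _))⟩⟩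
    exact Nat.card_pos
  have h26 : Nat.card O = 26 := by
    rcases orbit_arith (Nat.card O) (Nat.mem_divisors.2 ⟨hdvd, by norm_num⟩) (by omega) with e | e
    · omega
    · exact e
  -- an element of order thirteen centralising `z`
  haveI hRn : (S.R.subgroupOf N).Normal := ⟨fun x hx n => by
    rw [mem_subgroupOf] at hx ⊢
    exact (mem_normalizer_iff.1 n.2 _).1 hx⟩
  have hq : Nat.card (N ⧸ S.R.subgroupOf N) = 624 := by
    have := (S.R.subgroupOf N).card_mul_index
    rw [Nat.card_congr (subgroupOfEquivOfLe (S.R_le.trans hCN)).toEquiv, S.card_R, hNR, h26,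
      index_eq_card] at this
    omega
  haveI : Fact (Nat.Prime 13) := ⟨by norm_num⟩
  have hW : ∀ P : Sylow 13 (N ⧸ S.R.subgroupOf N), Nat.card P = 13 ∧ P.1.Normal := by
    intro P
    have hc : Nat.card P = 13 := by
      have h1 := P.1.card_mul_index
      rw [hq] at h1
      change Nat.card P * _ = 624 at h1
      have h2 := P.not_dvd_index
      obtain ⟨n, hn⟩ := IsPGroup.iff_card.1 P.2
      change Nat.card P = _ at hn
      rw [hn] at h1 ⊢
      have : n ≤ 2 := by
        by_contra h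
        have := Nat.pow_le_pow_right (show 13 > 0 by norm_num) (show 3 ≤ n by omega)
        nlinarith [Nat.pos_of_ne_zero (right_ne_zero_of_mul (h1.trans_ne (by norm_num : (624:ℕ) ≠ 0)))]
      interval_cases n <;> omega
    refine ⟨hc, ?_⟩
    have hd := P.card_dvd_index
    have h1 := P.1.card_mul_index
    rw [hq] at h1
    change Nat.card P * _ = 624 at h1
    rw [hc] at h1
    rw [show P.1.index = 48 by omega] at hd
    have hm := card_sylow_modEq_one 13 (N ⧸ S.R.subgroupOf N)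
    have hle := Nat.le_of_dvd (by norm_num) hd
    have h1' : Nat.card (Sylow 13 (N ⧸ S.R.subgroupOf N)) = 1 := by
      unfold Nat.ModEq at hm
      rcases (by omega : Nat.card (Sylow 13 (N ⧸ S.R.subgroupOf N)) = 1 ∨
          Nat.card (Sylow 13 (N ⧸ S.R.subgroupOf N)) = 14 ∨
          Nat.card (Sylow 13 (N ⧸ S.R.subgroupOf N)) = 27 ∨
          Nat.card (Sylow 13 (N ⧸ S.R.subgroupOf N)) = 40) with e | e | e | e
      · exact e
      all_goals rw [e] at hd; omega
    haveI := (Nat.card_eq_one_iff_unique.1 h1').1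
    exact P.normal_of_subsingleton
  obtain ⟨P⟩ := (inferInstance : Nonempty (Sylow 13 (N ⧸ S.R.subgroupOf N)))
  obtain ⟨hPc, hPn⟩ := hW P
  obtain ⟨i, hi, j, hj, hij⟩ := S.z_comm
  let π := QuotientGroup.mk' (S.R.subgroupOf N)
  haveI := hPn
  haveI : IsCyclic (P : Subgroup (N ⧸ S.R.subgroupOf N)) := isCyclic_of_prime_card (p := 13) hPc
  let ψ : N ⧸ S.R.subgroupOf N →* MulAut (P : Subgroup (N ⧸ S.R.subgroupOf N)) := MulAut.conjNormal
  have hzψ : ψ (π ⟨S.z, hCN S.z_mem_C⟩) = 1 := by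
    have hab : ∀ x y : MulAut (P : Subgroup (N ⧸ S.R.subgroupOf N)), x * y = y * x := fun x y =>
      (IsCyclic.mulAutMulEquiv _).injective (by rw [map_mul, map_mul, mul_comm])
    have e : (⟨S.z, hCN S.z_mem_C⟩ : N) = (⟨i, hCN (S.L_le hi)⟩ : N) * ⟨j, hCN (S.L_le hj)⟩ *
        (⟨i, hCN (S.L_le hi)⟩ : N)⁻¹ * (⟨j, hCN (S.L_le hj)⟩ : N)⁻¹ := Subtype.ext hij.symm
    rw [e]
    simp only [map_mul, map_inv]
    rw [hab (ψ (π _)) (ψ (π _)), mul_inv_cancel_right, mul_inv_cancel]
  obtain ⟨⟨p, hpP⟩, hp1⟩ : ∃ p : (P : Subgroup (N ⧸ S.R.subgroupOf N)), p ≠ 1 := by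
    haveI : Nontrivial (P : Subgroup (N ⧸ S.R.subgroupOf N)) :=
      Finite.one_lt_card_iff_nontrivial.1 (by rw [hPc]; norm_num)
    exact exists_ne 1
  obtain ⟨n, rfl⟩ := QuotientGroup.mk'_surjective _ p
  have hzp : π ⟨S.z, hCN S.z_mem_C⟩ * π n * (π ⟨S.z, hCN S.z_mem_C⟩)⁻¹ = π n := by
    have := congrArg (fun e : MulAut (P : Subgroup (N ⧸ S.R.subgroupOf N)) =>
      ((e ⟨π n, hpP⟩ : (P : Subgroup (N ⧸ S.R.subgroupOf N))) : N ⧸ S.R.subgroupOf N)) hzψ
    simpa [ψ, MulAut.conjNormal_apply] using this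
  have hrel : (n : G) * S.z * (n : G)⁻¹ * S.z ∈ S.R := by
    have e : π (n * ⟨S.z, hCN S.z_mem_C⟩ * n⁻¹ * ⟨S.z, hCN S.z_mem_C⟩) = 1 := by
      have hzz : (⟨S.z, hCN S.z_mem_C⟩ : N)⁻¹ = ⟨S.z, hCN S.z_mem_C⟩ := Subtype.ext S.z_inv
      have hc : π n * π ⟨S.z, hCN S.z_mem_C⟩ = π ⟨S.z, hCN S.z_mem_C⟩ * π n := by
        nth_rw 1 [← hzp]
        rw [inv_mul_cancel_right]
      rw [map_mul, map_mul, map_mul, map_inv, hc, mul_inv_cancel_right, ← map_mul]
      rw [show (⟨S.z, hCN S.z_mem_C⟩ : N) * ⟨S.z, hCN S.z_mem_C⟩ = 1 from Subtype.ext S.z2, map_one]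
    have h : n * ⟨S.z, hCN S.z_mem_C⟩ * n⁻¹ * ⟨S.z, hCN S.z_mem_C⟩ ∈ S.R.subgroupOf N :=
      (QuotientGroup.eq_one_iff _).1 e
    exact mem_subgroupOf.1 h
  have hinv : S.z * ((n : G) * S.z * (n : G)⁻¹ * S.z) * S.z = ((n : G) * S.z * (n : G)⁻¹ * S.z)⁻¹ := by
    simp only [mul_inv_rev, inv_inv, S.z_inv, mul_assoc, S.z2, mul_one]
  obtain ⟨s, hs, e⟩ := S.exists_conj hrel hinv
  have e' : s * S.z * s⁻¹ = (n : G) * S.z * (n : G)⁻¹ := by
    rw [e, mul_assoc, S.z2, mul_one]
  set h : G := s⁻¹ * n with hh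
  have hhN : h ∈ N := mul_mem (inv_mem (hCN (S.R_le hs))) n.2
  have hzh : h ∈ centralizer {S.z} := mem_centralizer_singleton_iff.2 (by
    calc s⁻¹ * (n : G) * S.z = s⁻¹ * ((n : G) * S.z * (n : G)⁻¹) * n := by group
      _ = S.z * (s⁻¹ * n) := by rw [← e']; group)
  have hπ : π ⟨h, hhN⟩ = π n := by
    refine QuotientGroup.eq.2 ?_
    rw [mem_subgroupOf]
    show (s⁻¹ * (n : G))⁻¹ * n ∈ S.R
    rw [show (s⁻¹ * (n : G))⁻¹ * n = (n : G)⁻¹ * s * n by group]
    exact (mem_normalizer_iff''.1 n.2 _).1 hs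
  have ho : orderOf (π n) = 13 := by
    have := orderOf_eq_prime (p := 13) (x := (⟨π n, hpP⟩ : (P : Subgroup (N ⧸ S.R.subgroupOf N))))
      ((congrArg (fun m => (⟨π n, hpP⟩ : (P : Subgroup (N ⧸ S.R.subgroupOf N))) ^ m) hPc.symm).trans
        pow_card_eq_one') hp1
    rwa [← Subgroup.orderOf_coe] at this
  have h1 : orderOf (π ⟨h, hhN⟩) ∣ orderOf (⟨h, hhN⟩ : N) := orderOf_map_dvd π _
  rw [hπ, ho, ← Subgroup.orderOf_coe] at h1
  have h2 : orderOf h ∣ 576 := S.card_H ▸ by
    have := orderOf_dvd_natCard (⟨h, hzh⟩ : centralizer ({S.z} : Set G))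
    rwa [← Subgroup.orderOf_coe] at this
  have := h1.trans h2
  norm_num at this

/-- The centre of the radical. -/
noncomputable def Z : Subgroup G := S.R ⊓ centralizer (S.R : Set G)

theorem mem_Z {x : G} : x ∈ S.Z ↔ x ∈ S.R ∧ ∀ r ∈ S.R, r * x = x * r := by
  rw [Z, mem_inf, mem_centralizer_iff]; rfl

theorem A0_le_Z : zpowers S.a ≤ S.Z := fun _ hc =>
  S.mem_Z.2 ⟨S.A0_le_R hc, fun _ hr => S.A0_central hc (S.R_le hr)⟩

theorem Z_conj {g x : G} (hg : g ∈ S.A) (hx : x ∈ S.Z) : g * x * g⁻¹ ∈ S.Z := by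
  obtain ⟨hxR, hxc⟩ := S.mem_Z.1 hx
  refine S.mem_Z.2 ⟨S.R_A hg hxR, fun r hr => ?_⟩
  have h := hxc _ (S.R_A (inv_mem hg) hr)
  calc r * (g * x * g⁻¹) = g * (g⁻¹ * r * g⁻¹⁻¹ * x) * g⁻¹ := by group
    _ = g * x * g⁻¹ * r := by rw [h]; group

/-- The centre of the radical is larger than `⟨a⟩`. -/
theorem Z_ne : S.Z ≠ zpowers S.a := fun e => by
  haveI : Fact (Nat.Prime 3) := ⟨Nat.prime_three⟩
  -- Sylow subgroups of the centralisers are Sylow in the whole group
  have key : ∀ x : G, Nat.card (centralizer {x} : Subgroup G) = 5832 →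
      ∃ T : Subgroup G, T ≤ centralizer {x} ∧ Nat.card T = 729 := fun x hx => by
    obtain ⟨T, hT⟩ := Sylow.exists_subgroup_card_pow_prime (G := centralizer ({x} : Set G)) 3 (n := 6)
      (by rw [hx]; decide)
    exact ⟨T.map (centralizer ({x} : Set G)).subtype, map_subtype_le _,
      by rw [card_map_of_injective (Subgroup.subtype_injective _), hT]; norm_num⟩
  obtain ⟨T₁, hT₁, hc₁⟩ := key S.a S.card_C
  obtain ⟨T₂, hT₂, hc₂⟩ := key S.b S.card_Cb
  have hv : ∀ T : Subgroup G, Nat.card T = 729 → ∃ P : Sylow 3 G, (P : Subgroup G) = T := fun T hT =>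
    ⟨Sylow.ofCard T (by
      rw [hT, S.card_G, show 4245696 = 3 ^ 6 * 5824 by norm_num,
        Nat.factorization_mul (by norm_num) (by norm_num), Finsupp.add_apply,
        Nat.prime_three.factorization_pow, Finsupp.single_eq_same,
        Nat.factorization_eq_zero_of_not_dvd (by norm_num : ¬ 3 ∣ 5824)]
      norm_num), rfl⟩
  obtain ⟨P₁, hP₁⟩ := hv T₁ hc₁
  obtain ⟨P₂, hP₂⟩ := hv T₂ hc₂
  obtain ⟨g, hg⟩ := MulAction.exists_smul_eq G P₂ P₁
  have hgT : T₂.map (MulAut.conj g).toMonoidHom = T₁ := by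
    rw [← hP₁, ← hP₂, ← hg]; rfl
  set x := g * S.b * g⁻¹ with hx
  have hxc : ∀ t ∈ T₁, t * x = x * t := by
    intro t ht
    rw [← hgT] at ht
    obtain ⟨u, hu, rfl⟩ := mem_map.1 ht
    have hc : u * S.b = S.b * u := mem_centralizer_singleton_iff.1 (hT₂ hu)
    simp only [MulEquiv.coe_toMonoidHom, MulAut.conj_apply, hx]
    calc g * u * g⁻¹ * (g * S.b * g⁻¹) = g * (u * S.b) * g⁻¹ := by group
      _ = _ := by rw [hc]; group
  have hRT : S.R ≤ T₁ := by
    have hTC : T₁ ≤ S.C := hT₁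
    have hp : IsPGroup 3 T₁ := IsPGroup.of_card (n := 6) (by rw [hc₁]; norm_num)
    haveI hn : (S.R.subgroupOf S.C).Normal := ⟨fun y hy c => by
      rw [mem_subgroupOf] at hy ⊢; exact S.R_conj c.2 hy⟩
    obtain ⟨P, hP⟩ := (hp.of_equiv (subgroupOfEquivOfLe hTC).symm).exists_le_sylow
    have hPc : Nat.card P ≤ 729 := by
      have h1 := P.1.card_mul_index
      rw [S.card_C'] at h1
      change Nat.card P * _ = 5832 at h1
      obtain ⟨n, hn⟩ := IsPGroup.iff_card.1 P.2
      change Nat.card P = _ at hn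
      have hd : 3 ^ n ∣ 3 ^ 6 * 8 := ⟨P.1.index, by rw [← hn, h1]; norm_num⟩
      have := Nat.le_of_dvd (by norm_num) ((Nat.Coprime.pow_left n (by decide : Nat.Coprime 3 8)).dvd_of_dvd_mul_right hd)
      rw [hn]; simpa using this
    have eP : T₁.subgroupOf S.C = P := eq_of_le_of_card_ge hP (by
      rw [Nat.card_congr (subgroupOfEquivOfLe hTC).toEquiv, hc₁]; exact hPc)
    have e2 := P.is_maximal' (IsPGroup.to_sup_of_normal_left
      (S.isPGroup_R.of_equiv (subgroupOfEquivOfLe S.R_le).symm) P.2) le_sup_right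
    intro r hr
    have : (⟨r, S.R_le hr⟩ : S.C) ∈ (P : Subgroup S.C) := by
      rw [← e2]; exact mem_sup_left (mem_subgroupOf.2 hr)
    rw [← eP, mem_subgroupOf] at this
    exact this
  have hxC : x ∈ S.C := S.mem_C.2 (hxc _ (hRT S.a_mem_R)).symm
  have hxR : x ∈ S.R := by
    rw [← S.Kmod_eq]
    refine ⟨hxC, fun r hr => ?_⟩
    rw [← hxc r (hRT hr), mul_inv_cancel_right, mul_inv_cancel]
    exact one_mem _
  have hxZ : x ∈ zpowers S.a := e ▸ S.mem_Z.2 ⟨hxR, fun r hr => hxc r (hRT hr)⟩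
  have hbx : IsConj S.b x := isConj_iff.2 ⟨g, hx.symm⟩
  rcases S.A0_cases hxZ with h | h | h
  · rw [h, isConj_one_left] at hbx
    have h3 := S.card_Cb
    rw [hbx] at h3
    rw [show centralizer ({1} : Set G) = ⊤ from top_unique fun y _ =>
      mem_centralizer_singleton_iff.2 (by simp), card_top, S.card_G] at h3
    norm_num at h3
  · exact S.nc (h ▸ hbx).symm
  · exact S.nc' (h ▸ hbx).symm

theorem card_Z : Nat.card S.Z = 27 := by
  haveI : Fact (Nat.Prime 3) := ⟨Nat.prime_three⟩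
  have hle : S.Z ≤ S.R := inf_le_left
  have hd : Nat.card S.Z ∣ 3 ^ 5 := by
    have := card_dvd_of_le hle
    rwa [S.card_R] at this
  obtain ⟨n, hn, hc⟩ := (Nat.dvd_prime_pow Nat.prime_three).1 hd
  have h3 : 3 ≤ Nat.card S.Z := S.card_A0 ▸ card_le_of_le S.A0_le_Z
  obtain ⟨r₀, hr₀, s₀, hs₀, hne⟩ := S.not_abelian
  have n5 : n ≠ 5 := fun e => by
    have : S.Z = S.R := eq_of_le_of_card_ge hle (by rw [S.card_R, hc, e]; norm_num)
    exact hne ((S.mem_Z.1 (this ▸ hs₀)).2 r₀ hr₀)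
  have n4 : n ≠ 4 := fun e => by
    -- a cyclic quotient by the centre
    have hrZ : r₀ ∉ S.Z := fun h => hne ((S.mem_Z.1 h).2 s₀ hs₀).symm
    have hc' : Commute r₀ s₀ := by
      set T := S.R ⊓ centralizer {r₀} with hT
      have hZT : S.Z ≤ T := fun y hy => ⟨hle hy, mem_centralizer_singleton_iff.2 ((S.mem_Z.1 hy).2 r₀ hr₀).symm⟩
      have hrT : r₀ ∈ T := ⟨hr₀, mem_centralizer_singleton_iff.2 rfl⟩
      have hlt : Nat.card S.Z < Nat.card T := by
        refine lt_of_le_of_ne (card_le_of_le hZT) fun eq => hrZ ?_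
        rw [eq_of_le_of_card_ge hZT eq.ge]; exact hrT
      have hTd : Nat.card T ∣ 3 ^ 5 := by
        have := card_dvd_of_le (inf_le_left : T ≤ S.R)
        rwa [S.card_R] at this
      obtain ⟨m, hm, hmc⟩ := (Nat.dvd_prime_pow Nat.prime_three).1 hTd
      rw [hc, e, hmc, Nat.pow_lt_pow_iff_right (by norm_num)] at hlt
      have : T = S.R := eq_of_le_of_card_ge inf_le_left (by
        rw [S.card_R, hmc, show m = 5 by omega]; norm_num)
      exact (mem_centralizer_singleton_iff.1 (this ▸ hs₀ : s₀ ∈ T).2).symm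
    exact hne hc'.eq
  have n1 : n ≠ 1 := fun e => S.Z_ne (eq_of_le_of_card_ge S.A0_le_Z (by
    rw [S.card_A0, hc, e]; norm_num)).symm
  have n2 : n ≠ 2 := fun e => by
    obtain ⟨x, hxZ, hxA⟩ : ∃ x ∈ S.Z, x ∉ zpowers S.a := by
      by_contra h
      push Not at h
      exact S.Z_ne (le_antisymm h S.A0_le_Z)
    obtain ⟨i, hi, hiz⟩ := S.z_sq
    haveI hN0 : ((zpowers S.a).subgroupOf S.Z).Normal := ⟨fun y hy c => by
      rw [mem_subgroupOf] at hy ⊢
      show (c : G) * (y : G) * (c : G)⁻¹ ∈ _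
      rw [S.conj_A0 hy (S.R_le (hle c.2))]; exact hy⟩
    have hq : Nat.card (S.Z ⧸ (zpowers S.a).subgroupOf S.Z) = 3 := by
      have := ((zpowers S.a).subgroupOf S.Z).card_mul_index
      rw [Nat.card_congr (subgroupOfEquivOfLe S.A0_le_Z).toEquiv, S.card_A0, hc, e, index_eq_card] at this
      omega
    have hcases : ∀ y ∈ S.Z, y ∈ zpowers S.a ∨ y * x⁻¹ ∈ zpowers S.a ∨ y * x ∈ zpowers S.a := by
      intro y hy
      set qx : S.Z ⧸ (zpowers S.a).subgroupOf S.Z := QuotientGroup.mk ⟨x, hxZ⟩ with hqx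
      have hne1 : qx ≠ 1 := fun h => hxA (mem_subgroupOf.1 ((QuotientGroup.eq_one_iff _).1 h))
      have hm := mem_powers_of_prime_card (p := 3) (g' := (QuotientGroup.mk ⟨y, hy⟩ :
        S.Z ⧸ (zpowers S.a).subgroupOf S.Z)) hq hne1
      obtain ⟨m, hm⟩ := (Submonoid.mem_powers_iff _ _).1 hm
      have h3 : qx ^ 3 = 1 := by rw [← hq]; exact pow_card_eq_one'
      rw [← Nat.mod_add_div m 3, pow_add, pow_mul, h3, one_pow, mul_one, hqx, ← QuotientGroup.mk_pow,
        QuotientGroup.eq, mem_subgroupOf] at hm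
      change (x ^ (m % 3))⁻¹ * y ∈ zpowers S.a at hm
      have hc2 : y * (x ^ (m % 3))⁻¹ ∈ zpowers S.a := by
        have h := S.conj_A0 hm (S.R_le (hle (pow_mem hxZ (m % 3))))
        rw [show x ^ (m % 3) * ((x ^ (m % 3))⁻¹ * y) * (x ^ (m % 3))⁻¹ = y * (x ^ (m % 3))⁻¹ by group] at h
        rw [h]; exact hm
      rcases (by omega : m % 3 = 0 ∨ m % 3 = 1 ∨ m % 3 = 2) with e | e | e <;> rw [e] at hc2
      · exact Or.inl (by simpa using hc2)
      · exact Or.inr (Or.inl (by simpa using hc2))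
      · refine Or.inr (Or.inr ?_)
        have hx3 : x ^ 3 ∈ zpowers S.a := by
          have := (QuotientGroup.eq_one_iff _).1 ((QuotientGroup.mk_pow _ _ _).trans h3 :
            (QuotientGroup.mk ((⟨x, hxZ⟩ : S.Z) ^ 3) : S.Z ⧸ (zpowers S.a).subgroupOf S.Z) = 1)
          exact mem_subgroupOf.1 this
        have := mul_mem hc2 hx3
        rwa [mul_assoc, pow_succ x 2, inv_mul_cancel_left] at this
    -- the square of an automorphism of a group of order three is trivial
    have hix : S.z * x * S.z⁻¹ * x⁻¹ ∈ zpowers S.a := by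
      have hy := S.Z_conj (S.C_le_A (S.L_le hi)) hxZ
      have hiC := S.L_le hi
      rw [← hiz]
      rcases hcases _ hy with h | h | h
      · exfalso
        refine hxA ?_
        have := S.conj_A0 h (inv_mem hiC)
        rw [show i⁻¹ * (i * x * i⁻¹) * i⁻¹⁻¹ = x by group] at this
        rw [this]; exact h
      · rw [show i * i * x * (i * i)⁻¹ * x⁻¹ = i * (i * x * i⁻¹ * x⁻¹) * i⁻¹ * (i * x * i⁻¹ * x⁻¹) by group,
          S.conj_A0 h hiC]
        exact mul_mem h h
      · have h2 := S.conj_A0 h hiC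
        have e : i * i * x * (i * i)⁻¹ * x⁻¹ = i * (i * x * i⁻¹ * x) * i⁻¹ * (x * (i * x * i⁻¹))⁻¹ := by group
        rw [e, h2, show x * (i * x * i⁻¹) = i * x * i⁻¹ * x from (S.mem_Z.1 hy).2 x (hle hxZ)]
        exact mul_mem h (inv_mem h)
    rw [S.z_inv] at hix
    have h2 := mul_mem (inv_mem hix) (S.inverted (hle hxZ))
    have e : (S.z * x * S.z * x⁻¹)⁻¹ * (S.z * x * S.z * x) = x * x := by group
    rw [e] at h2
    obtain ⟨m, hm⟩ := S.exists_half (hle hxZ)
    refine hxA ?_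
    rw [← hm, ← (Commute.refl x).mul_pow]
    exact pow_mem h2 m
  have n0 : n ≠ 0 := fun e => by rw [hc, e] at h3; omega
  rw [hc, show n = 3 by omega]
  norm_num

end Sec

end Cfsg.Agent.G23Two.Para
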