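import Cfsg.Prelude.Def_Amalgam
import Mathlib.GroupTheory.Sylow
import Mathlib.GroupTheory.FixedPointFree
import Mathlib.GroupTheory.IndexNormal
import Mathlib.GroupTheory.Commutator.Basic
import Mathlib.Tactic.Group
import Mathlib.Tactic.IntervalCases
import Mathlib.LinearAlgebra.Matrix.GeneralLinearGroup.Defs

/-!
The centraliser of an element of order three lying in one of the two `SL(2,3)` of the centraliser of an
involution: the largest normal 3-subgroup `R`, of order `3⁵`, with complement `SL(2,3)`.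
-/

set_option autoImplicit false
set_option linter.unusedSectionVars false
set_option linter.style.haveILetI false

namespace Cfsg.Agent.G23Two.Para

open Subgroup

/-- An element `a` of order three in the centraliser of the involution `z`, with centraliser of order
`2³·3⁶` meeting that of `z` in `⟨a⟩ × L`. -/
structure Side (G : Type*) [Group G] [Finite G] where
  /-- the involution -/
  z : G
  /-- the element of order three -/
  a : G
  /-- an involution inverting `a` -/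
  k : G
  /-- an element exchanging `k` and `k z` -/
  w : G
  /-- the complement -/
  L : Subgroup G
  z2 : z * z = 1
  a3 : a ^ 3 = 1
  a_ne : a ≠ 1
  card_C : Nat.card (centralizer {a} : Subgroup G) = 5832
  card_L : Nat.card L = 24
  L_a : ∀ l ∈ L, l * a = a * l
  L_z : ∀ l ∈ L, l * z = z * l
  z_mem : z ∈ L
  z_ne : z ≠ 1
  a_notMem : a ∉ L
  word : ∀ x ∈ L, x ≠ 1 → (x ^ 3 = 1 ∧ ∃ y ∈ L, (x * (y * x * y⁻¹)) ^ 3 = z) ∨ ∃ n : ℕ, x ^ n = z
  z_comm : ∃ i ∈ L, ∃ j ∈ L, i * j * i⁻¹ * j⁻¹ = z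
  z_sq : ∃ i ∈ L, i * i = z
  CH : ∀ g, g * z = z * g → g * a = a * g → ∃ l ∈ L, g * l⁻¹ ∈ zpowers a
  k_z : k * z = z * k
  k2 : k * k = 1
  k_a : k * a * k⁻¹ = a⁻¹
  w_mem : w ∈ L
  w_k : w * k * w⁻¹ = k * z
  k_L : ∀ h, h * z = z * h → h * a * h⁻¹ = a⁻¹ → ∃ l ∈ L, h * l * h⁻¹ * l⁻¹ ∉ zpowers a

namespace Side

variable {G : Type*} [Group G] [Finite G] (S : Side G)
include S

/-- The centraliser of `a`. -/
def C : Subgroup G := centralizer {S.a}

theorem mem_C {g : G} : g ∈ S.C ↔ g * S.a = S.a * g := by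
  rw [C, mem_centralizer_singleton_iff]

theorem card_C' : Nat.card S.C = 5832 := S.card_C

theorem L_le : S.L ≤ S.C := fun _ hl => S.mem_C.2 (S.L_a _ hl)

theorem a_mem_C : S.a ∈ S.C := S.mem_C.2 rfl

theorem z_mem_C : S.z ∈ S.C := S.L_le S.z_mem

theorem z_inv : S.z⁻¹ = S.z := inv_eq_of_mul_eq_one_left S.z2

theorem A0_le : zpowers S.a ≤ S.C := zpowers_le.2 S.a_mem_C

theorem A0_central {c g : G} (hc : c ∈ zpowers S.a) (hg : g ∈ S.C) : g * c = c * g := by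
  obtain ⟨n, rfl⟩ := mem_zpowers_iff.1 hc
  exact (Commute.zpow_right (S.mem_C.1 hg) n)

theorem conj_A0 {c g : G} (hc : c ∈ zpowers S.a) (hg : g ∈ S.C) : g * c * g⁻¹ = c := by
  rw [S.A0_central hc hg, mul_inv_cancel_right]

theorem card_A0 : Nat.card (zpowers S.a) = 3 := by
  rw [Nat.card_zpowers]
  haveI : Fact (Nat.Prime 3) := ⟨Nat.prime_three⟩
  exact orderOf_eq_prime S.a3 S.a_ne

theorem A0_cases {c : G} (hc : c ∈ zpowers S.a) : c = 1 ∨ c = S.a ∨ c = S.a⁻¹ := by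
  obtain ⟨n, rfl⟩ := mem_zpowers_iff.1 hc
  rw [← zpow_mod_orderOf]
  have h3 : orderOf S.a = 3 := by rw [← Nat.card_zpowers]; exact S.card_A0
  rw [h3]
  rcases (by omega : n % ((3 : ℕ) : ℤ) = 0 ∨ n % ((3 : ℕ) : ℤ) = 1 ∨ n % ((3 : ℕ) : ℤ) = 2) with e | e | e
    <;> rw [e]
  · exact Or.inl (zpow_zero _)
  · exact Or.inr (Or.inl (zpow_one _))
  · refine Or.inr (Or.inr ?_)
    rw [show (2 : ℤ) = ((2 : ℕ) : ℤ) from rfl, zpow_natCast]
    exact eq_inv_of_mul_eq_one_left (by rw [← pow_succ]; exact S.a3)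

/-- A subgroup normalised by `L` and avoiding `z` meets `L` trivially. -/
theorem inf_L (T : Subgroup G) (hT : ∀ l ∈ S.L, ∀ t ∈ T, l * t * l⁻¹ ∈ T) (hz : S.z ∉ T) {x : G}
    (hx : x ∈ T) (hl : x ∈ S.L) : x = 1 := by
  by_contra h
  rcases S.word x hl h with ⟨-, y, hy, e⟩ | ⟨n, e⟩
  · exact hz (e ▸ pow_mem (mul_mem hx (hT y hy x hx)) 3)
  · exact hz (e ▸ pow_mem hx n)

/-- A Sylow subgroup of the centraliser. -/
noncomputable def syl : Sylow 3 S.C :=
  Classical.choice inferInstance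

/-- The largest normal 3-subgroup of the centraliser. -/
noncomputable def R : Subgroup G := (S.syl.1.normalCore).map S.C.subtype

theorem R_le : S.R ≤ S.C := map_subtype_le _

theorem isPGroup_R : IsPGroup 3 S.R :=
  (S.syl.2.to_le (normalCore_le _)).map _

theorem R_conj {g r : G} (hg : g ∈ S.C) (hr : r ∈ S.R) : g * r * g⁻¹ ∈ S.R := by
  obtain ⟨x, hx, rfl⟩ := mem_map.1 hr
  exact mem_map.2 ⟨⟨g, hg⟩ * x * (⟨g, hg⟩ : S.C)⁻¹, (normalCore_normal _).conj_mem x hx _, rfl⟩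

theorem R_conj_inv {g r : G} (hg : g ∈ S.C) (hr : r ∈ S.R) : g⁻¹ * r * g ∈ S.R := by
  have := S.R_conj (inv_mem hg) hr
  rwa [inv_inv] at this

/-- Every normal 3-subgroup of the centraliser lies in `R`. -/
theorem le_R (K : Subgroup G) (hK : K ≤ S.C) (h3 : IsPGroup 3 K)
    (hn : ∀ g ∈ S.C, ∀ x ∈ K, g * x * g⁻¹ ∈ K) : K ≤ S.R := by
  haveI : Fact (Nat.Prime 3) := ⟨Nat.prime_three⟩
  haveI hN : (K.subgroupOf S.C).Normal := ⟨fun x hx g => by
    rw [mem_subgroupOf] at hx ⊢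
    exact hn g.1 g.2 x.1 hx⟩
  have hp : IsPGroup 3 (K.subgroupOf S.C) := h3.of_equiv (subgroupOfEquivOfLe hK).symm
  have e := S.syl.is_maximal' (IsPGroup.to_sup_of_normal_left hp S.syl.2) le_sup_right
  have hle : K.subgroupOf S.C ≤ S.syl.1 := le_sup_left.trans e.le
  have hle' : K.subgroupOf S.C ≤ S.syl.1.normalCore := normal_le_normalCore.2 hle
  exact fun x hx => mem_map.2 ⟨⟨x, hK hx⟩, hle' (mem_subgroupOf.2 hx), rfl⟩

theorem A0_le_R : zpowers S.a ≤ S.R :=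
  S.le_R _ S.A0_le (IsPGroup.of_card (n := 1) (by rw [S.card_A0]; rfl))
    fun g hg x hx => by rw [S.conj_A0 hx hg]; exact hx

theorem a_mem_R : S.a ∈ S.R := S.A0_le_R (mem_zpowers _)

theorem odd_R : Odd (Nat.card S.R) := by
  haveI : Fact (Nat.Prime 3) := ⟨Nat.prime_three⟩
  obtain ⟨n, hn⟩ := IsPGroup.iff_card.1 S.isPGroup_R
  rw [hn]
  exact (by decide : Odd 3).pow

theorem exists_half {x : G} (hx : x ∈ S.R) : ∃ m : ℕ, x ^ m * x ^ m = x := by
  obtain ⟨k, hk⟩ := S.odd_R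
  refine ⟨k + 1, ?_⟩
  have h1 : (⟨x, hx⟩ : S.R) ^ Nat.card S.R = 1 := pow_card_eq_one'
  have h2 : x ^ Nat.card S.R = 1 := congrArg Subtype.val h1
  rw [← pow_add, show k + 1 + (k + 1) = Nat.card S.R + 1 by omega, pow_succ, h2, one_mul]

theorem z_notMem_R : S.z ∉ S.R := fun h => by
  obtain ⟨m, hm⟩ := S.exists_half h
  have h2 : (S.z ^ m) * (S.z ^ m) = 1 := by
    rw [← (Commute.refl S.z).mul_pow, S.z2, one_pow]
  exact S.z_ne (hm ▸ h2)

theorem R_inf_L {x : G} (hx : x ∈ S.R) (hl : x ∈ S.L) : x = 1 :=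
  S.inf_L S.R (fun l hl t ht => S.R_conj (S.L_le hl) ht) S.z_notMem_R hx hl

theorem R_fix {r : G} (hr : r ∈ S.R) (hz : r * S.z = S.z * r) : r ∈ zpowers S.a := by
  obtain ⟨l, hl, hc⟩ := S.CH r hz (S.mem_C.1 (S.R_le hr))
  have : l = 1 := S.R_inf_L (by
    have h := mul_mem (inv_mem (S.A0_le_R hc)) hr
    rwa [mul_inv_rev, inv_inv, inv_mul_cancel_right] at h) hl
  rwa [this, inv_one, mul_one] at hc

theorem zconj_mem {r : G} (hr : r ∈ S.R) : S.z * r * S.z ∈ S.R := by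
  have := S.R_conj S.z_mem_C hr
  rwa [S.z_inv] at this

/-- `z` inverts `R` modulo `⟨a⟩` and `R` is abelian modulo `⟨a⟩`. -/
theorem R_mod : (∀ r ∈ S.R, S.z * r * S.z * r ∈ zpowers S.a) ∧
    ∀ r ∈ S.R, ∀ s ∈ S.R, r * s * r⁻¹ * s⁻¹ ∈ zpowers S.a := by
  set N := (zpowers S.a).subgroupOf S.R with hN
  haveI : N.Normal := ⟨fun x hx g => by
    rw [hN, mem_subgroupOf] at hx ⊢
    show (g : G) * (x : G) * (g : G)⁻¹ ∈ _
    rw [S.conj_A0 hx (S.R_le g.2)]; exact hx⟩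
  let σ : S.R →* S.R :=
    { toFun := fun r => ⟨S.z * r * S.z, S.zconj_mem r.2⟩
      map_one' := Subtype.ext (by simp [S.z2])
      map_mul' := fun r s => Subtype.ext (by
        show S.z * ((r : G) * s) * S.z = S.z * r * S.z * (S.z * s * S.z)
        simp only [mul_assoc]
        rw [← mul_assoc S.z S.z, S.z2, one_mul]) }
  have hσ : N ≤ N.comap σ := fun x hx => by
    rw [mem_comap, hN, mem_subgroupOf] at *
    show S.z * (x : G) * S.z ∈ _
    nth_rw 2 [← S.z_inv]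
    rw [S.conj_A0 hx S.z_mem_C]; exact hx
  let φ := QuotientGroup.map N N σ hσ
  have hinv : Function.Involutive φ := fun q => by
    refine QuotientGroup.induction_on q fun r => ?_
    show ((σ (σ r) : S.R) : S.R ⧸ N) = r
    congr 1
    refine Subtype.ext ?_
    show S.z * (S.z * (r : G) * S.z) * S.z = r
    simp [mul_assoc, S.z2]
    rw [← mul_assoc, S.z2, one_mul]
  have hfpf : MonoidHom.FixedPointFree φ := fun q => by
    refine QuotientGroup.induction_on q fun r h => ?_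
    rw [QuotientGroup.map_mk, QuotientGroup.eq, hN, mem_subgroupOf] at h
    change (S.z * (r : G) * S.z)⁻¹ * r ∈ zpowers S.a at h
    rw [QuotientGroup.eq_one_iff, hN, mem_subgroupOf]
    set c := (S.z * (r : G) * S.z)⁻¹ * r with hc
    have e : S.z * c * S.z = c⁻¹ := by
      rw [hc]; simp only [mul_inv_rev, inv_inv, S.z_inv, mul_assoc]
      rw [← mul_assoc S.z S.z, S.z2, one_mul]
    have e' : S.z * c * S.z = c := by
      nth_rw 2 [← S.z_inv]
      rw [S.conj_A0 h S.z_mem_C]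
    have c1 : c = 1 := by
      obtain ⟨m, hm⟩ := S.exists_half (S.A0_le_R h)
      have h2 : c ^ m * c ^ m = 1 := by
        rw [← (Commute.refl c).mul_pow]
        nth_rw 2 [e'.symm.trans e]
        rw [mul_inv_cancel, one_pow]
      rw [← hm]; exact h2
    refine S.R_fix r.2 ?_
    rw [hc, inv_mul_eq_one] at c1
    calc (r : G) * S.z = S.z * r * S.z * S.z := by rw [c1]
      _ = S.z * r := by rw [mul_assoc, S.z2, mul_one]
  refine ⟨fun r hr => ?_, fun r hr s hs => ?_⟩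
  · have h := congrFun (hfpf.coe_eq_inv_of_involutive hinv) (QuotientGroup.mk ⟨r, hr⟩)
    rw [QuotientGroup.map_mk, ← QuotientGroup.mk_inv, QuotientGroup.eq, hN, mem_subgroupOf] at h
    change (S.z * r * S.z)⁻¹ * r⁻¹ ∈ zpowers S.a at h
    have := inv_mem h
    rw [mul_inv_rev, inv_inv, inv_inv] at this
    have h2 := S.conj_A0 this (S.R_le (inv_mem hr))
    rw [inv_inv] at h2
    rw [show S.z * r * S.z * r = r⁻¹ * (r * (S.z * r * S.z)) * r by group, h2]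
    exact this
  · have h := (hfpf.commute_all_of_involutive hinv (QuotientGroup.mk ⟨r, hr⟩)
      (QuotientGroup.mk ⟨s, hs⟩)).eq
    rw [← QuotientGroup.mk_mul, ← QuotientGroup.mk_mul, QuotientGroup.eq, hN, mem_subgroupOf] at h
    change (r * s)⁻¹ * (s * r) ∈ zpowers S.a at h
    have h2 := S.conj_A0 (inv_mem h) (S.R_le (mul_mem hs hr))
    rw [show r * s * r⁻¹ * s⁻¹ = s * r * ((r * s)⁻¹ * (s * r))⁻¹ * (s * r)⁻¹ by group, h2]
    exact inv_mem h

theorem inverted {r : G} (hr : r ∈ S.R) : S.z * r * S.z * r ∈ zpowers S.a := S.R_mod.1 r hr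

theorem comm_mem {r s : G} (hr : r ∈ S.R) (hs : s ∈ S.R) : r * s * r⁻¹ * s⁻¹ ∈ zpowers S.a :=
  S.R_mod.2 r hr s hs

theorem R_ne : ¬ S.R ≤ zpowers S.a := fun h => by
  haveI : Fact (Nat.Prime 3) := ⟨Nat.prime_three⟩
  have hP : Nat.card S.syl = 3 ^ 6 := by
    have h1 : Nat.card S.syl * S.syl.1.index = 5832 := S.card_C' ▸ S.syl.1.card_mul_index
    have h3 := S.syl.not_dvd_index
    obtain ⟨n, hn⟩ := IsPGroup.iff_card.1 S.syl.2
    change Nat.card S.syl = _ at hn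
    rw [hn] at h1 ⊢
    have h7 : n ≤ 7 := by
      by_contra h8
      have := Nat.pow_le_pow_right (show 3 > 0 by norm_num) (show 8 ≤ n by omega)
      nlinarith [Nat.pos_of_ne_zero (right_ne_zero_of_mul (h1.trans_ne (by norm_num : (5832:ℕ) ≠ 0)))]
    interval_cases n <;> omega
  have hi : S.syl.1.index = 8 := by
    have h1 := S.syl.1.card_mul_index
    rw [S.card_C'] at h1
    change Nat.card S.syl * _ = _ at h1
    rw [hP] at h1
    omega
  have hd : S.syl.1.normalCore.index ∣ Nat.factorial 8 := by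
    rw [normalCore_eq_ker, index_ker]
    refine (card_subgroup_dvd_card _).trans ?_
    rw [Nat.card_perm, ← index_eq_card, hi]
  have h2 := S.syl.1.normalCore.card_mul_index
  rw [S.card_C', ← card_map_of_injective S.C.subtype_injective] at h2
  change Nat.card S.R * _ = _ at h2
  have h3 : Nat.card S.R ≤ 3 := S.card_A0 ▸ card_le_of_le h
  have h4 : 1944 ≤ S.syl.1.normalCore.index := by nlinarith
  have h5 : S.syl.1.normalCore.index ∣ 5832 := ⟨_, by rw [mul_comm]; exact h2.symm⟩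
  have h6 := Nat.dvd_gcd h5 hd
  rw [show Nat.gcd 5832 (Nat.factorial 8) = 72 by decide] at h6
  have := Nat.le_of_dvd (by norm_num) h6
  omega

/-- The elements of `C` centralising `R` modulo `⟨a⟩`. -/
def Kmod : Subgroup G where
  carrier := {g | g ∈ S.C ∧ ∀ r ∈ S.R, g * r * g⁻¹ * r⁻¹ ∈ zpowers S.a}
  one_mem' := ⟨one_mem _, fun r _ => by simp⟩
  mul_mem' := by
    rintro g h ⟨hg, g1⟩ ⟨hh, h1⟩
    refine ⟨mul_mem hg hh, fun r hr => ?_⟩
    have e : g * h * r * (g * h)⁻¹ * r⁻¹ =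
        g * (h * r * h⁻¹ * r⁻¹) * g⁻¹ * (g * r * g⁻¹ * r⁻¹) := by group
    rw [e, S.conj_A0 (h1 r hr) hg]
    exact mul_mem (h1 r hr) (g1 r hr)
  inv_mem' := by
    rintro g ⟨hg, g1⟩
    refine ⟨inv_mem hg, fun r hr => ?_⟩
    have h := S.conj_A0 (inv_mem (g1 r hr)) (inv_mem hg)
    have e : g⁻¹ * r * g⁻¹⁻¹ * r⁻¹ = g⁻¹ * (g * r * g⁻¹ * r⁻¹)⁻¹ * g⁻¹⁻¹ := by group
    rw [e, h]
    exact inv_mem (g1 r hr)

theorem mem_Kmod {g : G} :
    g ∈ S.Kmod ↔ g ∈ S.C ∧ ∀ r ∈ S.R, g * r * g⁻¹ * r⁻¹ ∈ zpowers S.a := Iff.rfl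

theorem R_le_Kmod : S.R ≤ S.Kmod := fun _ hr => ⟨S.R_le hr, fun _ hs => S.comm_mem hr hs⟩

theorem Kmod_conj {g x : G} (hg : g ∈ S.C) (hx : x ∈ S.Kmod) : g * x * g⁻¹ ∈ S.Kmod := by
  refine ⟨mul_mem (mul_mem hg hx.1) (inv_mem hg), fun r hr => ?_⟩
  have h := hx.2 _ (S.R_conj_inv hg hr)
  have e : g * x * g⁻¹ * r * (g * x * g⁻¹)⁻¹ * r⁻¹ =
      g * (x * (g⁻¹ * r * g) * x⁻¹ * (g⁻¹ * r * g)⁻¹) * g⁻¹ := by group
  rw [e, S.conj_A0 h hg]
  exact h

theorem z_notMem_Kmod : S.z ∉ S.Kmod := fun h => S.R_ne fun r hr => by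
  have h1 := h.2 r hr
  rw [S.z_inv] at h1
  have h2 := mul_mem (inv_mem h1) (S.inverted hr)
  have e : (S.z * r * S.z * r⁻¹)⁻¹ * (S.z * r * S.z * r) = r * r := by group
  rw [e] at h2
  obtain ⟨m, hm⟩ := S.exists_half hr
  rw [← hm, ← (Commute.refl r).mul_pow]
  exact pow_mem h2 m

theorem Kmod_inf_L {x : G} (hx : x ∈ S.Kmod) (hl : x ∈ S.L) : x = 1 :=
  S.inf_L S.Kmod (fun _ hl _ ht => S.Kmod_conj (S.L_le hl) ht) S.z_notMem_Kmod hx hl

theorem Kmod_eq : S.Kmod = S.R := by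
  refine le_antisymm (S.le_R _ (fun x hx => hx.1) ?_ (fun g hg x hx => S.Kmod_conj hg hx)) S.R_le_Kmod
  haveI : Fact (Nat.Prime 3) := ⟨Nat.prime_three⟩
  haveI hN : (S.Kmod.subgroupOf S.C).Normal := ⟨fun x hx g => by
    rw [mem_subgroupOf] at hx ⊢
    exact S.Kmod_conj g.2 hx⟩
  have hd : Nat.card S.L ∣ (S.Kmod.subgroupOf S.C).index := by
    rw [index_eq_card]
    refine card_dvd_of_injective ((QuotientGroup.mk' _).comp (inclusion S.L_le)) ?_
    rw [← MonoidHom.ker_eq_bot_iff, eq_bot_iff]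
    intro l hl
    rw [MonoidHom.mem_ker, MonoidHom.comp_apply, QuotientGroup.mk'_apply, QuotientGroup.eq_one_iff,
      mem_subgroupOf] at hl
    exact mem_bot.2 (Subtype.ext (S.Kmod_inf_L hl l.2))
  have h1 := (S.Kmod.subgroupOf S.C).card_mul_index
  rw [Nat.card_congr (subgroupOfEquivOfLe (show S.Kmod ≤ S.C from fun x hx => hx.1)).toEquiv,
    S.card_C'] at h1
  obtain ⟨t, ht⟩ := hd
  rw [ht, S.card_L] at h1
  have h2 : Nat.card S.Kmod ∣ 3 ^ 5 := ⟨t, by nlinarith⟩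
  obtain ⟨n, -, hn⟩ := (Nat.dvd_prime_pow Nat.prime_three).1 h2
  exact IsPGroup.of_card hn

theorem gz_mem_R {g : G} (hg : g ∈ S.C) : g * S.z * g⁻¹ * S.z ∈ S.R := by
  rw [← S.Kmod_eq]
  refine ⟨mul_mem (mul_mem (mul_mem hg S.z_mem_C) (inv_mem hg)) S.z_mem_C, fun r hr => ?_⟩
  set x := g * S.z * g⁻¹ with hx
  have hxC : x ∈ S.C := mul_mem (mul_mem hg S.z_mem_C) (inv_mem hg)
  have h1 : x * r * x⁻¹ * r ∈ zpowers S.a := by
    have hs := S.inverted (S.R_conj_inv hg hr)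
    have e : x * r * x⁻¹ * r = g * (S.z * (g⁻¹ * r * g) * S.z⁻¹ * (g⁻¹ * r * g)) * g⁻¹ := by
      rw [hx]; group
    rw [e, S.z_inv, S.conj_A0 hs hg]
    exact hs
  have h2 : r * x * r * x⁻¹ ∈ zpowers S.a := by
    have h := S.conj_A0 h1 (S.R_le hr)
    rw [show r * x * r * x⁻¹ = r * (x * r * x⁻¹ * r) * r⁻¹ by group, h]
    exact h1
  have e : x * S.z * r * (x * S.z)⁻¹ * r⁻¹ =
      x * (S.z * r * S.z⁻¹ * r) * x⁻¹ * (r * x * r * x⁻¹)⁻¹ := by group
  have h3 := S.inverted hr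
  rw [e, S.z_inv, S.conj_A0 h3 hxC]
  exact mul_mem h3 (inv_mem h2)

/-- An element of `R` inverted by `z` is `s z s⁻¹ z` with `s` in `R`. -/
theorem exists_conj {x : G} (hx : x ∈ S.R) (hi : S.z * x * S.z = x⁻¹) :
    ∃ s ∈ S.R, s * S.z * s⁻¹ = x * S.z := by
  obtain ⟨m, hm⟩ := S.exists_half hx
  refine ⟨x ^ m, pow_mem hx m, ?_⟩
  have h : S.z * (x ^ m)⁻¹ * S.z = x ^ m := by
    have h1 := conj_pow (a := S.z) (b := x) (i := m)
    rw [S.z_inv, hi, inv_pow] at h1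
    rw [h1]
    simp only [mul_assoc, S.z2, mul_one]
    rw [← mul_assoc, S.z2, one_mul]
  calc x ^ m * S.z * (x ^ m)⁻¹ = x ^ m * (S.z * (x ^ m)⁻¹ * S.z) * S.z := by
        simp only [mul_assoc, S.z2, mul_one]
    _ = x * S.z := by rw [h, hm]

theorem exists_RL {g : G} (hg : g ∈ S.C) : ∃ r ∈ S.R, ∃ l ∈ S.L, g = r * l := by
  have hi : S.z * (g * S.z * g⁻¹ * S.z) * S.z = (g * S.z * g⁻¹ * S.z)⁻¹ := by
    simp only [mul_inv_rev, inv_inv, S.z_inv, mul_assoc, S.z2, mul_one]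
  obtain ⟨s, hs, e⟩ := S.exists_conj (S.gz_mem_R hg) hi
  have e' : s * S.z * s⁻¹ = g * S.z * g⁻¹ := by
    rw [e, mul_assoc, S.z2, mul_one]
  have hz : (s⁻¹ * g) * S.z = S.z * (s⁻¹ * g) := by
    calc s⁻¹ * g * S.z = s⁻¹ * (g * S.z * g⁻¹) * g := by group
      _ = S.z * (s⁻¹ * g) := by rw [← e']; group
  obtain ⟨l, hl, hc⟩ := S.CH _ hz (S.mem_C.1 (mul_mem (inv_mem (S.R_le hs)) hg))
  exact ⟨s * (s⁻¹ * g * l⁻¹), mul_mem hs (S.A0_le_R hc), l, hl, by group⟩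

theorem RL_unique {r r' l l' : G} (hr : r ∈ S.R) (hr' : r' ∈ S.R) (hl : l ∈ S.L) (hl' : l' ∈ S.L)
    (h : r * l = r' * l') : r = r' ∧ l = l' := by
  have e : r'⁻¹ * r = l' * l⁻¹ := by
    rw [inv_mul_eq_iff_eq_mul, ← mul_assoc, ← h, mul_inv_cancel_right]
  have := S.R_inf_L (mul_mem (inv_mem hr') hr) (e ▸ mul_mem hl' (inv_mem hl))
  rw [inv_mul_eq_one] at this
  exact ⟨this.symm, by rwa [this, mul_left_cancel_iff] at h⟩

theorem card_R : Nat.card S.R = 243 := by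
  have : Nat.card (S.R × S.L) = Nat.card S.C := by
    refine Nat.card_congr (Equiv.ofBijective
      (fun x => ⟨x.1.1 * x.2.1, mul_mem (S.R_le x.1.2) (S.L_le x.2.2)⟩) ⟨fun x y h => ?_, fun g => ?_⟩)
    · obtain ⟨e1, e2⟩ := S.RL_unique x.1.2 y.1.2 x.2.2 y.2.2 (congrArg Subtype.val h)
      exact Prod.ext (Subtype.ext e1) (Subtype.ext e2)
    · obtain ⟨r, hr, l, hl, e⟩ := S.exists_RL g.2
      exact ⟨(⟨r, hr⟩, ⟨l, hl⟩), Subtype.ext e.symm⟩
  rw [Nat.card_prod, S.card_C', S.card_L] at this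
  omega

/-- The involutions centralising `a` are conjugate to `z` under `R`. -/
theorem invol_conj {u : G} (hu : u ∈ S.C) (hu2 : u * u = 1) (hu1 : u ≠ 1) :
    ∃ s ∈ S.R, s * S.z * s⁻¹ = u := by
  obtain ⟨r, hr, l, hl, rfl⟩ := S.exists_RL hu
  have e : r * (l * r * l⁻¹) = (l * l)⁻¹ := by
    calc r * (l * r * l⁻¹) = r * l * (r * l) * (l * l)⁻¹ := by group
      _ = (l * l)⁻¹ := by rw [hu2, one_mul]
  have hll : l * l = 1 := inv_eq_one.1
    (S.R_inf_L (e ▸ mul_mem hr (S.R_conj (S.L_le hl) hr)) (inv_mem (mul_mem hl hl)))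
  have hlz : l = S.z := by
    by_cases h1 : l = 1
    · subst h1
      rw [mul_one] at hu1 hu2
      obtain ⟨m, hm⟩ := S.exists_half hr
      exact absurd (by rw [← hm, ← (Commute.refl r).mul_pow, hu2, one_pow]) hu1
    rcases S.word l hl h1 with ⟨h3, -⟩ | ⟨n, hn⟩
    · exact absurd (by rw [← h3, pow_succ, pow_two, hll, one_mul]) h1
    · rw [← Nat.mod_add_div n 2, pow_add, pow_mul, pow_two, hll, one_pow, mul_one] at hn
      rcases Nat.mod_two_eq_zero_or_one n with e | e <;> rw [e] at hn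
      · exact absurd (hn.symm.trans (pow_zero l)) S.z_ne
      · exact (pow_one l).symm.trans hn
  subst hlz
  refine S.exists_conj hr (eq_inv_of_mul_eq_one_right ?_)
  rw [← hu2]; group

end Side

end Cfsg.Agent.G23Two.Para
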