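import Cfsg.Agent.Lib.G23Two.Fusion
import Cfsg.Agent.Lib.G23Two.Configs
import Cfsg.Agent.Lib.Char.Degree
import Cfsg.Agent.Lib.Char.Integral

/-!
The coordinates of the irreducible characters in the eleven virtual characters form one of the surviving
configurations, and they determine the values on the special classes.
-/

set_option autoImplicit false
set_option maxRecDepth 100000
set_option maxHeartbeats 1000000
set_option linter.style.haveILetI false
set_option linter.unusedSectionVars false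

namespace Cfsg.Agent.G23Two

open Cfsg Cfsg.Agent.Char Cfsg.Agent.LocalTI
open scoped ComplexConjugate

universe u

variable {G : Type u} [Group G] [Fintype G] {φ : Mod →* G}

/-- The coordinates. -/
noncomputable def F (φ : Mod →* G) (j : ℕ) (χ : IrrCharacter G) : ℤ :=
  if h : j < 11 then coef (vanish_vec ⟨j, h⟩) φ χ else 0

theorem F_eq (k : Fin 11) (χ : IrrCharacter G) : F φ k χ = coef (vanish_vec k) φ χ := dif_pos k.isLt

theorem gram_check : ∀ i j : Fin 11,
    ∑ c : Fin 20, (sizes.getD c.val 0 : ℤ) * (bv i c * bv j c) = 576 * gram i j := by decide +kernel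

theorem princ_check : ∀ i : Fin 11, ∑ c : Fin 20, (sizes.getD c.val 0 : ℤ) * bv i c = 576 * princCol i := by
  decide +kernel

theorem vec_cl (k : Fin 11) (x : Mod) : vec k x = bv k (cl x).val := by rw [vec, cl_val]

theorem Hyp.F_gram (H : Hyp φ) (i j : Fin 11) : ∑ χ, F φ i χ * F φ j χ = gram i j := by
  have h := orth H.emb (vanish_vec i) (vanish_vec j)
  simp only [F_eq]
  simp only [vec_cl] at h
  rw [sum_cl (fun c : Fin 20 => bv i c.val * bv j c.val), gram_check, card_Mod] at h
  push_cast at h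
  linarith

theorem F_princ {χ : IrrCharacter G} (hχ : ∀ g, (χ : G → ℂ) g = 1) (i : Fin 11) :
    F φ i χ = princCol i := by
  have h := coef_one (vanish_vec i) φ hχ
  rw [F_eq]
  rw [Finset.sum_congr rfl fun x (_ : x ∈ Finset.univ) => vec_cl i x, sum_cl (fun c : Fin 20 => bv i c.val),
    princ_check, card_Mod] at h
  push_cast at h
  linarith

/-- The relation with the degrees. -/
theorem Hyp.F_degree (H : Hyp φ) (i : Fin 11) :
    ∑ χ : IrrCharacter G, F φ i χ * (charDegree (χ : G → ℂ) : ℤ) = 0 := by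
  have h := vanish (ι := φ) (vanish_vec i) (y := 1) (fun h hh hc => by
    rw [isConj_one_right] at hc
    obtain rfl : h = 1 := H.inj (hc.trans (map_one φ).symm)
    exact absurd hh (by decide +kernel))
  simp only [CharX.irr_deg, ← F_eq] at h
  exact_mod_cast h

/-- A column violating Bessel's inequality does not occur. -/
theorem Hyp.not_bessel (H : Hyp φ) (χ : IrrCharacter G) (e : ℤ) (he : e = 1 ∨ e = -1) :
    besselBad (rowOf (F φ) 11 (χ, e)) = false := by
  classical
  by_contra hb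
  rw [Bool.not_eq_false] at hb
  simp only [besselBad, Bool.and_eq_true, bne_iff_ne, decide_eq_true_eq] at hb
  set r := rowOf (F φ) 11 (χ, e) with hr
  set α : Fin 11 → ℤ := fun i => dualOf r i with hα
  set A : IrrCharacter G → ℤ := fun ξ => ∑ i, α i * F φ i ξ with hA
  obtain ⟨h0, hle⟩ := hb
  have hrow : ∀ i : Fin 11, r.getD i.val 0 = e * F φ i χ := fun i => by
    rw [hr, rowOf, getD_map_range _ i.isLt]
  have hdot : ∑ i, α i * r.getD i.val 0 = e * A χ := by
    rw [hA, Finset.mul_sum]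
    exact Finset.sum_congr rfl fun i _ => by rw [hrow]; ring
  have hsq : ∑ ξ, A ξ * A ξ = ∑ i, ∑ j, α i * α j * gram i j := by
    simp only [hA, Finset.sum_mul_sum]
    rw [Finset.sum_comm]
    refine Finset.sum_congr rfl fun i _ => ?_
    rw [Finset.sum_comm]
    refine Finset.sum_congr rfl fun j _ => ?_
    rw [← H.F_gram i j, Finset.mul_sum]
    exact Finset.sum_congr rfl fun ξ _ => by ring
  have hAχ : A χ ≠ 0 := by
    intro h
    refine h0 ?_
    show ∑ i, α i * r.getD i.val 0 = 0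
    rw [hdot, h, mul_zero]
  have hle' : ∑ ξ, A ξ * A ξ ≤ A χ * A χ := by
    rw [hsq]
    refine hle.trans_eq ?_
    show (∑ i, α i * r.getD i.val 0) * (∑ i, α i * r.getD i.val 0) = _
    rw [hdot]
    rcases he with rfl | rfl <;> ring
  have hzero : ∀ ξ, ξ ≠ χ → A ξ = 0 := by
    intro ξ hξ
    by_contra h
    have hsub : ∑ x ∈ ({ξ, χ} : Finset (IrrCharacter G)), A x * A x ≤ ∑ x, A x * A x :=
      Finset.sum_le_sum_of_subset_of_nonneg (Finset.subset_univ _) fun x _ _ => mul_self_nonneg _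
    rw [Finset.sum_pair hξ] at hsub
    have : 0 < A ξ * A ξ := mul_self_pos.2 h
    linarith
  have hdeg : ∑ ξ : IrrCharacter G, A ξ * (charDegree (ξ : G → ℂ) : ℤ) = 0 := by
    simp only [hA, Finset.sum_mul]
    rw [Finset.sum_comm]
    refine Finset.sum_eq_zero fun i _ => ?_
    simp only [mul_assoc, ← Finset.mul_sum, H.F_degree, mul_zero]
  rw [Finset.sum_eq_single χ (fun ξ _ hξ => by rw [hzero ξ hξ, zero_mul]) (by simp)] at hdeg
  rcases mul_eq_zero.1 hdeg with h | h
  · exact hAχ h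
  · exact (CharX.irr_deg_pos χ).ne' (by exact_mod_cast h)

/-- The coordinates form a surviving configuration. -/
theorem Hyp.exists_config (H : Hyp φ) : ∃ S ∈ finals,
    Cover (F φ) (⟨fun _ => 1, isIrrCharacter_one⟩ : IrrCharacter G) 11 S := by
  classical
  set o : IrrCharacter G := ⟨fun _ => 1, isIrrCharacter_one⟩ with ho
  have stage : ∀ k, k ≤ 11 → ∃ S ∈ configs k, Cover (F φ) o k S := by
    intro k
    induction k with
    | zero => exact fun _ => ⟨[[]], by decide +kernel, cover_zero _ o⟩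
    | succ k ih =>
      intro hk
      obtain ⟨S, hS, hcov⟩ := ih (by omega)
      have hk9 : k < 11 := by omega
      obtain ⟨T, hT, hcov'⟩ := cover_succ (F φ) o hcov (c0 := princCol ⟨k, hk9⟩)
        (need := needOf ⟨k, hk9⟩) (norm := (gram ⟨k, hk9⟩ ⟨k, hk9⟩).toNat) (gram_facts _).2
        (F_princ (χ := o) (fun _ => rfl) ⟨k, hk9⟩)
        (fun j hj => by
          rw [needOf_eq ⟨k, hk9⟩ ⟨j, by omega⟩ hj]
          exact H.F_gram ⟨j, by omega⟩ ⟨k, hk9⟩)
        (by
          rw [(gram_facts _).1]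
          exact H.F_gram ⟨k, hk9⟩ ⟨k, hk9⟩)
      exact ⟨T, configs_step ⟨k, hk9⟩ S hS T hT, hcov'⟩
  obtain ⟨S, hS, hcov⟩ := stage 11 le_rfl
  refine ⟨S, List.mem_filter.2 ⟨hS, ?_⟩, hcov⟩
  obtain ⟨L, hL, -, hsgn, -⟩ := hcov
  simp only [Bool.not_eq_true', List.any_eq_false, Bool.not_eq_true]
  intro r hr
  rw [← hL, List.map_cons, List.tail_cons, List.mem_map] at hr
  obtain ⟨p, hp, rfl⟩ := hr
  exact H.not_bessel p.1 p.2 (hsgn p hp)

/-- The integers giving the values on the special classes from the coordinates. -/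
def valTable : List (List ℤ) :=
  [[-1, 0, -2, 0, -1, 0, 1, 0, -1, 0, 0], [-1, 0, 0, 0, 1, 0, -1, 0, 1, 0, 0],
   [-1, 0, -2, 0, -2, 1, 0, 1, -1, 0, 0], [-1, 0, 4, 0, 1, -2, -3, -2, -1, 0, 0],
   [-1, 0, 0, 0, 0, 1, 1, 1, 0, 0, 0], [-1, 1, -1, -1, -1, 1, 0, 0, 0, 1, 1],
   [-1, 1, -1, -1, -1, 1, 0, 0, 0, -2, 1], [-1, -2, 2, -4, 2, 1, -3, -3, 0, -2, -2],
   [-1, 0, 0, 0, -3, -2, 1, -2, 3, 0, 0], [-1, 4, 2, 2, 2, 1, 0, -3, 3, -2, -2],
   [-1, -8, -4, 8, 5, 10, -3, -6, 3, -8, 4]]

/-- The special class with given number. -/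
def spClass (i : Fin 11) : Fin 20 := ![1, 2, 6, 7, 8, 10, 12, 13, 15, 16, 19] i

/-- The value of a row at a special class. -/
def rowVal (i : Fin 11) (r : List ℤ) : ℤ :=
  ∑ j : Fin 11, (valTable.getD i.val []).getD j.val 0 * r.getD j.val 0

theorem val_dual : ∀ i : Fin 11, ∀ c : Fin 20, ∑ j : Fin 11, (valTable.getD i.val []).getD j.val 0 *
    ((sizes.getD c.val 0 : ℤ) * bv j c) = if c = spClass i then 576 else 0 := by decide +kernel

theorem rowVal_spec (i : Fin 11) (χ : IrrCharacter G) (e : ℤ) :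
    (rowVal i (rowOf (F φ) 11 (χ, e)) : ℂ) = (e : ℂ) * (χ : G → ℂ) (φ (rep (spClass i))) := by
  classical
  have hconj : ((∑ j : Fin 11, (valTable.getD i.val []).getD j.val 0 * F φ j χ : ℤ) : ℂ) =
      conj ((χ : G → ℂ) (φ (rep (spClass i)))) := by
    refine mul_right_cancel₀ (show (Fintype.card Mod : ℂ) ≠ 0 from Nat.cast_ne_zero.2 Fintype.card_ne_zero) ?_
    have e1 : ((∑ j : Fin 11, (valTable.getD i.val []).getD j.val 0 * F φ j χ : ℤ) : ℂ) *
        (Fintype.card Mod : ℂ) = ∑ j : Fin 11, ((valTable.getD i.val []).getD j.val 0 : ℂ) *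
          ∑ x : Mod, (vec j x : ℂ) * conj ((χ : G → ℂ) (φ x)) := by
      push_cast
      rw [Finset.sum_mul]
      exact Finset.sum_congr rfl fun j _ => by rw [← coef_spec (vanish_vec j) φ χ, F_eq]; ring
    rw [e1]
    have e2 : ∀ x : Mod, conj ((χ : G → ℂ) (φ x)) = conj ((χ : G → ℂ) (φ (rep (cl x)))) := by
      intro x
      obtain ⟨l, hl⟩ := conj_rep x
      conv_lhs => rw [← hl]
      rw [map_mul, map_mul, map_inv, IsCharacter.isClassFunction (IsIrrCharacter.isCharacter χ.2)]
    have e3 : ∀ j : Fin 11, ∑ x : Mod, (vec j x : ℂ) * conj ((χ : G → ℂ) (φ x)) =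
        ∑ c : Fin 20, (sizes.getD c.val 0 : ℂ) * ((bv j c : ℂ) * conj ((χ : G → ℂ) (φ (rep c)))) := by
      intro j
      rw [← sum_cl (fun c : Fin 20 => (bv j c : ℂ) * conj ((χ : G → ℂ) (φ (rep c))))]
      exact Finset.sum_congr rfl fun x _ => by rw [e2 x, vec_cl]
    simp only [e3, Finset.mul_sum]
    rw [Finset.sum_comm, card_Mod]
    have e4 : ∀ c : Fin 20, ∑ j : Fin 11, ((valTable.getD i.val []).getD j.val 0 : ℂ) *
        ((sizes.getD c.val 0 : ℂ) * ((bv j c : ℂ) * conj ((χ : G → ℂ) (φ (rep c))))) =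
        ((if c = spClass i then 576 else 0 : ℤ) : ℂ) * conj ((χ : G → ℂ) (φ (rep c))) := by
      intro c
      rw [← val_dual i c]
      push_cast
      rw [Finset.sum_mul]
      exact Finset.sum_congr rfl fun j _ => by ring
    rw [Finset.sum_congr rfl fun c _ => e4 c, Finset.sum_eq_single (spClass i)
      (fun c _ hc => by rw [if_neg hc, Int.cast_zero, zero_mul]) (by simp), if_pos rfl]
    push_cast
    ring
  have hr : rowVal i (rowOf (F φ) 11 (χ, e)) =
      e * ∑ j : Fin 11, (valTable.getD i.val []).getD j.val 0 * F φ j χ := by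
    rw [rowVal, Finset.mul_sum]
    exact Finset.sum_congr rfl fun j _ => by rw [rowOf, getD_map_range _ j.isLt]; ring
  rw [hr, Int.cast_mul]
  congr 1
  have h := congrArg conj hconj
  rwa [map_intCast, Complex.conj_conj] at h

end Cfsg.Agent.G23Two
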