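import Mathlib

/-!
A verified incremental search (new columns up to norm six) for the possible supports of a short list of integer vectors with
prescribed inner products.
-/

set_option autoImplicit false
set_option linter.unusedSectionVars false

namespace Cfsg.Agent.G23Two

/-- The dot product of `x` with the entries number `j` of the columns. -/
def dotAt (cs : List (List ℤ)) (x : List ℤ) (j : ℕ) : ℤ :=
  ((cs.zip x).map fun p => p.1.getD j 0 * p.2).sum

/-- Subtract a multiple of a column. -/
def subMul : List ℤ → List ℤ → ℤ → List ℤ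
  | [], _, _ => []
  | n :: ns, [], _ => n :: ns
  | n :: ns, c :: cs, e => (n - e * c) :: subMul ns cs e

theorem length_subMul : ∀ (ns cs : List ℤ) (e : ℤ), (subMul ns cs e).length = ns.length
  | [], _, _ => rfl
  | _ :: _, [], _ => rfl
  | _ :: ns, _ :: cs, e => by simp [subMul, length_subMul ns cs e]

theorem getD_subMul : ∀ (ns cs : List ℤ) (e : ℤ) (j : ℕ), j < ns.length →
    (subMul ns cs e).getD j 0 = ns.getD j 0 - e * cs.getD j 0
  | [], _, _, _, h => absurd h (Nat.not_lt_zero _)
  | _ :: _, [], e, j, _ => by simp [subMul]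
  | n :: ns, c :: cs, e, 0, _ => by simp [subMul]
  | n :: ns, c :: cs, e, j + 1, h => by
    simp only [subMul, List.getD_cons_succ]
    exact getD_subMul ns cs e j (by simpa using h)

/-- The positions where some column is nonzero. -/
def colMask (k : ℕ) (cs : List (List ℤ)) : List Bool :=
  (List.range k).map fun j => cs.any fun c => c.getD j 0 != 0

/-- The columns with the masks of the remaining ones. -/
def withMasks (k : ℕ) : List (List ℤ) → List (List ℤ × List Bool)
  | [] => []
  | c :: cs => (c, colMask k (c :: cs)) :: withMasks k cs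

/-- An inner product cannot be reached if the remaining columns vanish there. -/
def feas : List ℤ → List Bool → Bool
  | n :: ns, b :: bs => (b || n == 0) && feas ns bs
  | _, _ => true

theorem feas_of : ∀ (ns : List ℤ) (bs : List Bool),
    (∀ j, j < ns.length → j < bs.length → bs.getD j false = false → ns.getD j 0 = 0) →
    feas ns bs = true
  | [], _, _ => by simp [feas]
  | _ :: _, [], _ => by simp [feas]
  | n :: ns, b :: bs, h => by
    have h0 := h 0 (by simp) (by simp)
    simp only [List.getD_cons_zero] at h0
    rw [feas, feas_of ns bs fun j h1 h2 h3 => by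
      simpa using h (j + 1) (by simpa using h1) (by simpa using h2) (by simpa using h3)]
    cases b
    · simp [h0 rfl]
    · simp

/-- The entries on known columns with given inner products and bounded norm. -/
def solve : List (List ℤ × List Bool) → List ℤ → ℕ → List (List ℤ × ℕ)
  | [], need, left => if need.all (fun n => n == 0) then [([], left)] else []
  | c :: cs, need, left =>
    if feas need c.2 then
      ([0, 1, -1, 2, -2] : List ℤ).flatMap fun e =>
        if e.natAbs * e.natAbs ≤ left then
          (solve cs (if e == 0 then need else subMul need c.1 e)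
            (left - e.natAbs * e.natAbs)).map fun r => (e :: r.1, r.2)
        else []
    else []

theorem getD_map_range (f : ℕ → ℤ) {n j : ℕ} (h : j < n) :
    ((List.range n).map f).getD j 0 = f j := by
  simp [List.getD_eq_getElem?_getD, h]

theorem dotAt_zero (cs : List (List ℤ)) (x : List ℤ) (j : ℕ)
    (h : ∀ c ∈ cs, c.getD j 0 = 0) : dotAt cs x j = 0 := by
  refine List.sum_eq_zero fun a ha => ?_
  obtain ⟨⟨c, e⟩, hm, rfl⟩ := List.mem_map.1 ha
  show c.getD j 0 * e = 0
  rw [h c (List.of_mem_zip hm).1, zero_mul]

theorem solve_complete (k : ℕ) : ∀ (cs : List (List ℤ)) (x : List ℤ) (need : List ℤ) (left : ℕ),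
    x.length = cs.length → left < 9 → (∀ j < need.length, dotAt cs x j = need.getD j 0) →
    (x.map fun e => e.natAbs * e.natAbs).sum ≤ left →
    (x, left - (x.map fun e => e.natAbs * e.natAbs).sum) ∈ solve (withMasks k cs) need left := by
  intro cs
  induction cs with
  | nil =>
    intro x need left hl _ hd _
    obtain rfl : x = [] := List.eq_nil_of_length_eq_zero hl
    have : need.all (fun n => n == 0) = true := by
      simp only [List.all_eq_true, beq_iff_eq]
      intro n hn
      obtain ⟨j, hj, rfl⟩ := List.mem_iff_getElem.1 hn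
      simpa [dotAt, List.getD_eq_getElem?_getD, hj] using (hd j hj).symm
    simp [withMasks, solve, this]
  | cons c cs ih =>
    intro x need left hl h9 hd hs
    obtain ⟨e, x, rfl⟩ : ∃ e x', x = e :: x' := by
      cases x with
      | nil => simp at hl
      | cons a b => exact ⟨a, b, rfl⟩
    simp only [List.map_cons, List.sum_cons] at hs ⊢
    have hf : feas need (colMask k (c :: cs)) = true := by
      refine feas_of _ _ fun j hj hk hb => ?_
      simp only [colMask, List.length_map, List.length_range] at hk
      simp only [colMask, List.getD_eq_getElem?_getD, List.getElem?_map, List.getElem?_range hk,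
        Option.map_some, Option.getD_some, List.any_eq_false, bne_iff_ne, not_not] at hb
      rw [← hd j hj]
      exact dotAt_zero _ _ _ fun d hd' => by
        rw [List.getD_eq_getElem?_getD]
        exact hb d hd'
    have he : e ∈ ([0, 1, -1, 2, -2] : List ℤ) := by
      have h2 : e.natAbs ≤ 2 := by
        by_contra h
        have : 3 * 3 ≤ e.natAbs * e.natAbs := Nat.mul_le_mul (by omega) (by omega)
        omega
      simp only [List.mem_cons, List.not_mem_nil, or_false]
      omega
    rw [withMasks, solve, if_pos hf]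
    refine List.mem_flatMap.2 ⟨e, he, ?_⟩
    rw [if_pos (by omega)]
    refine List.mem_map.2 ⟨(x, left - e.natAbs * e.natAbs -
      (x.map fun e => e.natAbs * e.natAbs).sum), ?_, by simp [Nat.sub_sub]⟩
    by_cases he0 : e = 0
    · subst he0
      refine ih x _ _ (by simpa using hl) (by omega) (fun j hj => ?_) (by omega)
      simp only [beq_self_eq_true, if_true] at hj ⊢
      rw [← hd j hj]
      simp [dotAt]
    · rw [if_neg (by simpa using he0)]
      refine ih x _ _ (by simpa using hl) (by omega) (fun j hj => ?_) (by omega)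
      rw [length_subMul] at hj
      rw [getD_subMul _ _ _ _ hj, ← hd j hj]
      simp [dotAt, mul_comm]

/-- The possible absolute values of the entries on new columns. -/
def news : ℕ → List (List ℤ)
  | 0 => [[]]
  | 1 => [[1]]
  | 2 => [[1, 1]]
  | 3 => [[1, 1, 1]]
  | 4 => [[1, 1, 1, 1], [2]]
  | 5 => [[1, 1, 1, 1, 1], [2, 1]]
  | 6 => [[1, 1, 1, 1, 1, 1], [2, 1, 1]]
  | _ => []

theorem perm_mem_news (l : List ℤ) (hpos : ∀ e ∈ l, 0 < e)
    (h4 : (l.map fun e => e.natAbs * e.natAbs).sum ≤ 6) :
    ∃ n ∈ news (l.map fun e => e.natAbs * e.natAbs).sum, l.Perm n := by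
  have h2 : ∀ e ∈ l, e = 1 ∨ e = 2 := by
    intro e he
    have h := List.single_le_sum (l := l.map fun e => e.natAbs * e.natAbs) (fun _ _ => Nat.zero_le _)
      _ (List.mem_map.2 ⟨e, he, rfl⟩)
    have h0 := hpos e he
    have : e.natAbs ≤ 2 := by nlinarith
    omega
  have key : ∀ l : List ℤ, (∀ e ∈ l, e = 1 ∨ e = 2) → ∃ a b : ℕ,
      l.Perm (List.replicate a 2 ++ List.replicate b 1) ∧
      (l.map fun e => e.natAbs * e.natAbs).sum = 4 * a + b := by
    intro l
    induction l with
    | nil => intro _; exact ⟨0, 0, .refl _, rfl⟩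
    | cons e l ih =>
      intro hh
      obtain ⟨a, b, hp, hs⟩ := ih fun x hx => hh x (List.mem_cons_of_mem _ hx)
      rcases hh e List.mem_cons_self with rfl | rfl
      · refine ⟨a, b + 1, ?_, ?_⟩
        · rw [List.replicate_succ]
          exact (hp.cons 1).trans List.perm_middle.symm
        · simp [hs]; omega
      · refine ⟨a + 1, b, ?_, ?_⟩
        · rw [List.replicate_succ]
          exact hp.cons 2
        · simp [hs]; omega
  obtain ⟨a, b, hp, hs⟩ := key l h2
  rw [hs] at h4 ⊢
  refine ⟨_, ?_, hp⟩
  rcases a with _ | _ | a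
  · rcases b with _ | _ | _ | _ | _ | _ | _ | b <;> first | (simp [news]; done) | omega
  · rcases b with _ | _ | _ | b <;> first | (simp [news]; done) | omega
  · omega

/-- A lexicographic comparison. -/
def lexLE : List ℤ → List ℤ → Bool
  | [], _ => true
  | _ :: _, [] => false
  | a :: l, b :: m => if a < b then true else if b < a then false else lexLE l m

/-- Insert a column. -/
def insertCol (c : List ℤ) : List (List ℤ) → List (List ℤ)
  | [] => [c]
  | d :: l => if lexLE c d then c :: d :: l else d :: insertCol c l

/-- Sort the columns. -/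
def sortCols : List (List ℤ) → List (List ℤ)
  | [] => []
  | c :: l => insertCol c (sortCols l)

theorem insertCol_perm (c : List ℤ) : ∀ l : List (List ℤ), (insertCol c l).Perm (c :: l)
  | [] => .refl _
  | d :: l => by
    rw [insertCol]
    split_ifs
    · exact .refl _
    · exact ((insertCol_perm c l).cons d).trans (.swap c d l)

theorem sortCols_perm : ∀ l : List (List ℤ), (sortCols l).Perm l
  | [] => .refl _
  | c :: l => (insertCol_perm c _).trans ((sortCols_perm l).cons c)

theorem exists_perm_map {α β : Type*} (f : α → β) :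
    ∀ {l : List α} {m : List β}, (l.map f).Perm m → ∃ l', l.Perm l' ∧ l'.map f = m := by
  intro l m h
  generalize e : l.map f = x at h
  induction h generalizing l with
  | nil => exact ⟨l, .refl _, e⟩
  | cons b _ ih =>
    obtain ⟨a, l, rfl, rfl, rfl⟩ := List.map_eq_cons_iff.1 e
    obtain ⟨l', h1, h2⟩ := ih rfl
    exact ⟨a :: l', h1.cons a, by simp [h2]⟩
  | swap b c t =>
    obtain ⟨a, l, rfl, rfl, e'⟩ := List.map_eq_cons_iff.1 e
    obtain ⟨a', l, rfl, rfl, rfl⟩ := List.map_eq_cons_iff.1 e'
    exact ⟨a' :: a :: l, .swap _ _ _, by simp⟩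
  | trans _ _ ih₁ ih₂ =>
    obtain ⟨l', h1, h2⟩ := ih₁ e
    obtain ⟨l'', h3, h4⟩ := ih₂ h2
    exact ⟨l'', h1.trans h3, h4⟩

/-- All ways of adding one vector, with first entry `c0`, to a configuration. -/
def extend (k : ℕ) (S : List (List ℤ)) (c0 : ℤ) (need : List ℤ) (norm : ℕ) :
    List (List (List ℤ)) :=
  match S with
  | [] => []
  | h :: t =>
    let need' := (List.range k).map fun j => need.getD j 0 - c0 * h.getD j 0
    (solve (withMasks k t.reverse) need' (norm - c0.natAbs * c0.natAbs)).flatMap fun r =>
      (news r.2).map fun nw => (h ++ [c0]) ::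
        sortCols (((t.zip r.1.reverse).map fun p => p.1 ++ [p.2]) ++
          nw.map fun e => List.replicate k 0 ++ [e])

variable {I : Type*} [Fintype I] [DecidableEq I]

/-- The first `k` entries of a signed row. -/
def rowOf (F : ℕ → I → ℤ) (k : ℕ) (p : I × ℤ) : List ℤ :=
  (List.range k).map fun j => p.2 * F j p.1

/-- The configuration `S` describes the first `k` vectors. -/
def Cover (F : ℕ → I → ℤ) (o : I) (k : ℕ) (S : List (List ℤ)) : Prop :=
  ∃ L : List (I × ℤ), (((o, 1) :: L).map (rowOf F k) = S) ∧
    (((o, 1) :: L).map Prod.fst).Nodup ∧ (∀ p ∈ L, p.2 = 1 ∨ p.2 = -1) ∧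
    ∀ i, i ∉ ((o, 1) :: L).map Prod.fst → ∀ j < k, F j i = 0

theorem cover_zero (F : ℕ → I → ℤ) (o : I) : Cover F o 0 [[]] :=
  ⟨[], by simp [rowOf], by simp, by simp, by simp⟩

theorem sum_cover {M : Type*} [AddCommMonoid M] (L : List (I × ℤ)) (h : (L.map Prod.fst).Nodup)
    (f : I → M) (hf : ∀ i, i ∉ L.map Prod.fst → f i = 0) :
    ∑ i, f i = (L.map fun p => f p.1).sum := by
  rw [show (L.map fun p => f p.1) = (L.map Prod.fst).map f by simp [Function.comp_def],
    ← List.sum_toFinset f h]
  exact (Finset.sum_subset (Finset.subset_univ _) fun i _ hi => hf i (by simpa using hi)).symm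

theorem rowOf_succ (F : ℕ → I → ℤ) (k : ℕ) (p : I × ℤ) :
    rowOf F (k + 1) p = rowOf F k p ++ [p.2 * F k p.1] := by
  simp [rowOf, List.range_succ]

theorem dotAt_reverse (cs : List (List ℤ)) (x : List ℤ) (j : ℕ) (h : x.length = cs.length) :
    dotAt cs.reverse x.reverse j = dotAt cs x j := by
  rw [dotAt, dotAt]
  unfold List.zip
  rw [← List.reverse_zipWith (h.symm), List.map_reverse, List.sum_reverse]

theorem cover_succ (F : ℕ → I → ℤ) (o : I) {k : ℕ} {S : List (List ℤ)} (hS : Cover F o k S)
    {c0 : ℤ} {need : List ℤ} {norm : ℕ} (hn : norm ≤ 6) (hc0 : F k o = c0)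
    (hneed : ∀ j < k, ∑ i, F j i * F k i = need.getD j 0)
    (hnorm : ∑ i, F k i * F k i = norm) :
    ∃ T ∈ extend k S c0 need norm, Cover F o (k + 1) T := by
  obtain ⟨L, rfl, hnd, hsgn, hout⟩ := hS
  set ids := ((o, (1 : ℤ)) :: L).map Prod.fst with hids
  -- the new columns
  set N := (Finset.univ.filter fun i => i ∉ ids ∧ F k i ≠ 0) with hN
  set P : List (I × ℤ) := N.toList.map fun i => (i, if 0 < F k i then 1 else -1) with hP
  have hPfst : P.map Prod.fst = N.toList := by simp [hP, Function.comp_def]
  have hPsgn : ∀ p ∈ P, p.2 = 1 ∨ p.2 = -1 := by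
    intro p hp
    obtain ⟨i, -, rfl⟩ := List.mem_map.1 hp
    show (if 0 < F k i then (1 : ℤ) else -1) = 1 ∨ (if 0 < F k i then (1 : ℤ) else -1) = -1
    split_ifs
    exacts [Or.inl rfl, Or.inr rfl]
  have hnd' : (ids ++ P.map Prod.fst).Nodup := by
    rw [List.nodup_append]
    refine ⟨hnd, by rw [hPfst]; exact N.nodup_toList, fun i hi j hj hij => ?_⟩
    rw [hPfst, Finset.mem_toList, hN, Finset.mem_filter] at hj
    exact hj.2.1 (hij ▸ hi)
  have hzero : ∀ i, i ∉ ((o, (1 : ℤ)) :: L ++ P).map Prod.fst → F k i = 0 := by
    intro i hi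
    by_contra h
    refine hi ?_
    rw [List.map_append, List.mem_append]
    by_cases h1 : i ∈ ids
    · exact Or.inl h1
    · exact Or.inr (by rw [hPfst, Finset.mem_toList, hN, Finset.mem_filter]; simp [h1, h])
  have hsq : ∀ p : I × ℤ, p.2 = 1 ∨ p.2 = -1 →
      ((p.2 * F k p.1).natAbs * (p.2 * F k p.1).natAbs : ℤ) = F k p.1 * F k p.1 := by
    intro p hp
    rw [Int.natAbs_mul_self']
    rcases hp with e | e <;> rw [e] <;> ring
  clear_value P
  set x := L.map fun p => p.2 * F k p.1 with hx
  set y := P.map fun p => p.2 * F k p.1 with hy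
  have hnorm' : c0.natAbs * c0.natAbs + (x.map fun e => e.natAbs * e.natAbs).sum +
      (y.map fun e => e.natAbs * e.natAbs).sum = norm := by
    rw [sum_cover (((o, (1 : ℤ)) :: L) ++ P) (by rw [List.map_append]; exact hnd') _
      (fun i hi => by rw [hzero i hi, zero_mul])] at hnorm
    simp only [List.map_append, List.map_cons, List.sum_append, List.sum_cons, hc0] at hnorm
    have e : ∀ Q : List (I × ℤ), (∀ p ∈ Q, p.2 = 1 ∨ p.2 = -1) →
        ((((Q.map fun p => p.2 * F k p.1).map fun e => e.natAbs * e.natAbs).sum : ℕ) : ℤ) =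
          (Q.map fun p => F k p.1 * F k p.1).sum := by
      intro Q hQ
      induction Q with
      | nil => simp
      | cons p Q ih =>
        simp only [List.map_cons, List.sum_cons, Nat.cast_add, Nat.cast_mul]
        rw [ih fun q hq => hQ q (List.mem_cons_of_mem _ hq), hsq p (hQ p List.mem_cons_self)]
    have hh : ((c0.natAbs * c0.natAbs : ℕ) : ℤ) = c0 * c0 := by
      rw [Nat.cast_mul, Int.natAbs_mul_self']
    have e1 := e L hsgn
    have e2 := e P hPsgn
    rw [← hx] at e1
    rw [← hy] at e2
    omega
  have hsolve := solve_complete k (L.map (rowOf F k)).reverse x.reverse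
    ((List.range k).map fun j => need.getD j 0 - c0 * (rowOf F k (o, 1)).getD j 0)
    (norm - c0.natAbs * c0.natAbs) (by simp [hx]) (by omega) (fun j hj => ?_)
    (by rw [List.map_reverse, List.sum_reverse]; omega)
  · have hy4 : (y.map fun e => e.natAbs * e.natAbs).sum ≤ 6 := by omega
    have hypos : ∀ e ∈ y, 0 < e := by
      intro e he
      simp only [hy, hP, List.map_map, List.mem_map, Function.comp, Finset.mem_toList, hN,
        Finset.mem_filter] at he
      obtain ⟨i, ⟨-, -, hi⟩, rfl⟩ := he
      split_ifs with h <;> omega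
    obtain ⟨nw, hnw, hperm⟩ := perm_mem_news y hypos hy4
    -- the rows of the enlarged list
    have hrows : ((L ++ P).map (rowOf F (k + 1))).Perm
        (sortCols ((((L.map (rowOf F k)).zip x).map fun p => p.1 ++ [p.2]) ++
          nw.map fun e => List.replicate k 0 ++ [e])) := by
      refine List.Perm.trans ?_ (sortCols_perm _).symm
      rw [List.map_append]
      refine List.Perm.append ?_ ?_
      · rw [hx, List.zip_map', List.map_map]
        refine List.Perm.of_eq (List.map_congr_left fun p _ => ?_)
        exact rowOf_succ F k p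
      · refine List.Perm.trans (List.Perm.of_eq ?_) (hperm.map _)
        rw [hy, List.map_map]
        refine List.map_congr_left fun p hp => ?_
        rw [Function.comp, rowOf_succ]
        congr 1
        have hp1 : p.1 ∉ ids := by
          have : p.1 ∈ P.map Prod.fst := List.mem_map.2 ⟨p, hp, rfl⟩
          rw [hPfst, Finset.mem_toList, hN, Finset.mem_filter] at this
          exact this.2.1
        refine List.eq_replicate_iff.2 ⟨by simp [rowOf], fun a ha => ?_⟩
        obtain ⟨j, hj, rfl⟩ := List.mem_map.1 ha
        rw [hout _ hp1 j (List.mem_range.1 hj), mul_zero]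
    obtain ⟨L', hL', hL'e⟩ := exists_perm_map (rowOf F (k + 1)) hrows
    refine ⟨rowOf F (k + 1) (o, 1) :: L'.map (rowOf F (k + 1)), ?_, L', rfl, ?_, ?_, ?_⟩
    · simp only [extend, List.map_cons]
      refine List.mem_flatMap.2 ⟨_, hsolve, List.mem_map.2 ⟨nw, ?_, ?_⟩⟩
      · have e : norm - c0.natAbs * c0.natAbs - (x.map fun e => e.natAbs * e.natAbs).sum =
          (y.map fun e => e.natAbs * e.natAbs).sum := by omega
        rw [List.map_reverse, List.sum_reverse, e]
        exact hnw
      · rw [List.reverse_reverse, hL'e, rowOf_succ, one_mul, hc0]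
    · rw [List.map_cons, ((hL'.map Prod.fst).cons o).symm.nodup_iff]
      simpa [hids] using hnd'
    · intro p hp
      rcases List.mem_append.1 (hL'.mem_iff.2 hp) with h | h
      exacts [hsgn p h, hPsgn p h]
    · intro i hi j hj
      have hi' : i ∉ ((o, (1 : ℤ)) :: L ++ P).map Prod.fst := fun h => hi (by
        simpa [List.cons_append] using ((hL'.map Prod.fst).cons o).mem_iff.1
          (by simpa [List.cons_append] using h))
      rcases Nat.lt_succ_iff_lt_or_eq.1 hj with hj' | rfl
      · exact hout i (fun h => hi' (by rw [List.map_append]; exact List.mem_append_left _ h)) j hj'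
      · exact hzero i hi'
  · -- the inner products
    simp only [List.length_map, List.length_range] at hj
    rw [getD_map_range _ hj, rowOf, getD_map_range _ hj, ← hneed j hj, one_mul,
      sum_cover ((o, 1) :: L) hnd _ (fun i hi => by rw [hout i hi j hj, zero_mul])]
    simp only [List.map_cons, List.sum_cons, hc0]
    rw [dotAt_reverse _ _ _ (by simp [hx]), mul_comm c0, add_sub_cancel_left, dotAt, hx, List.zip_map', List.map_map]
    congr 1
    refine List.map_congr_left fun p hp => ?_
    show ((List.range k).map fun j => p.2 * F j p.1).getD j 0 * (p.2 * F k p.1) = _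
    rw [getD_map_range _ hj]
    rcases hsgn p hp with e | e <;> rw [e] <;> ring

end Cfsg.Agent.G23Two
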